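import Cfsg.Agent.Lib.J3Unique.Pres

/-!
# The outer letter is determined
-/

set_option autoImplicit false
set_option linter.unusedSectionVars false
set_option maxRecDepth 100000
set_option synthInstance.maxSize 1024
set_option synthInstance.maxHeartbeats 400000

namespace CfsgLib.J3Unique

open Subgroup CfsgLib.PresCert
open CfsgLib.Small.JTwoType (Pre)
open CfsgLib.J1Unique (PG pg pg_rel toG toG_pg presModel closure_pg wv)

/-- the side conditions of a certificate -/
def CertSide (C : Cert) : Prop :=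
  C.g = 10 ∧ C.n = 1 ∧ (∀ w ∈ C.rels, ∀ x ∈ w, x < C.g) ∧
    (∀ x < C.g, C.iv x < C.g ∧ ([x, C.iv x] ∈ C.rels ∨ [C.iv x, x] ∈ C.rels)) ∧
    ∀ r ∈ C.subs, ∃ l < 10, isN l = true ∧ r = [l]

theorem sideA : CertSide BadA.cert := by unfold CertSide; decide +kernel
theorem sideB : CertSide BadB.cert := by unfold CertSide; decide +kernel
theorem sideC : CertSide BadC.cert := by unfold CertSide; decide +kernel

theorem x_not_normal : ∃ v < 16, ∀ w < 16, sigC (eo v) ≠ eo w := by decide +kernel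

variable {G : Type*} [Group G] [Finite G] {S : Pre G}

namespace Ctx

variable (D : Ctx S)

theorem ψ_mem_N {p : ℕ} (hp : p / 16 ∈ lL) : D.ψ p ∈ D.K.N :=
  mul_mem (D.K.acts_eH (Nat.mod_lt _ (by norm_num))).nml (D.lift_spec hp).1.nml

theorem x_not_mem_N : D.x ∉ D.K.N := by
  intro h
  obtain ⟨v, hv, hne⟩ := x_not_normal
  obtain ⟨w, hw, e⟩ := (Coord.mem_N D.K).1 h v hv
  refine hne w hw (D.K.Φ_inj ?_ (eo_lt hw) ?_)
  · exact cm_lt (cm_lt (by norm_num) (eo_lt hv)) (by norm_num)
  · rw [← D.x_conj (eo_lt hv)]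
    rwa [inv_eq_of_mul_eq_one_right D.x_sq] at e

theorem bad_false {s0 : ℕ} (h : D.Good s0) {C : Cert} {js : List Cert.Just}
    (V : Cert.Valid C js) (hs : CertSide C) {rw' : List (List ℕ × Why)}
    (hr : rw'.map Prod.fst = C.rels) (hok : (rw'.all fun p => okRel s0 p.1 p.2) = true) : False := by
  obtain ⟨hg, hn, hlt, hinv, hsub⟩ := hs
  have hX : ∀ w ∈ C.rels, wv (D.X s0) w = 1 := by
    intro w hw
    rw [← hr] at hw
    obtain ⟨p, hp, rfl⟩ := List.mem_map.1 hw
    exact okRel_sound h (List.all_eq_true.1 hok p hp)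
  let φ : PG C.g C.rels →* G := toG C.g C.rels (D.X s0) hlt hX
  have hT : ∀ r ∈ C.subs, wv (pg C.g C.rels) r ∈ D.K.N.comap φ := by
    intro r hr'
    obtain ⟨l, hl, hN, rfl⟩ := hsub r hr'
    rw [show wv (pg C.g C.rels) [l] = pg C.g C.rels l by simp [wv], mem_comap]
    change toG C.g C.rels (D.X s0) hlt hX (pg C.g C.rels l) ∈ D.K.N
    rw [toG_pg _ _ _ (hg ▸ hl), (D.X_n hN).1]
    exact D.ψ_mem_N (D.X_n (s0 := s0) hN).2
  obtain ⟨hi, hf⟩ := Cert.index_le (presModel C hlt hinv (D.K.N.comap φ) hT) V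
  change (D.K.N.comap φ).index ≤ C.n at hi
  change (D.K.N.comap φ).FiniteIndex at hf
  have htop : D.K.N.comap φ = ⊤ := by
    rw [← index_eq_one]
    have := hf.index_ne_zero
    omega
  have h6 : pg C.g C.rels 6 ∈ D.K.N.comap φ := htop ▸ mem_top _
  rw [mem_comap] at h6
  change toG C.g C.rels (D.X s0) hlt hX (pg C.g C.rels 6) ∈ D.K.N at h6
  rw [toG_pg _ _ _ (by omega)] at h6
  exact D.x_not_mem_N h6

/-- The outer letter. -/
theorem good_letter : D.Good 1628 := by
  obtain ⟨s, hs, hinv⟩ := D.exists_s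
  have h : D.Good s := ⟨hs, hinv⟩
  obtain ⟨-, okA, okB, okC⟩ := rw_ok
  obtain ⟨-, rA, rB, rC, -⟩ := rw_rels
  simp only [s0L, List.mem_cons, List.not_mem_nil, or_false] at hs
  rcases hs with rfl | rfl | rfl | rfl
  · exact h
  · exact (D.bad_false h BadA.valid sideA rA okA).elim
  · exact (D.bad_false h BadB.valid sideB rB okB).elim
  · exact (D.bad_false h BadC.valid sideC rC okC).elim

theorem rels_hold {w : List ℕ} (hw : w ∈ allRels) : wv (D.X 1628) w = 1 := by
  obtain ⟨p, hp, rfl⟩ := List.mem_map.1 hw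
  exact okRel_sound D.good_letter (List.all_eq_true.1 rw_ok.1 p hp)

/-- The homomorphism from the presented group. -/
noncomputable def φ : P3 →* G := toG 10 allRels (D.X 1628) pres_facts.1 fun _ hw => D.rels_hold hw

theorem φ_gen {l : ℕ} (hl : l < 10) : D.φ (pX l) = D.X 1628 l := toG_pg _ _ _ hl

/-- The image of the presented group. -/
noncomputable def M : Subgroup G := D.φ.range

theorem X_mem {l : ℕ} (hl : l < 10) : D.X 1628 l ∈ D.M := ⟨pX l, D.φ_gen hl⟩

theorem card_M : Nat.card D.M ≤ 50232960 := by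
  haveI := card_P3.1
  exact (Nat.card_le_card_of_surjective _ D.φ.rangeRestrict_surjective).trans card_P3.2

end Ctx

end CfsgLib.J3Unique
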