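import Cfsg.Agent.Lib.Small.JankoTwoLocal

/-!
# The extraspecial subgroup contains its centralizer when there is one class of involutions
-/

set_option autoImplicit false
set_option linter.unusedSectionVars false

namespace CfsgLib.J3Unique

open Subgroup
open CfsgLib.Small

theorem comm_of_two_group_A5 : ∀ a b : alternatingGroup (Fin 5),
    (∃ k : ℕ, Nat.card (Subgroup.closure ({a, b} : Set (alternatingGroup (Fin 5)))) = 2 ^ k) →
    a * b = b * a := by
  intro a b ⟨k, hk⟩
  haveI : Fact (Nat.Prime 2) := ⟨Nat.prime_two⟩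
  have hdvd : Nat.card (Subgroup.closure ({a, b} : Set (alternatingGroup (Fin 5)))) ∣ 60 := by
    have := card_subgroup_dvd_card (Subgroup.closure ({a, b} : Set (alternatingGroup (Fin 5))))
    rwa [nat_card_alternatingGroup, Nat.card_fin] at this
  have hk2 : k ≤ 2 := by
    by_contra hc
    rw [hk] at hdvd
    exact absurd ((pow_dvd_pow 2 (show 3 ≤ k by omega)).trans hdvd) (by norm_num)
  have hc : IsMulCommutative (Subgroup.closure ({a, b} : Set (alternatingGroup (Fin 5)))) := by
    interval_cases k
    · haveI : Subsingleton (Subgroup.closure ({a, b} : Set (alternatingGroup (Fin 5)))) :=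
        (Nat.card_eq_one_iff_unique.1 (by simpa using hk)).1
      exact ⟨⟨fun _ _ => Subsingleton.elim _ _⟩⟩
    · haveI : IsCyclic (Subgroup.closure ({a, b} : Set (alternatingGroup (Fin 5)))) :=
        isCyclic_of_prime_card (p := 2) (by simpa using hk)
      letI := IsCyclic.commGroup (α := Subgroup.closure ({a, b} : Set (alternatingGroup (Fin 5))))
      exact ⟨⟨mul_comm⟩⟩
    · exact ⟨⟨IsPGroup.commutative_of_card_eq_prime_sq (p := 2) (by simpa using hk)⟩⟩
  have := hc.is_comm.comm (⟨a, subset_closure (by simp)⟩ : Subgroup.closure _)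
    ⟨b, subset_closure (by simp)⟩
  exact congrArg Subtype.val this

theorem exists_noncomm_A5 : ∃ a b : alternatingGroup (Fin 5), a * b ≠ b * a := by
  decide

variable {G : Type*} [Group G] [Finite G]

/-- In a group with one class of involutions the extraspecial subgroup of an involution
centralizer with quotient `A₅` contains its centralizer. -/
theorem cent_of_hone (t : G) (ht : orderOf t = 2)
    (Q : Subgroup (centralizer ({t} : Set G))) [Q.Normal] (hX : Cfsg.IsExtraspecial 2 Q)
    (hcard : Nat.card Q = 32)
    (proj : centralizer ({t} : Set G) →* alternatingGroup (Fin 5))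
    (hsurj : Function.Surjective proj) (hker : proj.ker = Q)
    (hone : ∀ x y : G, orderOf x = 2 → orderOf y = 2 → IsConj x y) :
    centralizer (Q : Set (centralizer ({t} : Set G))) ≤ Q := by
  classical
  haveI : Fact (Nat.Prime 2) := ⟨Nat.prime_two⟩
  haveI : IsSimpleGroup (alternatingGroup (Fin 5)) := alternatingGroup.isSimpleGroup_five
  set R := centralizer (Q : Set (centralizer ({t} : Set G))) with hR
  haveI hRn : R.Normal := inferInstance
  rcases IsSimpleGroup.eq_bot_or_eq_top_of_normal _ (hRn.map proj hsurj) with h | h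
  · intro r hr
    rw [← hker, MonoidHom.mem_ker, ← Subgroup.mem_bot, ← h]
    exact mem_map_of_mem _ hr
  exfalso
  obtain ⟨w, hw⟩ := exists_ESTwo hX
  -- `t` is the central involution of `Q`
  let tC : centralizer ({t} : Set G) := ⟨t, mem_centralizer_singleton_iff.2 rfl⟩
  have htc : ∀ y, y * tC = tC * y := fun y => Subtype.ext (mem_centralizer_singleton_iff.1 y.2)
  have htQ : tC ∈ Q := by
    rw [← hker, MonoidHom.mem_ker]
    have hc : proj tC ∈ center (alternatingGroup (Fin 5)) := mem_center_iff.2 fun a => by
      obtain ⟨y, rfl⟩ := hsurj a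
      rw [← map_mul, ← map_mul, htc]
    rcases IsSimpleGroup.eq_bot_or_eq_top_of_normal (center (alternatingGroup (Fin 5)))
        inferInstance with hb | hb
    · rwa [hb, mem_bot] at hc
    · have h1 : IsMulCommutative (alternatingGroup (Fin 5)) :=
        ⟨⟨fun a b => mem_center_iff.1 (hb ▸ mem_top b) a⟩⟩
      obtain ⟨a, b, hab⟩ := exists_noncomm_A5
      exact absurd (h1.is_comm.comm a b) hab
  have hwt : ((w : centralizer ({t} : Set G)) : G) = t := by
    have hmem : (⟨tC, htQ⟩ : Q) ∈ center Q := mem_center_iff.2 fun q => Subtype.ext (htc q)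
    rcases (hw.center_iff _).1 hmem with e | e
    · have e' : t = 1 := congrArg (fun q : Q => ((q : centralizer ({t} : Set G)) : G)) e
      rw [e', orderOf_one] at ht
      exact absurd ht (by norm_num)
    · exact (congrArg (fun q : Q => ((q : centralizer ({t} : Set G)) : G)) e).symm
  -- commutators of elements with commuting images
  have key : ∀ x y : centralizer ({t} : Set G), proj x * proj y = proj y * proj x →
      (x : G) * y = y * x ∨ (x : G) * y = y * x * t := by
    intro x y hxy
    obtain ⟨r, hr, er⟩ : proj x ∈ R.map proj := h ▸ mem_top _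
    obtain ⟨r', hr', er'⟩ : proj y ∈ R.map proj := h ▸ mem_top _
    obtain ⟨q, hq, rfl⟩ : ∃ q ∈ Q, x = q * r :=
      ⟨x * r⁻¹, by rw [← hker, MonoidHom.mem_ker, map_mul, map_inv, er, mul_inv_cancel],
        by simp⟩
    obtain ⟨q', hq', rfl⟩ : ∃ q' ∈ Q, y = q' * r' :=
      ⟨y * r'⁻¹, by rw [← hker, MonoidHom.mem_ker, map_mul, map_inv, er', mul_inv_cancel],
        by simp⟩
    have c1 : r * q' = q' * r := (mem_centralizer_iff.1 hr q' hq').symm
    have c2 : r' * q = q * r' := (mem_centralizer_iff.1 hr' q hq).symm
    have hd : r * r' = r' * r * 1 ∨ r * r' = r' * r * tC := by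
      have hm : (r' * r)⁻¹ * (r * r') ∈ Q := by
        rw [← hker, MonoidHom.mem_ker, map_mul, map_inv, map_mul, map_mul]
        rw [map_mul, map_mul] at hxy
        have e1 : proj q = 1 := MonoidHom.mem_ker.1 (hker.symm ▸ hq)
        have e2 : proj q' = 1 := MonoidHom.mem_ker.1 (hker.symm ▸ hq')
        simp only [e1, e2, one_mul] at hxy
        rw [hxy, inv_mul_cancel]
      have hmc : (⟨_, hm⟩ : Q) ∈ center Q := mem_center_iff.2 fun u => Subtype.ext
        (mem_centralizer_iff.1 (mul_mem (inv_mem (mul_mem hr' hr)) (mul_mem hr hr') : _ ∈ R) u u.2)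
      rcases (hw.center_iff _).1 hmc with e | e
      · exact Or.inl (by rw [mul_one]; exact (inv_mul_eq_one.1 (congrArg Subtype.val e)).symm)
      · exact Or.inr (inv_mul_eq_iff_eq_mul.1 ((congrArg Subtype.val e).trans (Subtype.ext hwt)))
    have hq2 : q * q' = q' * q * 1 ∨ q * q' = q' * q * tC := by
      rcases hw.comm_eq ⟨q, hq⟩ ⟨q', hq'⟩ with e | e
      · exact Or.inl (by rw [mul_one]; exact congrArg Subtype.val e)
      · refine Or.inr ?_
        have := congrArg Subtype.val e
        rw [show tC = (w : centralizer ({t} : Set G)) from Subtype.ext hwt.symm]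
        exact this
    have htt : tC * tC = 1 := Subtype.ext (by
      show t * t = 1
      rw [← sq, ← ht, pow_orderOf_eq_one])
    have main : ∀ a b : centralizer ({t} : Set G), (a = 1 ∨ a = tC) → (b = 1 ∨ b = tC) →
        q * q' = q' * q * a → r * r' = r' * r * b →
        q * r * (q' * r') = q' * r' * (q * r) * (a * b) := by
      intro a b ha _ e1 e2
      have hca : ∀ y, a * y = y * a := fun y => by
        rcases ha with rfl | rfl
        · simp
        · exact (htc y).symm
      calc q * r * (q' * r') = q * (r * q') * r' := by simp [mul_assoc]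
        _ = q * q' * (r * r') := by rw [c1]; simp [mul_assoc]
        _ = q' * q * (a * (r' * r)) * b := by rw [e1, e2]; simp [mul_assoc]
        _ = q' * (q * r') * r * (a * b) := by rw [hca]; simp [mul_assoc]
        _ = _ := by rw [← c2]; simp [mul_assoc]
    rcases hq2 with e1 | e1 <;> rcases hd with e2 | e2 <;>
      have e := congrArg Subtype.val (main _ _ (by simp) (by simp) e1 e2)
    · exact Or.inl (by simpa using e)
    · exact Or.inr (by simpa [tC] using e)
    · exact Or.inr (by simpa [tC] using e)
    · rw [htt] at e; exact Or.inl (by simpa using e)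
  -- a large abelian subgroup does not exist
  have hQ1 : Nat.card (center Q) = 2 := hX.2
  let φ : Q → Q →* center Q := fun a =>
    { toFun := fun y => ⟨a⁻¹ * y⁻¹ * a * y, by
        rcases hw.comm_eq a y with e | e
        · have : a⁻¹ * y⁻¹ * a * y = 1 := by rw [mul_assoc _ a y, e]; group
          rw [this]; exact one_mem _
        · have : a⁻¹ * y⁻¹ * a * y = w := by
            rw [mul_assoc _ a y, e]; group
          rw [this]; exact (hw.center_iff w).2 (Or.inr rfl)⟩
      map_one' := Subtype.ext (by simp)
      map_mul' := fun y y' => by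
        have hc : a⁻¹ * y⁻¹ * a * y ∈ center Q := by
          rcases hw.comm_eq a y with e | e
          · have : a⁻¹ * y⁻¹ * a * y = 1 := by rw [mul_assoc _ a y, e]; group
            rw [this]; exact one_mem _
          · have : a⁻¹ * y⁻¹ * a * y = w := by rw [mul_assoc _ a y, e]; group
            rw [this]; exact (hw.center_iff w).2 (Or.inr rfl)
        apply Subtype.ext
        show a⁻¹ * (y * y')⁻¹ * a * (y * y') =
          (a⁻¹ * y⁻¹ * a * y) * (a⁻¹ * y'⁻¹ * a * y')
        rw [← mem_center_iff.1 hc (a⁻¹ * y'⁻¹ * a * y'), mul_inv_rev]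
        have := mem_center_iff.1 hc (a⁻¹ * y'⁻¹ * a)
        calc _ = (a⁻¹ * y'⁻¹ * a) * (a⁻¹ * y⁻¹ * a * y) * y' := by group
          _ = _ := by rw [mul_assoc, mem_center_iff.1 hc y' |>.symm]; group }
  have hker' : ∀ a y : Q, y ∈ (φ a).ker → a * y = y * a := fun a y hy => by
    have h1 : a⁻¹ * y⁻¹ * a * y = 1 := congrArg Subtype.val hy
    calc a * y = y * a * (a⁻¹ * y⁻¹ * a * y) := by group
      _ = y * a := by rw [h1, mul_one]
  have hbig : ∀ a : Q, 16 ≤ Nat.card (φ a).ker := fun a => by
    have h1 := (φ a).ker.card_mul_index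
    rw [Subgroup.index_ker, hcard] at h1
    have h2 : Nat.card (φ a).range ≤ 2 := hQ1 ▸ Nat.card_le_card_of_injective _ Subtype.val_injective
    nlinarith
  obtain ⟨a, ha2, ha1, hat⟩ : ∃ a : Q, a * a = 1 ∧ a ≠ 1 ∧ a ≠ w := by
    by_contra hno
    push Not at hno
    obtain ⟨x, hx⟩ : ∃ x : Q, x ∉ center Q := by
      by_contra hall
      push Not at hall
      have h1 : center Q = ⊤ := eq_top_iff.2 fun y _ => hall y
      rw [h1, card_top, hcard] at hQ1
      exact absurd hQ1 (by norm_num)
    have hx4 : ∀ y : Q, y ∉ center Q → y ^ 2 = w := fun y hy =>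
      (hw.sq_eq y).resolve_left fun e => hy ((hw.center_iff y).2
        (or_iff_not_imp_left.2 (hno y (by rwa [← sq]))))
    have hsub : ∀ y ∈ (φ x).ker, y ∈ zpowers x := by
      intro y hy
      by_cases hyc : y ∈ center Q
      · rcases (hw.center_iff y).1 hyc with rfl | rfl
        · exact one_mem _
        · rw [← hx4 x hx]; exact pow_mem (mem_zpowers x) 2
      · have hc : x * y = y * x := hker' x y hy
        have h2 : (x * y) * (x * y) = 1 := by
          rw [← sq, (show Commute x y from hc).mul_pow, hx4 x hx, hx4 y hyc, hw.mul_self]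
        have hy' : y = x⁻¹ * (x * y) := by simp
        rw [hy']
        refine mul_mem (inv_mem (mem_zpowers x)) ?_
        by_cases e1 : x * y = 1
        · rw [e1]; exact one_mem _
        · rw [hno _ h2 e1, ← hx4 x hx]; exact pow_mem (mem_zpowers x) 2
    have h1 := card_le_of_le (show (φ x).ker ≤ zpowers x from hsub)
    rw [Nat.card_zpowers] at h1
    have h4 : orderOf x ≤ 4 := orderOf_le_of_pow_eq_one (by norm_num) (by
      rw [show 4 = 2 * 2 from rfl, pow_mul, hx4 x hx, sq, hw.mul_self])
    have := hbig x
    omega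
  obtain ⟨u, hu, v, hv, huv⟩ : ∃ u ∈ (φ a).ker, ∃ v ∈ (φ a).ker, u * v ≠ v * u := by
    by_contra hab
    push Not at hab
    have hne : (φ a).ker ≠ ⊤ := fun e => by
      have : a ∈ center Q := mem_center_iff.2 fun y => (hker' a y (e ▸ mem_top y)).symm
      rcases (hw.center_iff a).1 this with e' | e'
      exacts [ha1 e', hat e']
    obtain ⟨y, -, hy⟩ := SetLike.exists_of_lt hne.lt_top
    have hK : (φ a).ker ⊓ (φ y).ker ≤ center Q := by
      rintro k ⟨k1, k2⟩
      refine mem_center_iff.2 fun q => ?_
      have hle : (φ a).ker ⊔ zpowers y ≤ centralizer ({k} : Set Q) :=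
        sup_le (fun q' hq' => mem_centralizer_singleton_iff.2 (hab q' hq' k k1))
          (zpowers_le.2 (mem_centralizer_singleton_iff.2 (hker' y k k2)))
      have htop : (φ a).ker ⊔ zpowers y = ⊤ := by
        apply eq_top_of_le_card
        have hlt : (φ a).ker < (φ a).ker ⊔ zpowers y := lt_of_le_of_ne le_sup_left fun e =>
          hy (e.symm ▸ le_sup_right (a := (φ a).ker) (mem_zpowers y))
        obtain ⟨j, hj⟩ := card_dvd_of_le hlt.le
        have h1 := card_subgroup_dvd_card ((φ a).ker ⊔ zpowers y)
        have h2 := hbig a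
        rw [hcard] at h1 ⊢
        have hj2 : 2 ≤ j := by
          by_contra hlt'
          interval_cases j
          · exact absurd hj (by simpa using Nat.card_pos.ne')
          · exact hlt.ne (eq_of_le_of_card_ge hlt.le (by omega))
        nlinarith
      exact (mem_centralizer_singleton_iff.1 (hle (htop ▸ mem_top q)))
    have h1 := card_le_of_le hK
    rw [hQ1] at h1
    have h2 : ((φ a).ker ⊓ (φ y).ker).index ≤ (φ a).ker.index * (φ y).ker.index :=
      Subgroup.index_inf_le
    have h3 := ((φ a).ker ⊓ (φ y).ker).card_mul_index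
    have h4 := (φ a).ker.card_mul_index
    have h5 := (φ y).ker.card_mul_index
    rw [hcard] at h3 h4 h5
    have h6 := hbig a
    have h7 := hbig y
    nlinarith
  -- compare with the centralizer of `a`
  have hao : orderOf (((a : centralizer ({t} : Set G))) : G) = 2 := by
    rw [Subgroup.orderOf_coe, Subgroup.orderOf_coe]
    exact orderOf_eq_prime (by rw [sq, ha2]) ha1
  obtain ⟨g, hg⟩ := isConj_iff.1 (hone t _ ht hao)
  have hmem : ∀ s : Q, a * s = s * a →
      g⁻¹ * ((s : centralizer ({t} : Set G)) : G) * g ∈ centralizer ({t} : Set G) := fun s hs => by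
    have hs' : ((a : centralizer ({t} : Set G)) : G) * ((s : centralizer ({t} : Set G)) : G) =
        ((s : centralizer ({t} : Set G)) : G) * ((a : centralizer ({t} : Set G)) : G) :=
      congrArg (fun q : Q => ((q : centralizer ({t} : Set G)) : G)) hs
    rw [mem_centralizer_singleton_iff]
    rw [← hg] at hs'
    calc g⁻¹ * ((s : centralizer ({t} : Set G)) : G) * g * t
        = g⁻¹ * (((s : centralizer ({t} : Set G)) : G) * (g * t * g⁻¹)) * g := by simp [mul_assoc]
      _ = _ := by rw [← hs']; simp [mul_assoc]
  -- the map from the centralizer of `a` in `Q`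
  let ι : (φ a).ker →* centralizer ({t} : Set G) :=
    { toFun := fun s => ⟨_, hmem s.1 (hker' a s.1 s.2)⟩
      map_one' := Subtype.ext (by simp)
      map_mul' := fun s s' => Subtype.ext (by simp [mul_assoc]) }
  have hP : IsPGroup 2 ((proj.comp ι).range) :=
    ((IsPGroup.of_card (n := 5) (hcard.trans (by norm_num)) : IsPGroup 2 Q).to_subgroup
      (φ a).ker).of_surjective _ (proj.comp ι).rangeRestrict_surjective
  have hcm : proj (ι ⟨u, hu⟩) * proj (ι ⟨v, hv⟩) = proj (ι ⟨v, hv⟩) * proj (ι ⟨u, hu⟩) := by
    refine comm_of_two_group_A5 _ _ ?_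
    refine IsPGroup.iff_card.1 (hP.to_le ((closure_le _).2 ?_))
    rintro _ (rfl | rfl)
    · exact ⟨⟨u, hu⟩, rfl⟩
    · exact ⟨⟨v, hv⟩, rfl⟩
  have huv' : ((u : centralizer ({t} : Set G)) : G) * ((v : centralizer ({t} : Set G)) : G) ≠
      ((v : centralizer ({t} : Set G)) : G) * ((u : centralizer ({t} : Set G)) : G) := fun e =>
    huv (Subtype.ext (Subtype.ext e))
  have hcom : ((u : centralizer ({t} : Set G)) : G) * ((v : centralizer ({t} : Set G)) : G) =
      ((v : centralizer ({t} : Set G)) : G) * ((u : centralizer ({t} : Set G)) : G) * t := by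
    exact (congrArg (fun q : Q => ((q : centralizer ({t} : Set G)) : G))
      ((hw.comm_eq u v).resolve_left huv)).trans (congrArg (_ * ·) hwt)
  rcases key _ _ hcm with e | e
  · exact huv' (by
      have e' := congrArg (fun y => g * y * g⁻¹) e
      simpa [ι, mul_assoc] using e')
  · have e' := congrArg (fun y => g * y * g⁻¹) e
    have e'' : ((u : centralizer ({t} : Set G)) : G) * ((v : centralizer ({t} : Set G)) : G) =
        ((v : centralizer ({t} : Set G)) : G) * ((u : centralizer ({t} : Set G)) : G) *
          ((a : centralizer ({t} : Set G)) : G) := by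
      rw [← hg]
      simpa [ι, mul_assoc] using e'
    rw [hcom] at e''
    exact hat (Subtype.ext (Subtype.ext ((mul_left_cancel e'').symm.trans hwt.symm)))

end CfsgLib.J3Unique
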