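import Cfsg.Agent.Lib.J3Unique.CentDerive

/-!
# The centralizer of the extraspecial subgroup when the involution is fused
-/

set_option autoImplicit false
set_option linter.unusedSectionVars false

namespace CfsgLib.J3Unique

open Subgroup
open CfsgLib.Small

variable {G : Type*} [Group G] [Finite G]

/-- When the involution is fused inside its centralizer the extraspecial subgroup of the centralizer
with quotient `A₅` contains its centralizer. -/
theorem cent_of_fused (t : G) (ht : orderOf t = 2)
    (Q : Subgroup (centralizer ({t} : Set G))) [Q.Normal] (hX : Cfsg.IsExtraspecial 2 Q)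
    (hcard : Nat.card Q = 32)
    (proj : centralizer ({t} : Set G) →* alternatingGroup (Fin 5))
    (hsurj : Function.Surjective proj) (hker : proj.ker = Q)
    (hfus : ∃ g : G, g * t * g⁻¹ ∈ centralizer ({t} : Set G) ∧ g * t * g⁻¹ ≠ t) :
    centralizer (Q : Set (centralizer ({t} : Set G))) ≤ Q := by
  classical
  haveI : Fact (Nat.Prime 2) := ⟨Nat.prime_two⟩
  haveI : IsSimpleGroup (alternatingGroup (Fin 5)) := alternatingGroup.isSimpleGroup_five
  set R := centralizer (Q : Set (centralizer ({t} : Set G))) with hR
  haveI hRn : R.Normal := inferInstance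
  rcases IsSimpleGroup.eq_bot_or_eq_top_of_normal _ (hRn.map proj hsurj) with h | h
  · intro r hr
    rw [← hker, MonoidHom.mem_ker, ← Subgroup.mem_bot, ← h]
    exact mem_map_of_mem _ hr
  exfalso
  obtain ⟨w, hw⟩ := exists_ESTwo hX
  -- `t` is the central involution of `Q`
  let tC : centralizer ({t} : Set G) := ⟨t, mem_centralizer_singleton_iff.2 rfl⟩
  have htc : ∀ y, y * tC = tC * y := fun y => Subtype.ext (mem_centralizer_singleton_iff.1 y.2)
  have htQ : tC ∈ Q := by
    rw [← hker, MonoidHom.mem_ker]
    have hc : proj tC ∈ center (alternatingGroup (Fin 5)) := mem_center_iff.2 fun a => by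
      obtain ⟨y, rfl⟩ := hsurj a
      rw [← map_mul, ← map_mul, htc]
    rcases IsSimpleGroup.eq_bot_or_eq_top_of_normal (center (alternatingGroup (Fin 5)))
        inferInstance with hb | hb
    · rwa [hb, mem_bot] at hc
    · have h1 : IsMulCommutative (alternatingGroup (Fin 5)) :=
        ⟨⟨fun a b => mem_center_iff.1 (hb ▸ mem_top b) a⟩⟩
      obtain ⟨a, b, hab⟩ := exists_noncomm_A5
      exact absurd (h1.is_comm.comm a b) hab
  have hwt : ((w : centralizer ({t} : Set G)) : G) = t := by
    have hmem : (⟨tC, htQ⟩ : Q) ∈ center Q := mem_center_iff.2 fun q => Subtype.ext (htc q)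
    rcases (hw.center_iff _).1 hmem with e | e
    · have e' : t = 1 := congrArg (fun q : Q => ((q : centralizer ({t} : Set G)) : G)) e
      rw [e', orderOf_one] at ht
      exact absurd ht (by norm_num)
    · exact (congrArg (fun q : Q => ((q : centralizer ({t} : Set G)) : G)) e).symm
  -- commutators of elements with commuting images
  have key : ∀ x y : centralizer ({t} : Set G), proj x * proj y = proj y * proj x →
      (x : G) * y = y * x ∨ (x : G) * y = y * x * t := by
    intro x y hxy
    obtain ⟨r, hr, er⟩ : proj x ∈ R.map proj := h ▸ mem_top _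
    obtain ⟨r', hr', er'⟩ : proj y ∈ R.map proj := h ▸ mem_top _
    obtain ⟨q, hq, rfl⟩ : ∃ q ∈ Q, x = q * r :=
      ⟨x * r⁻¹, by rw [← hker, MonoidHom.mem_ker, map_mul, map_inv, er, mul_inv_cancel],
        by simp⟩
    obtain ⟨q', hq', rfl⟩ : ∃ q' ∈ Q, y = q' * r' :=
      ⟨y * r'⁻¹, by rw [← hker, MonoidHom.mem_ker, map_mul, map_inv, er', mul_inv_cancel],
        by simp⟩
    have c1 : r * q' = q' * r := (mem_centralizer_iff.1 hr q' hq').symm
    have c2 : r' * q = q * r' := (mem_centralizer_iff.1 hr' q hq).symm
    have hd : r * r' = r' * r * 1 ∨ r * r' = r' * r * tC := by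
      have hm : (r' * r)⁻¹ * (r * r') ∈ Q := by
        rw [← hker, MonoidHom.mem_ker, map_mul, map_inv, map_mul, map_mul]
        rw [map_mul, map_mul] at hxy
        have e1 : proj q = 1 := MonoidHom.mem_ker.1 (hker.symm ▸ hq)
        have e2 : proj q' = 1 := MonoidHom.mem_ker.1 (hker.symm ▸ hq')
        simp only [e1, e2, one_mul] at hxy
        rw [hxy, inv_mul_cancel]
      have hmc : (⟨_, hm⟩ : Q) ∈ center Q := mem_center_iff.2 fun u => Subtype.ext
        (mem_centralizer_iff.1 (mul_mem (inv_mem (mul_mem hr' hr)) (mul_mem hr hr') : _ ∈ R) u u.2)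
      rcases (hw.center_iff _).1 hmc with e | e
      · exact Or.inl (by rw [mul_one]; exact (inv_mul_eq_one.1 (congrArg Subtype.val e)).symm)
      · exact Or.inr (inv_mul_eq_iff_eq_mul.1 ((congrArg Subtype.val e).trans (Subtype.ext hwt)))
    have hq2 : q * q' = q' * q * 1 ∨ q * q' = q' * q * tC := by
      rcases hw.comm_eq ⟨q, hq⟩ ⟨q', hq'⟩ with e | e
      · exact Or.inl (by rw [mul_one]; exact congrArg Subtype.val e)
      · refine Or.inr ?_
        have := congrArg Subtype.val e
        rw [show tC = (w : centralizer ({t} : Set G)) from Subtype.ext hwt.symm]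
        exact this
    have htt : tC * tC = 1 := Subtype.ext (by
      show t * t = 1
      rw [← sq, ← ht, pow_orderOf_eq_one])
    have main : ∀ a b : centralizer ({t} : Set G), (a = 1 ∨ a = tC) → (b = 1 ∨ b = tC) →
        q * q' = q' * q * a → r * r' = r' * r * b →
        q * r * (q' * r') = q' * r' * (q * r) * (a * b) := by
      intro a b ha _ e1 e2
      have hca : ∀ y, a * y = y * a := fun y => by
        rcases ha with rfl | rfl
        · simp
        · exact (htc y).symm
      calc q * r * (q' * r') = q * (r * q') * r' := by simp [mul_assoc]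
        _ = q * q' * (r * r') := by rw [c1]; simp [mul_assoc]
        _ = q' * q * (a * (r' * r)) * b := by rw [e1, e2]; simp [mul_assoc]
        _ = q' * (q * r') * r * (a * b) := by rw [hca]; simp [mul_assoc]
        _ = _ := by rw [← c2]; simp [mul_assoc]
    rcases hq2 with e1 | e1 <;> rcases hd with e2 | e2 <;>
      have e := congrArg Subtype.val (main _ _ (by simp) (by simp) e1 e2)
    · exact Or.inl (by simpa using e)
    · exact Or.inr (by simpa [tC] using e)
    · exact Or.inr (by simpa [tC] using e)
    · rw [htt] at e; exact Or.inl (by simpa using e)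
  -- a large abelian subgroup does not exist
  have hQ1 : Nat.card (center Q) = 2 := hX.2
  let φ : Q → Q →* center Q := fun a =>
    { toFun := fun y => ⟨a⁻¹ * y⁻¹ * a * y, by
        rcases hw.comm_eq a y with e | e
        · have : a⁻¹ * y⁻¹ * a * y = 1 := by rw [mul_assoc _ a y, e]; group
          rw [this]; exact one_mem _
        · have : a⁻¹ * y⁻¹ * a * y = w := by
            rw [mul_assoc _ a y, e]; group
          rw [this]; exact (hw.center_iff w).2 (Or.inr rfl)⟩
      map_one' := Subtype.ext (by simp)
      map_mul' := fun y y' => by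
        have hc : a⁻¹ * y⁻¹ * a * y ∈ center Q := by
          rcases hw.comm_eq a y with e | e
          · have : a⁻¹ * y⁻¹ * a * y = 1 := by rw [mul_assoc _ a y, e]; group
            rw [this]; exact one_mem _
          · have : a⁻¹ * y⁻¹ * a * y = w := by rw [mul_assoc _ a y, e]; group
            rw [this]; exact (hw.center_iff w).2 (Or.inr rfl)
        apply Subtype.ext
        show a⁻¹ * (y * y')⁻¹ * a * (y * y') =
          (a⁻¹ * y⁻¹ * a * y) * (a⁻¹ * y'⁻¹ * a * y')
        rw [← mem_center_iff.1 hc (a⁻¹ * y'⁻¹ * a * y'), mul_inv_rev]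
        have := mem_center_iff.1 hc (a⁻¹ * y'⁻¹ * a)
        calc _ = (a⁻¹ * y'⁻¹ * a) * (a⁻¹ * y⁻¹ * a * y) * y' := by group
          _ = _ := by rw [mul_assoc, mem_center_iff.1 hc y' |>.symm]; group }
  have hker' : ∀ a y : Q, y ∈ (φ a).ker → a * y = y * a := fun a y hy => by
    have h1 : a⁻¹ * y⁻¹ * a * y = 1 := congrArg Subtype.val hy
    calc a * y = y * a * (a⁻¹ * y⁻¹ * a * y) := by group
      _ = y * a := by rw [h1, mul_one]
  have hbig : ∀ a : Q, 16 ≤ Nat.card (φ a).ker := fun a => by
    have h1 := (φ a).ker.card_mul_index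
    rw [Subgroup.index_ker, hcard] at h1
    have h2 : Nat.card (φ a).range ≤ 2 := hQ1 ▸ Nat.card_le_card_of_injective _ Subtype.val_injective
    nlinarith
  obtain ⟨g, hgC, hgne⟩ := hfus
  set a : centralizer ({t} : Set G) := ⟨g * t * g⁻¹, hgC⟩ with ha
  have hcq : ∀ y : Q, (a * y = y * a) ∨ a * y = y * a * tC := fun y => by
    rcases key a y (by
      have : proj (y : centralizer ({t} : Set G)) = 1 := by
        rw [← MonoidHom.mem_ker, hker]; exact y.2
      rw [this, mul_one, one_mul]) with e | e
    · exact Or.inl (Subtype.ext e)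
    · exact Or.inr (Subtype.ext e)
  have hval : ∀ y : Q, a⁻¹ * ((y : centralizer ({t} : Set G)))⁻¹ * a * y = 1 ∨
      a⁻¹ * ((y : centralizer ({t} : Set G)))⁻¹ * a * y = tC := fun y => by
    rcases hcq y with e | e
    · left; rw [mul_assoc _ a (y : centralizer ({t} : Set G)), e]; group
    · right; rw [mul_assoc _ a (y : centralizer ({t} : Set G)), e]; group
  let χ : Q →* center Q :=
    { toFun := fun y => ⟨⟨a⁻¹ * ((y : centralizer ({t} : Set G)))⁻¹ * a * y, by
          rcases hval y with e | e <;> rw [e]
          exacts [one_mem _, htQ]⟩, by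
        rcases hval y with e | e
        · exact (hw.center_iff _).2 (Or.inl (Subtype.ext e))
        · exact (hw.center_iff _).2 (Or.inr (Subtype.ext (e.trans (Subtype.ext hwt.symm))))⟩
      map_one' := Subtype.ext (Subtype.ext (by simp))
      map_mul' := fun y y' => by
        apply Subtype.ext
        apply Subtype.ext
        show a⁻¹ * ((y : centralizer ({t} : Set G)) * y')⁻¹ * a * (y * y') =
          (a⁻¹ * ((y : centralizer ({t} : Set G)))⁻¹ * a * y) *
            (a⁻¹ * ((y' : centralizer ({t} : Set G)))⁻¹ * a * y')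
        have hz : ∀ r : centralizer ({t} : Set G),
            (a⁻¹ * ((y : centralizer ({t} : Set G)))⁻¹ * a * y) * r =
              r * (a⁻¹ * ((y : centralizer ({t} : Set G)))⁻¹ * a * y) := fun r => by
          rcases hval y with e | e <;> rw [e]
          · simp
          · exact (htc r).symm
        rw [hz]
        calc _ = (a⁻¹ * ((y' : centralizer ({t} : Set G)))⁻¹ * a) *
              (a⁻¹ * ((y : centralizer ({t} : Set G)))⁻¹ * a * y) * y' := by group
          _ = (a⁻¹ * ((y' : centralizer ({t} : Set G)))⁻¹ * a) *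
              ((y' : centralizer ({t} : Set G)) *
                (a⁻¹ * ((y : centralizer ({t} : Set G)))⁻¹ * a * y)) := by rw [mul_assoc, hz]
          _ = _ := by group }
  have hχ : ∀ y : Q, y ∈ χ.ker → a * y = y * a := fun y hy => by
    have h1 : a⁻¹ * ((y : centralizer ({t} : Set G)))⁻¹ * a * y = 1 :=
      congrArg (fun z : center Q => ((z : Q) : centralizer ({t} : Set G))) hy
    calc a * (y : centralizer ({t} : Set G))
        = (y : centralizer ({t} : Set G)) * a *
          (a⁻¹ * ((y : centralizer ({t} : Set G)))⁻¹ * a * y) := by group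
      _ = _ := by rw [h1, mul_one]
  have hχbig : 16 ≤ Nat.card χ.ker := by
    have h1 := χ.ker.card_mul_index
    rw [Subgroup.index_ker, hcard] at h1
    have h2 : Nat.card χ.range ≤ 2 := hQ1 ▸ Nat.card_le_card_of_injective _ Subtype.val_injective
    nlinarith
  obtain ⟨u, hu, v, hv, huv⟩ : ∃ u ∈ χ.ker, ∃ v ∈ χ.ker, u * v ≠ v * u := by
    by_contra hab
    push Not at hab
    have hne : χ.ker ≠ ⊤ := fun e => by
      have h1 : center Q = ⊤ := eq_top_iff.2 fun y _ =>
        mem_center_iff.2 fun r => hab r (e ▸ mem_top r) y (e ▸ mem_top y)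
      rw [h1, card_top, hcard] at hQ1
      exact absurd hQ1 (by norm_num)
    obtain ⟨y, -, hy⟩ := SetLike.exists_of_lt hne.lt_top
    have hK : χ.ker ⊓ (φ y).ker ≤ center Q := by
      rintro k ⟨k1, k2⟩
      refine mem_center_iff.2 fun q => ?_
      have hle : χ.ker ⊔ zpowers y ≤ centralizer ({k} : Set Q) :=
        sup_le (fun q' hq' => mem_centralizer_singleton_iff.2 (hab q' hq' k k1))
          (zpowers_le.2 (mem_centralizer_singleton_iff.2 (hker' y k k2)))
      have htop : χ.ker ⊔ zpowers y = ⊤ := by
        apply eq_top_of_le_card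
        have hlt : χ.ker < χ.ker ⊔ zpowers y := lt_of_le_of_ne le_sup_left fun e =>
          hy (e.symm ▸ le_sup_right (a := χ.ker) (mem_zpowers y))
        obtain ⟨j, hj⟩ := card_dvd_of_le hlt.le
        have h1 := card_subgroup_dvd_card (χ.ker ⊔ zpowers y)
        have h2 := hχbig
        rw [hcard] at h1 ⊢
        have hj2 : 2 ≤ j := by
          by_contra hlt'
          interval_cases j
          · exact absurd hj (by simpa using Nat.card_pos.ne')
          · exact hlt.ne (eq_of_le_of_card_ge hlt.le (by omega))
        nlinarith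
      exact (mem_centralizer_singleton_iff.1 (hle (htop ▸ mem_top q)))
    have h1 := card_le_of_le hK
    rw [hQ1] at h1
    have h2 : (χ.ker ⊓ (φ y).ker).index ≤ χ.ker.index * (φ y).ker.index :=
      Subgroup.index_inf_le
    have h3 := (χ.ker ⊓ (φ y).ker).card_mul_index
    have h4 := χ.ker.card_mul_index
    have h5 := (φ y).ker.card_mul_index
    rw [hcard] at h3 h4 h5
    have h6 := hχbig
    have h7 := hbig y
    nlinarith
  have hg : g * t * g⁻¹ = (a : G) := rfl
  have hmem : ∀ s : Q, a * s = s * a →
      g⁻¹ * ((s : centralizer ({t} : Set G)) : G) * g ∈ centralizer ({t} : Set G) := fun s hs => by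
    have hs' : (a : G) * ((s : centralizer ({t} : Set G)) : G) =
        ((s : centralizer ({t} : Set G)) : G) * (a : G) :=
      congrArg (fun q : centralizer ({t} : Set G) => (q : G)) hs
    rw [mem_centralizer_singleton_iff]
    rw [← hg] at hs'
    calc g⁻¹ * ((s : centralizer ({t} : Set G)) : G) * g * t
        = g⁻¹ * (((s : centralizer ({t} : Set G)) : G) * (g * t * g⁻¹)) * g := by simp [mul_assoc]
      _ = _ := by rw [← hs']; simp [mul_assoc]
  -- the map from the centralizer of `a` in `Q`
  let ι : χ.ker →* centralizer ({t} : Set G) :=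
    { toFun := fun s => ⟨_, hmem s.1 (hχ s.1 s.2)⟩
      map_one' := Subtype.ext (by simp)
      map_mul' := fun s s' => Subtype.ext (by simp [mul_assoc]) }
  have hP : IsPGroup 2 ((proj.comp ι).range) :=
    ((IsPGroup.of_card (n := 5) (hcard.trans (by norm_num)) : IsPGroup 2 Q).to_subgroup
      χ.ker).of_surjective _ (proj.comp ι).rangeRestrict_surjective
  have hcm : proj (ι ⟨u, hu⟩) * proj (ι ⟨v, hv⟩) = proj (ι ⟨v, hv⟩) * proj (ι ⟨u, hu⟩) := by
    refine comm_of_two_group_A5 _ _ ?_
    refine IsPGroup.iff_card.1 (hP.to_le ((closure_le _).2 ?_))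
    rintro _ (rfl | rfl)
    · exact ⟨⟨u, hu⟩, rfl⟩
    · exact ⟨⟨v, hv⟩, rfl⟩
  have huv' : ((u : centralizer ({t} : Set G)) : G) * ((v : centralizer ({t} : Set G)) : G) ≠
      ((v : centralizer ({t} : Set G)) : G) * ((u : centralizer ({t} : Set G)) : G) := fun e =>
    huv (Subtype.ext (Subtype.ext e))
  have hcom : ((u : centralizer ({t} : Set G)) : G) * ((v : centralizer ({t} : Set G)) : G) =
      ((v : centralizer ({t} : Set G)) : G) * ((u : centralizer ({t} : Set G)) : G) * t := by
    exact (congrArg (fun q : Q => ((q : centralizer ({t} : Set G)) : G))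
      ((hw.comm_eq u v).resolve_left huv)).trans (congrArg (_ * ·) hwt)
  rcases key _ _ hcm with e | e
  · exact huv' (by
      have e' := congrArg (fun y => g * y * g⁻¹) e
      simpa [ι, mul_assoc] using e')
  · have e' := congrArg (fun y => g * y * g⁻¹) e
    have e'' : ((u : centralizer ({t} : Set G)) : G) * ((v : centralizer ({t} : Set G)) : G) =
        ((v : centralizer ({t} : Set G)) : G) * ((u : centralizer ({t} : Set G)) : G) *
          (a : G) := by
      rw [← hg]
      simpa [ι, mul_assoc] using e'
    rw [hcom] at e''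
    exact hgne (mul_left_cancel e'').symm

end CfsgLib.J3Unique
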