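import Cfsg.Agent.Lib.J3Unique.Contain
import Cfsg.Agent.Lib.Involutions.StrongEmbCosets
import Cfsg.Prelude.Def_Involutions

/-!
# Involutions of the image, and the image as a candidate for a strongly embedded subgroup
-/

set_option autoImplicit false
set_option linter.unusedSectionVars false
set_option maxRecDepth 100000
set_option synthInstance.maxSize 1024
set_option synthInstance.maxHeartbeats 400000

namespace CfsgLib.J3Unique

open Subgroup
open CfsgLib.Small.JTwoType (Pre)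
open CfsgLib.PresCert (allBelow allBelow_spec)
open CfsgLib.Involutions

theorem invol_into : allBelow 1920 (fun x => Nat.beq x 0 || !(Nat.beq (cm x x) 0) ||
    cjL.any fun c => eL.contains (cconj c x)) = true := by decide +kernel

variable {G : Type*} [Group G] [Finite G] {S : Pre G}

namespace Ctx

variable (D : Ctx S)

theorem z_mem_M : S.z ∈ D.M := D.C_le_M ((S.mem_C _).2 rfl)

theorem class_C {y : G} (hy : y ∈ S.C) (h2 : orderOf y = 2) :
    ∃ m ∈ D.M, m * S.z * m⁻¹ = y := by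
  obtain ⟨x, hx, rfl⟩ := D.K.Φ_surj hy
  have hsq : cm x x = 0 := D.K.Φ_inj (cm_lt hx hx) (by norm_num) (by
    rw [D.K.Φ_mul hx hx, D.K.Φ_zero, ← sq, ← h2, pow_orderOf_eq_one])
  have hx0 : x ≠ 0 := fun e => by
    rw [e, D.K.Φ_zero, orderOf_one] at h2
    exact absurd h2 (by norm_num)
  have h := allBelow_spec invol_into x hx
  simp only [Bool.or_eq_true] at h
  rcases h with (h | h) | h
  · exact absurd (Nat.eq_of_beq_eq_true h) hx0
  · rw [hsq] at h; simp at h
  · obtain ⟨c, hc, hv⟩ := List.any_eq_true.1 h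
    obtain ⟨v, hv16, he⟩ := eL_idx hv
    have hc' := cjL_lt c hc
    have e1 : D.K.eH v = D.K.Φ c * D.K.Φ x * (D.K.Φ c)⁻¹ := by
      rw [Coord.eH, he, cconj, D.K.Φ_conj hc' hx]
    have hv0 : v ≠ 0 := fun e => by
      rw [e, D.K.eH_zero, eq_comm, mul_inv_eq_iff_eq_mul, one_mul, mul_eq_left] at e1
      rw [e1, orderOf_one] at h2
      exact absurd h2 (by norm_num)
    obtain ⟨n, hn, hnz⟩ := D.K.exists_from_z D.hone hv16 hv0
    refine ⟨(D.K.Φ c)⁻¹ * n, mul_mem (inv_mem (D.C_le_M (D.K.Φ_mem c))) (D.N_le_M hn), ?_⟩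
    calc _ = (D.K.Φ c)⁻¹ * (n * S.z * n⁻¹) * D.K.Φ c := by simp [mul_assoc]
      _ = _ := by rw [hnz, e1]; simp [mul_assoc]

/-- All involutions of the image are conjugate to `z` in it. -/
theorem class_M {y : G} (hy : y ∈ D.M) (h2 : orderOf y = 2) :
    ∃ m ∈ D.M, m * S.z * m⁻¹ = y := by
  by_cases hodd : Odd (orderOf (S.z * y))
  · obtain ⟨k, hk⟩ := exists_zpow_conj_of_odd S.ord h2 hodd
    exact ⟨_, zpow_mem (mul_mem D.z_mem_M hy) k, hk⟩
  · rw [Nat.not_odd_iff_even] at hodd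
    set u := (S.z * y) ^ (orderOf (S.z * y) / 2) with hu
    have hu2 : orderOf u = 2 := half_invol hodd
    have huz : Commute u S.z := half_comm_left S.ord h2 hodd
    have huy : Commute u y := half_comm_right S.ord h2 hodd
    obtain ⟨m, hm, e⟩ := D.class_C (y := u) ((S.mem_C _).2 huz.eq) hu2
    obtain ⟨n, hn, e'⟩ := D.class_C (y := m⁻¹ * y * m) ((S.mem_C _).2 (by
      calc m⁻¹ * y * m * S.z = m⁻¹ * (y * (m * S.z * m⁻¹)) * m := by simp [mul_assoc]
        _ = m⁻¹ * ((m * S.z * m⁻¹) * y) * m := by rw [e, huy.eq]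
        _ = _ := by simp [mul_assoc])) (by
      rw [← h2]; simpa using orderOf_conj_eq m⁻¹ y)
    refine ⟨m * n, mul_mem hm hn, ?_⟩
    calc m * n * S.z * (m * n)⁻¹ = m * (n * S.z * n⁻¹) * m⁻¹ := by simp [mul_assoc]
      _ = y := by rw [e']; simp [mul_assoc]

theorem se_of_ne_top (h : D.M ≠ ⊤) : Cfsg.IsStronglyEmbedded D.M := by
  refine ⟨h, (even_card_iff _).2 ⟨S.z, D.z_mem_M, S.ord⟩, fun g hg => (odd_card_iff _).2 ?_⟩
  rintro y ⟨hy, u, hu, rfl⟩ h2
  have hu2 : orderOf u = 2 := by rwa [MulEquiv.coe_toMonoidHom, MulEquiv.orderOf_eq] at h2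
  obtain ⟨m, hm, e⟩ := D.class_M hu hu2
  obtain ⟨n, hn, e'⟩ := D.class_M hy h2
  apply hg
  change n * S.z * n⁻¹ = g * u * g⁻¹ at e'
  rw [← e] at e'
  have hc : n⁻¹ * g * m ∈ S.C := (S.mem_C _).2 (by
    calc n⁻¹ * g * m * S.z = n⁻¹ * (g * (m * S.z * m⁻¹) * g⁻¹) * g * m := by simp [mul_assoc]
      _ = _ := by rw [← e']; simp [mul_assoc])
  have h1 := mul_mem (mul_mem hn (D.C_le_M hc)) (inv_mem hm)
  simpa [mul_assoc] using h1

/-- The number of involutions of the image. -/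
theorem card_invol_M :
    Nat.card {t : G // orderOf t = 2 ∧ t ∈ D.M} * 1920 = Nat.card D.M := by
  classical
  let H := S.C.subgroupOf D.M
  have hH : Nat.card H = 1920 := by
    rw [Nat.card_congr (subgroupOfEquivOfLe D.C_le_M).toEquiv, S.card_C]
  let f : D.M ⧸ H → {t : G // orderOf t = 2 ∧ t ∈ D.M} := Quotient.lift
    (fun m : D.M => (⟨(m : G) * S.z * (m : G)⁻¹, by rw [orderOf_conj_eq, S.ord],
      mul_mem (mul_mem m.2 D.z_mem_M) (inv_mem m.2)⟩ : {t : G // orderOf t = 2 ∧ t ∈ D.M}))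
    (fun a b hab => Subtype.ext (by
      have h : (a : G)⁻¹ * b ∈ S.C := mem_subgroupOf.1 (QuotientGroup.leftRel_apply.1 hab)
      rw [S.mem_C] at h
      show (a : G) * S.z * (a : G)⁻¹ = b * S.z * (b : G)⁻¹
      rw [eq_mul_inv_iff_mul_eq]
      calc (a : G) * S.z * (a : G)⁻¹ * b = a * (S.z * ((a : G)⁻¹ * b)) := by simp [mul_assoc]
        _ = (b : G) * S.z := by rw [← h]; simp [mul_assoc]))
  have hb : Function.Bijective f := by
    refine ⟨fun p q h => ?_, fun t => ?_⟩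
    · induction p using QuotientGroup.induction_on with
      | H a =>
        induction q using QuotientGroup.induction_on with
        | H b =>
          have e : (a : G) * S.z * (a : G)⁻¹ = b * S.z * (b : G)⁻¹ := congrArg Subtype.val h
          rw [QuotientGroup.eq, mem_subgroupOf]
          refine (S.mem_C _).2 ?_
          show (a : G)⁻¹ * b * S.z = S.z * ((a : G)⁻¹ * b)
          calc (a : G)⁻¹ * b * S.z = (a : G)⁻¹ * (b * S.z * (b : G)⁻¹) * b := by simp [mul_assoc]
            _ = _ := by rw [← e]; simp [mul_assoc]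
    · obtain ⟨m, hm, e⟩ := D.class_M t.2.2 t.2.1
      exact ⟨QuotientGroup.mk (⟨m, hm⟩ : D.M), Subtype.ext e⟩
  rw [← Nat.card_congr (Equiv.ofBijective f hb), ← Subgroup.index_eq_card]
  conv_rhs => rw [← H.card_mul_index, hH, mul_comm]

theorem dvd_card_M : 17280 ∣ Nat.card D.M := by
  have h := Nat.lcm_dvd (S.card_C ▸ card_dvd_of_le D.C_le_M) (D.card_Cw ▸ card_dvd_of_le D.Cw_le_M)
  rwa [show Nat.lcm 1920 1080 = 17280 by decide] at h

end Ctx

end CfsgLib.J3Unique
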