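import Cfsg.Agent.Lib.J3Unique.Case

/-!
# The image contains the centraliser of the involution and of the element of order three
-/

set_option autoImplicit false
set_option linter.unusedSectionVars false
set_option maxRecDepth 100000
set_option synthInstance.maxSize 1024
set_option synthInstance.maxHeartbeats 400000

namespace CfsgLib.J3Unique

open Subgroup
open CfsgLib.Small.JTwoType (Pre)
open CfsgLib.PresCert (allBelow allBelow_spec)

/-- words giving elements of the stabiliser -/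
def hWords : List (ℕ × List ℕ) :=
  [(19, [4, 1, 2]), (60, [9, 0, 8]), (13, [3, 8, 0, 2, 9]), (30, [3, 0, 2]), (1800, [0]), (373, [1]),
    (823, [7])]

/-- words for representatives of the cosets of the stabiliser -/
def cReps : List (List ℕ) :=
  [[], [960], [1628], [960, 1628], [1628, 373], [1628, 823], [960, 1628, 373], [960, 1628, 823],
    [1628, 373, 823], [960, 1628, 373, 823]]

/-- the element of a representative -/
noncomputable def repVal (w : List ℕ) : ℕ := w.foldl cm 0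

theorem word_facts : (∀ p ∈ hWords, p.2.all isN = true ∧ nprod (p.2.map nC) = hcode p.1 ∧
      hidx p.1 < 192 ∧ hel (hidx p.1) = p.1) ∧
    eo 1 = 60 ∧ eo 2 = 13 ∧ eo 4 = 30 ∧ eo 8 = 1800 ∧
    (∀ w ∈ cReps, ∀ a ∈ w, a = 960 ∨ a = 1628 ∨ a = 373 ∨ a = 823) ∧
    (∀ v < 16, v = (cond (v.testBit 0) 1 0 ^^^ (cond (v.testBit 1) 2 0 ^^^
      (cond (v.testBit 2) 4 0 ^^^ cond (v.testBit 3) 8 0)))) := by decide +kernel

/-- all products of an element of the stabiliser and a representative -/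
noncomputable def coverL : List ℕ :=
  cReps.flatMap fun w => (List.range 192).map fun i => cm (hel i) (repVal w)

/-- the set of the members of a list as bits -/
def bitsOf (l : List ℕ) : ℕ := l.foldl (fun m c => m ||| 2 ^ c) 0

theorem mem_of_bitsOf : ∀ (l : List ℕ) (m x : ℕ),
    (l.foldl (fun m c => m ||| 2 ^ c) m).testBit x = true → m.testBit x = true ∨ x ∈ l
  | [], m, x, h => Or.inl h
  | c :: l, m, x, h => by
    rcases mem_of_bitsOf l _ x h with h' | h'
    · rw [Nat.testBit_or, Bool.or_eq_true, Nat.testBit_two_pow, decide_eq_true_eq] at h'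
      rcases h' with h' | h'
      · exact Or.inl h'
      · exact Or.inr (h' ▸ List.mem_cons_self)
    · exact Or.inr (List.mem_cons_of_mem _ h')

theorem cover_all : bitsOf coverL = 2 ^ 1920 - 1 := by decide +kernel

theorem rep_all {x : ℕ} (hx : x < 1920) : ∃ w ∈ cReps, ∃ i < 192, cm (hel i) (repVal w) = x := by
  have h : (bitsOf coverL).testBit x = true := by
    rw [cover_all, Nat.testBit_two_pow_sub_one]
    simpa using hx
  rcases mem_of_bitsOf coverL 0 x h with h' | h'
  · simp at h'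
  · obtain ⟨w, hw, h'⟩ := List.mem_flatMap.1 h'
    obtain ⟨i, hi, e⟩ := List.mem_map.1 h'
    exact ⟨w, hw, i, List.mem_range.1 hi, e⟩

theorem count_cent :
    ((List.range 1920).filter fun c => Nat.beq (cm c 19) (cm 19 c)).length = 24 := by decide +kernel

theorem lL_nodup : lL.Nodup := by decide +kernel

variable {G : Type*} [Group G] [Finite G] {S : Pre G}

namespace Ctx

variable (D : Ctx S)

theorem word_mem : ∀ w : List ℕ, (∀ l ∈ w, l < 10) → D.wX 1628 w ∈ D.M := fun w h =>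
  list_prod_mem fun a ha => by
    obtain ⟨l, hl, rfl⟩ := List.mem_map.1 ha
    exact D.X_mem (h l hl)

theorem hWord_mem {y : ℕ} {w : List ℕ} (h : (y, w) ∈ hWords) : D.K.Φ y ∈ D.M := by
  obtain ⟨h1, h2, h3, h4⟩ := word_facts.1 _ h
  have e := (D.wX_n (s0 := 1628) h1).1
  rw [h2, D.ψ_hcode h3 h4] at e
  exact e ▸ D.word_mem w fun l hl => isN_lt (List.all_eq_true.1 h1 l hl)

theorem eH_mem_M {v : ℕ} (hv : v < 16) : D.K.eH v ∈ D.M := by
  obtain ⟨-, e1, e2, e4, e8, -, hb⟩ := word_facts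
  have h0 : D.K.eH 0 ∈ D.M := D.K.eH_zero.symm ▸ one_mem _
  have h1 : D.K.eH 1 ∈ D.M := by rw [Coord.eH, e1]; exact D.hWord_mem (w := [9, 0, 8]) (by decide)
  have h2 : D.K.eH 2 ∈ D.M := by rw [Coord.eH, e2]; exact D.hWord_mem (w := [3, 8, 0, 2, 9]) (by decide)
  have h4 : D.K.eH 4 ∈ D.M := by rw [Coord.eH, e4]; exact D.hWord_mem (w := [3, 0, 2]) (by decide)
  have h8 : D.K.eH 8 ∈ D.M := by rw [Coord.eH, e8]; exact D.hWord_mem (w := [0]) (by decide)
  rw [hb v hv]
  cases v.testBit 0 <;> cases v.testBit 1 <;> cases v.testBit 2 <;> cases v.testBit 3 <;>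
    simp only [cond_true, cond_false] <;>
    first
      | assumption
      | (rw [D.K.eH_mul (by decide) (by decide)]; refine mul_mem (by assumption) ?_
         first
          | assumption
          | (rw [D.K.eH_mul (by decide) (by decide)]; refine mul_mem (by assumption) ?_
             first
              | assumption
              | (rw [D.K.eH_mul (by decide) (by decide)]; exact mul_mem (by assumption) (by assumption))))

theorem lift_mem_M {M : ℕ} (hM : M ∈ lL) : D.lift M ∈ D.M := by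
  obtain ⟨i, hi, rfl⟩ := List.getElem_of_mem hM
  have hi0 := hi
  rw [lL_len.1] at hi
  have h := allBelow_spec lL_all i hi
  simp only [Bool.and_eq_true] at h
  have he := Nat.eq_of_beq_eq_true h.1.1.1
  rw [List.getD_eq_getElem lL 0 hi0] at he
  rw [← he]
  obtain ⟨hg, -, h1, h4, -, -, -, -⟩ := gen_facts
  have hgen : ∀ l < 4, (mgens ++ [m0]).getD l mI ∈ lL ∧
      D.lift ((mgens ++ [m0]).getD l mI) ∈ D.M := by
    intro l hl
    have hk : ∀ j < 12, kL.getD j 0 ∈ ([19, 373, 823] : List ℕ) → kM.getD j 0 ∈ lL ∧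
        D.lift (kM.getD j 0) ∈ D.M := fun j hj hm => by
      refine ⟨D.K.acts_mem_lL D.hone (D.K.acts_kL hj), ?_⟩
      rw [D.lift_kM hj]
      simp only [List.mem_cons, List.not_mem_nil, or_false] at hm
      rcases hm with e | e | e <;> rw [e]
      · exact D.hWord_mem (w := [4, 1, 2]) (by decide)
      · exact D.hWord_mem (w := [1]) (by decide)
      · exact D.hWord_mem (w := [7]) (by decide)
    interval_cases l
    · exact hg ▸ hk 1 (by norm_num) (by decide)
    · exact hg ▸ hk 4 (by norm_num) (by decide)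
    · exact hg ▸ hk 8 (by norm_num) (by decide)
    · exact ⟨letter_facts.2.2.2.2.2.2.2.2.2.2.2.2.2.2.2.2.2,
        D.X_mem (l := 4) (by norm_num)⟩
  have key : ∀ w : List ℕ, (∀ l ∈ w, l < 4) →
      mword (mgens ++ [m0]) w ∈ lL ∧ D.lift (mword (mgens ++ [m0]) w) ∈ D.M := by
    intro w
    induction w with
    | nil => exact fun _ => ⟨D.K.acts_mem_lL D.hone D.K.acts_one, D.lift_one.symm ▸ one_mem _⟩
    | cons l w ih =>
      intro h
      obtain ⟨a, b⟩ := ih fun k hk => h k (List.mem_cons_of_mem _ hk)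
      obtain ⟨c, d⟩ := hgen l (h l List.mem_cons_self)
      refine ⟨D.mm_mem c a, ?_⟩
      rw [mword, D.lift_mul c a]
      exact mul_mem d b
  refine (key _ ?_).2
  rcases lt_or_ge i lW.length with hw | hw
  · rw [List.getD_eq_getElem _ _ hw]
    exact lW_small _ (List.getElem_mem _)
  · rw [List.getD_eq_default _ _ hw]; simp

theorem N_le_M : D.K.N ≤ D.M := by
  intro y hy
  obtain ⟨P, hP⟩ := Coord.Nml.exists_acts hy
  have hm := D.K.acts_mem_lL D.hone hP
  obtain ⟨d, hd, e⟩ := (D.lift_spec hm).1.eq_mul_eH hP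
  rw [e]
  exact mul_mem (D.eH_mem_M hd) (D.lift_mem_M hm)

theorem g_mem_M : D.g ∈ D.M := mul_mem (D.X_mem (l := 6) (by norm_num))
  (D.lift_mem_M geo_facts.2.1)

theorem Φ_outer_mem : D.K.Φ 1628 ∈ D.M := by
  have e : D.K.Φ 1628 = D.g⁻¹ * D.X 1628 5 * D.g := by
    show D.K.Φ 1628 = D.g⁻¹ * (D.g * D.K.Φ 1628 * D.g⁻¹) * D.g
    simp [mul_assoc]
  rw [e]
  exact mul_mem (mul_mem (inv_mem D.g_mem_M) (D.X_mem (by norm_num))) D.g_mem_M

theorem C_le_M : S.C ≤ D.M := by
  intro y hy
  obtain ⟨c, hc, rfl⟩ := D.K.Φ_surj hy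
  obtain ⟨w, hw, i, hi, rfl⟩ := rep_all hc
  obtain ⟨-, -, -, -, -, hr, -⟩ := word_facts
  have hgen : ∀ a ∈ w, a < 1920 ∧ D.K.Φ a ∈ D.M := fun a ha => by
    rcases hr w hw a ha with rfl | rfl | rfl | rfl
    · exact ⟨by norm_num, D.X_mem (l := 6) (by norm_num)⟩
    · exact ⟨by norm_num, D.Φ_outer_mem⟩
    · exact ⟨by norm_num, D.hWord_mem (w := [1]) (by decide)⟩
    · exact ⟨by norm_num, D.hWord_mem (w := [7]) (by decide)⟩
  have key : ∀ (u : List ℕ) (b : ℕ), (∀ a ∈ u, a < 1920 ∧ D.K.Φ a ∈ D.M) →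
      b < 1920 → D.K.Φ b ∈ D.M → u.foldl cm b < 1920 ∧ D.K.Φ (u.foldl cm b) ∈ D.M := by
    intro u
    induction u with
    | nil => exact fun b _ hb hm => ⟨hb, hm⟩
    | cons a u ih =>
      intro b hu hb hm
      obtain ⟨a1, a2⟩ := hu a List.mem_cons_self
      exact ih _ (fun k hk => hu k (List.mem_cons_of_mem _ hk)) (cm_lt hb a1)
        (by rw [D.K.Φ_mul hb a1]; exact mul_mem hm a2)
  obtain ⟨r1, r2⟩ := key w 0 hgen (by norm_num) (D.K.Φ_zero.symm ▸ one_mem _)
  change repVal w < 1920 at r1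
  change D.K.Φ (repVal w) ∈ D.M at r2
  have hh : D.K.Φ (hel i) ∈ D.M := by
    rw [← Coord.hE, D.K.hE_eq hi, ← D.lift_kM (show i / 16 < 12 by omega)]
    exact mul_mem (D.eH_mem_M (Nat.mod_lt _ (by norm_num)))
      (D.lift_mem_M (D.K.acts_mem_lL D.hone (D.K.acts_kL (by omega))))
  rw [D.K.Φ_mul (hel_facts hi).1 r1]
  exact mul_mem hh r2

theorem Ci_le_M {y : G} (hy : y * D.i = D.i * y) : y ∈ D.M := by
  obtain ⟨c, hc, rfl⟩ := D.exists_ΦI hy
  exact mul_mem (mul_mem D.g_mem_M (D.C_le_M (D.K.Φ_mem c))) (inv_mem D.g_mem_M)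

theorem card_Cw_N : Nat.card (D.Cw ⊓ D.K.N : Subgroup G) = 180 := by
  have hs : ∀ i : Fin 180, lL[i.val]'(by rw [lL_len.1]; exact i.2) ∈ lL := fun i => List.getElem_mem _
  let F : Fin 180 → (D.Cw ⊓ D.K.N : Subgroup G) := fun i =>
    ⟨D.lift _, D.mem_Cw.2 (D.lift_spec (hs i)).2, (D.lift_spec (hs i)).1.nml⟩
  have hb : Function.Bijective F := by
    refine ⟨fun a b h => ?_, fun y => ?_⟩
    · have e : D.lift _ = D.lift _ := congrArg Subtype.val h
      have h1 := (D.lift_spec (hs a)).1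
      rw [e] at h1
      exact Fin.ext ((lL_nodup.getElem_inj_iff).1 (h1.unique (D.lift_spec (hs b)).1))
    · obtain ⟨P, hP⟩ := Coord.Nml.exists_acts (mem_inf.1 y.2).2
      obtain ⟨j, hj, e⟩ := List.getElem_of_mem (D.K.acts_mem_lL D.hone hP)
      refine ⟨⟨j, lL_len.1 ▸ hj⟩, Subtype.ext ?_⟩
      show D.lift _ = _
      rw [e]
      exact (D.lift_unique hP (D.mem_Cw.1 (mem_inf.1 y.2).1)).symm
  rw [← Nat.card_congr (Equiv.ofBijective F hb), Nat.card_fin]

theorem card_Cw_i : Nat.card (D.Cw ⊓ centralizer ({D.i} : Set G) : Subgroup G) = 24 := by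
  set l := (List.range 1920).filter fun c => Nat.beq (cm c 19) (cm 19 c) with hl
  have hn : l.Nodup := List.nodup_range.filter _
  have hm : ∀ a : Fin 24, (l[a.val]'(by rw [hl, count_cent]; exact a.2)) < 1920 ∧
      cm (l[a.val]'(by rw [hl, count_cent]; exact a.2)) 19 =
        cm 19 (l[a.val]'(by rw [hl, count_cent]; exact a.2)) := fun a => by
    have := List.getElem_mem (l := l) (n := a.val) (by rw [hl, count_cent]; exact a.2)
    obtain ⟨h1, h2⟩ := List.mem_filter.1 this
    exact ⟨List.mem_range.1 h1, Nat.eq_of_beq_eq_true h2⟩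
  let F : Fin 24 → (D.Cw ⊓ centralizer ({D.i} : Set G) : Subgroup G) := fun a =>
    ⟨D.ΦI _, D.ΦI_mem (hm a).1 (hm a).2,
      mem_centralizer_singleton_iff.2 (D.ΦI_comm_i (hm a).1)⟩
  have hb : Function.Bijective F := by
    refine ⟨fun a b h => ?_, fun y => ?_⟩
    · exact Fin.ext ((hn.getElem_inj_iff).1
        (D.ΦI_inj (hm a).1 (hm b).1 (congrArg Subtype.val h)))
    · obtain ⟨c, hc, e⟩ := D.exists_ΦI (mem_centralizer_singleton_iff.1 (mem_inf.1 y.2).2)
      have hmem : c ∈ l := List.mem_filter.2 ⟨List.mem_range.2 hc, by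
        have h := D.mem_Cw.1 (mem_inf.1 y.2).1
        rw [← e, ← D.ΦI_w, D.ΦI_comm_iff hc (by norm_num)] at h
        show Nat.beq _ _ = true
        rw [h]
        exact Nat.beq_refl _⟩
      obtain ⟨j, hj, e'⟩ := List.getElem_of_mem hmem
      refine ⟨⟨j, by rw [hl, count_cent] at hj; exact hj⟩, Subtype.ext ?_⟩
      show D.ΦI _ = _
      rw [e', e]
  rw [← Nat.card_congr (Equiv.ofBijective F hb), Nat.card_fin]

theorem Cw_le_M : D.Cw ≤ D.M := by
  classical
  obtain ⟨e⟩ := D.exists_alt_six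
  set H := D.M.subgroupOf D.Cw with hH
  have h180 : 180 ∣ Nat.card H := by
    rw [← D.card_Cw_N, ← Nat.card_congr (subgroupOfEquivOfLe
      (inf_le_left (a := D.Cw) (b := D.K.N))).toEquiv]
    exact card_dvd_of_le (fun y hy => D.N_le_M (mem_inf.1 (mem_subgroupOf.1 hy)).2)
  have h24 : 24 ∣ Nat.card H := by
    rw [← D.card_Cw_i, ← Nat.card_congr (subgroupOfEquivOfLe
      (inf_le_left (a := D.Cw) (b := centralizer ({D.i} : Set G)))).toEquiv]
    exact card_dvd_of_le (fun y hy =>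
      D.Ci_le_M (mem_centralizer_singleton_iff.1 (mem_inf.1 (mem_subgroupOf.1 hy)).2))
  have h360 : 360 ∣ Nat.card H := by
    have := Nat.lcm_dvd h180 h24
    rwa [show Nat.lcm 180 24 = 360 by decide] at this
  have hidx : H.index ∣ 3 := by
    obtain ⟨k, hk⟩ := h360
    have := H.card_mul_index
    rw [D.card_Cw, hk] at this
    exact ⟨k, by nlinarith⟩
  set I := H.map ((e : (D.Cw ⧸ D.Zw) →* alternatingGroup (Fin 6)).comp D.proj) with hI
  have hIdx : I.index ∣ 3 := (index_map_dvd (f := _) H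
    (e.surjective.comp (QuotientGroup.mk'_surjective _))).trans hidx
  haveI : IsSimpleGroup (alternatingGroup (Fin 6)) :=
    alternatingGroup.isSimpleGroup (by rw [Nat.card_fin]; norm_num)
  have hItop : I = ⊤ := by
    by_contra hne
    have hcore : I.normalCore = ⊥ :=
      (IsSimpleGroup.eq_bot_or_eq_top_of_normal _ I.normalCore_normal).resolve_right fun h =>
        hne (top_le_iff.1 (h ▸ I.normalCore_le))
    rw [normalCore_eq_ker, MonoidHom.ker_eq_bot_iff] at hcore
    have := card_dvd_of_injective _ hcore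
    rw [Nat.card_perm, ← Subgroup.index_eq_card, nat_card_alternatingGroup, Nat.card_fin] at this
    rcases (Nat.prime_three.eq_one_or_self_of_dvd _ hIdx) with h | h <;> rw [h] at this <;>
      revert this <;> decide
  have hw : D.L.w ∈ D.M := D.X_mem (l := 8) (by norm_num)
  intro y hy
  have hy' : (e : (D.Cw ⧸ D.Zw) →* alternatingGroup (Fin 6)).comp D.proj ⟨y, hy⟩ ∈ I :=
    hItop ▸ mem_top _
  obtain ⟨h, hh, he⟩ := hy'
  have h1 : D.proj (h⁻¹ * ⟨y, hy⟩) = 1 := by
    rw [map_mul, map_inv, inv_mul_eq_one]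
    exact e.injective he
  have h2 : ((h⁻¹ * ⟨y, hy⟩ : D.Cw) : G) ∈ D.M := (zpowers_le.2 hw) (D.proj_eq_one.1 h1)
  simpa using mul_mem (mem_subgroupOf.1 hh) h2

end Ctx

end CfsgLib.J3Unique
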