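import Cfsg.Agent.Lib.Small.JankoTwoNormalForm
import Cfsg.Agent.Lib.J3Unique.Model

/-!
# The action of `C(z)` on the five pairs of noncentral involutions of the extraspecial subgroup
-/

set_option autoImplicit false
set_option linter.unusedSectionVars false
set_option maxRecDepth 100000
set_option synthInstance.maxSize 100000
set_option synthInstance.maxHeartbeats 400000

namespace CfsgLib.J3Unique

open Subgroup
open CfsgLib.Small.JTwoType (FiveRel qev bpow qev_mul qev_qgen qev_qone qev_injective qev_act Pre)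
open CfsgLib.Small.JTwoModel (QW qmul qone qz qgen qpow qact)

theorem q_invol : ∀ a : QW, qmul a a = qone →
    a = qone ∨ a = qz ∨ ∃ j : Fin 5, a = qgen j ∨ a = qmul (qgen j) qz := by decide +kernel

theorem q_pairs : ∀ i j : Fin 5, qgen i = qgen j ∨ qgen i = qmul (qgen j) qz → i = j := by
  decide +kernel

theorem q_inner : ∀ a : QW, ∀ i : Fin 5, qmul a (qgen i) = qmul (qgen i) a ∨
    qmul a (qgen i) = qmul (qmul (qgen i) qz) a := by decide +kernel

theorem q_signs : ∀ s0 s1 s2 s3 : Bool, ∃ a : QW,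
    qmul a (qgen 0) = qmul (qmul (qgen 0) (qpow s0 qz)) a ∧
    qmul a (qgen 1) = qmul (qmul (qgen 1) (qpow s1 qz)) a ∧
    qmul a (qgen 2) = qmul (qmul (qgen 2) (qpow s2 qz)) a ∧
    qmul a (qgen 3) = qmul (qmul (qgen 3) (qpow s3 qz)) a := by decide +kernel

theorem q_central : ∀ a : QW, (∀ i : Fin 5, qmul a (qgen i) = qmul (qgen i) a) →
    a = qone ∨ a = qz := by decide +kernel

theorem q_fifth : ∀ i : Fin 60, qmul (qmul (qmul (qgen (pp i 0)) (qgen (pp i 1))) (qgen (pp i 2)))
    (qgen (pp i 3)) = qgen (pp i 4) := by decide +kernel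

theorem fifth_even (π : alternatingGroup (Fin 5)) :
    qmul (qmul (qmul (qgen (π.1 0)) (qgen (π.1 1))) (qgen (π.1 2))) (qgen (π.1 3)) =
      qgen (π.1 4) := by
  obtain ⟨i, rfl⟩ := pe_surj π
  exact q_fifth i

variable {G : Type*} [Group G] [Finite G] (S : Pre G)

/-- The extraspecial subgroup in the group. -/
abbrev QG : Subgroup G := S.Q.map S.C.subtype

/-- Five involutions in normal form. -/
structure Five where
  /-- the involutions -/
  uu : Fin 5 → G
  rel : FiveRel uu S.z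
  mem : ∀ i, uu i ∈ QG S

theorem exists_noncentral : ∃ u₀ : S.Q, u₀ ^ 2 = 1 ∧ u₀ ∉ center S.Q := by
  by_contra hall
  push Not at hall
  have hle : Nat.card {q : S.Q // q ^ 2 = 1} ≤ Nat.card (center S.Q) :=
    Nat.card_le_card_of_injective (fun q => ⟨q.1, hall q.1 q.2⟩)
      fun a b h => Subtype.ext (congrArg Subtype.val h :)
  rw [S.card_sq_one, S.extra.2] at hle
  omega

theorem exists_five : Nonempty (Five S) := by
  classical
  obtain ⟨u₀, hu0, hu0c⟩ := exists_noncentral S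
  obtain ⟨g, h5, hg⟩ := S.exists_gamma
  let γ := S.cn g
  have hmove : ∀ d : ℕ, 0 < d → d < 5 → ∀ c ∈ center S.Q, (γ ^ d) u₀ ≠ u₀ * c := by
    intro d hd hd5 c hc he
    have h2 : (γ ^ (2 * d)) u₀ = u₀ := by
      rw [two_mul, pow_add, MulAut.mul_apply, he, map_mul, he, S.es.map_center (γ ^ d) hc, mul_assoc,
        ← sq, S.es.sq_center hc, mul_one]
    refine hu0c (S.fix_five (g := g ^ (2 * d)) ?_ ?_ u₀ ?_)
    · rw [← pow_mul, mul_comm, pow_mul, h5, one_pow]
    · rw [map_pow]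
      intro h
      haveI : Fact (Nat.Prime 5) := ⟨by norm_num⟩
      have ho : orderOf (S.proj g) = 5 := orderOf_eq_prime (by rw [← map_pow, h5, map_one]) hg
      have hd' := orderOf_dvd_of_pow_eq_one h
      rw [ho] at hd'
      obtain ⟨k, hk⟩ := hd'
      omega
    · rw [map_pow]; exact h2
  let v : ℕ → S.Q := fun i => (γ ^ i) u₀
  have hv2 : ∀ i, v i ^ 2 = 1 := fun i => by rw [← map_pow, hu0, map_one]
  have hvc : ∀ i, v i ∉ center S.Q := fun i h => by
    have h2 : (γ ^ i) (v i) = v i := S.es.map_center _ h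
    rw [(γ ^ i).injective h2] at h
    exact hu0c h
  have hlt : ∀ i j, i < j → j < 5 → v i * v j = v j * (v i * S.zQ) := by
    intro i j hij hj
    rcases S.es.comm_eq (v i) (v j) with he | he
    · exfalso
      obtain ⟨d, rfl⟩ := Nat.exists_eq_add_of_le hij.le
      have hsplit : v (i + d) = (γ ^ i) ((γ ^ d) u₀) := by
        show (γ ^ (i + d)) u₀ = _
        rw [pow_add, MulAut.mul_apply]
      rcases S.pair (hv2 i) (hvc i) (hv2 (i + d)) he.symm with h | h | h | h
      · exact hvc _ (h ▸ one_mem _)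
      · exact hvc _ (h ▸ S.es.mem_center)
      · rw [hsplit] at h
        exact hmove d (by omega) (by omega) 1 (one_mem _)
          (((γ ^ i).injective h).trans (mul_one _).symm)
      · rw [hsplit, ← S.es.map_z (γ ^ i), show v i * (γ ^ i) S.zQ = (γ ^ i) (u₀ * S.zQ) from
          (map_mul _ _ _).symm] at h
        exact hmove d (by omega) (by omega) _ S.es.mem_center ((γ ^ i).injective h)
    · rw [he, mul_assoc]
  have hne : ∀ i j, i ≠ j → i < 5 → j < 5 → v i * v j = v j * (v i * S.zQ) := by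
    intro i j hij hi hj
    rcases lt_or_gt_of_ne hij with h | h
    · exact hlt i j h hj
    · have h' := hlt j i h hi
      calc v i * v j = v i * (v j * S.zQ) * S.zQ := by
            rw [mul_assoc, mul_assoc, S.es.mul_self, mul_one]
        _ = v j * v i * S.zQ := by rw [← h']
        _ = v j * (v i * S.zQ) := mul_assoc _ _ _
  let w : Fin 5 → S.Q := ![v 0, v 1, v 2, v 3, v 0 * v 1 * v 2 * v 3]
  have hw : ∀ i : Fin 4, w i.castSucc = v i.val := fun i => by fin_cases i <;> rfl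
  refine ⟨{ uu := fun i => ((w i : S.C) : G), rel := ?_, mem := fun i => mem_map_of_mem _ (w i).2 }⟩
  exact
    { zz := (sq _).symm.trans S.z_sq
      sq := fun i => by
        rw [hw]
        exact ((congrArg (fun q : S.Q => ((q : S.C) : G)) ((sq (v i)).symm.trans (hv2 i))) :)
      zc := fun i => ((S.mem_C _).1 (w i.castSucc : S.C).2).symm
      anti := fun i j hij => by
        rw [hw, hw]
        exact ((congrArg (fun q : S.Q => ((q : S.C) : G))
          (hne i j (fun h => hij (Fin.ext h)) (by omega) (by omega))) :)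
      four := rfl }

variable {S}

namespace Five

variable (D : Five S)

theorem mem_C (i : Fin 5) : D.uu i ∈ S.C := map_subtype_le _ (D.mem i)

theorem qz_val : qev D.uu S.z qz = S.z := by simp [qev, qz, bpow]

theorem z_mem : S.z ∈ QG S := ⟨S.zC, S.zC_mem, rfl⟩

theorem qev_mem (a : QW) : qev D.uu S.z a ∈ QG S := by
  obtain ⟨a0, a1, a2, a3, az⟩ := a
  have hb : ∀ (b : Bool) (x : G), x ∈ QG S → bpow b x ∈ QG S := fun b x hx => by
    cases b
    · exact one_mem _
    · exact hx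
  exact mul_mem (mul_mem (mul_mem (mul_mem (hb _ _ (D.mem _)) (hb _ _ (D.mem _))) (hb _ _ (D.mem _)))
    (hb _ _ (D.mem _))) (hb _ _ (z_mem))

theorem card_QG : Nat.card (QG S) = 32 := by
  rw [Nat.card_congr (S.Q.equivMapOfInjective _ S.C.subtype_injective).toEquiv.symm, S.card]

theorem qev_surj {x : G} (hx : x ∈ QG S) : ∃ a, qev D.uu S.z a = x := by
  have hb : Function.Bijective fun a => (⟨qev D.uu S.z a, D.qev_mem a⟩ : QG S) := by
    refine (Nat.bijective_iff_injective_and_card _).2 ⟨fun a b h =>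
      qev_injective D.rel S.z_ne_one (congrArg Subtype.val h :), ?_⟩
    rw [card_QG]
    simp [Nat.card_eq_fintype_card]
  obtain ⟨a, ha⟩ := hb.2 ⟨x, hx⟩
  exact ⟨a, congrArg Subtype.val ha⟩

theorem uu_injective : Function.Injective D.uu := fun i j h => q_pairs i j (Or.inl
  (qev_injective D.rel S.z_ne_one (by rwa [qev_qgen D.rel, qev_qgen D.rel])))

theorem uu_pair {i j : Fin 5} (h : D.uu i = D.uu j ∨ D.uu i = D.uu j * S.z) : i = j := by
  refine q_pairs i j ?_
  rcases h with h | h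
  · exact Or.inl (qev_injective D.rel S.z_ne_one (by rwa [qev_qgen D.rel, qev_qgen D.rel]))
  · exact Or.inr (qev_injective D.rel S.z_ne_one
      (by rwa [qev_mul D.rel, qev_qgen D.rel, qev_qgen D.rel, qz_val]))

theorem conj_z {x : G} (hx : x ∈ S.C) : x * S.z * x⁻¹ = S.z :=
  mul_inv_eq_iff_eq_mul.2 ((S.mem_C x).1 hx)

theorem conj_QG {x q : G} (hx : x ∈ S.C) (hq : q ∈ QG S) : x * q * x⁻¹ ∈ QG S := by
  obtain ⟨y, hy, rfl⟩ := hq
  exact ⟨⟨x, hx⟩ * y * ⟨x, hx⟩⁻¹, S.normal.conj_mem y hy _, rfl⟩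

theorem uu_sq (i : Fin 5) : D.uu i * D.uu i = 1 := by
  rw [← qev_qgen D.rel i, ← qev_mul D.rel, show qmul (qgen i) (qgen i) = qone by
    revert i; decide +kernel, qev_qone D.rel]

theorem uu_ne_one (i : Fin 5) : D.uu i ≠ 1 ∧ D.uu i ≠ S.z := by
  have key : ∀ i : Fin 5, qgen i ≠ qone ∧ qgen i ≠ qz := by decide +kernel
  refine ⟨fun h => (key i).1 (qev_injective D.rel S.z_ne_one ?_),
    fun h => (key i).2 (qev_injective D.rel S.z_ne_one ?_)⟩
  · rw [qev_qgen D.rel, qev_qone D.rel, h]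
  · rw [qev_qgen D.rel, qz_val, h]

theorem exists_img {x : G} (hx : x ∈ S.C) (i : Fin 5) :
    ∃ j, ∃ s : Bool, x * D.uu i * x⁻¹ = D.uu j * bpow s S.z := by
  obtain ⟨a, ha⟩ := D.qev_surj (conj_QG hx (D.mem i))
  have hsq : qmul a a = qone := qev_injective D.rel S.z_ne_one (by
    rw [qev_mul D.rel, ha, qev_qone D.rel, conj_mul, D.uu_sq, mul_one, mul_inv_cancel])
  rcases q_invol a hsq with h | h | ⟨j, h | h⟩ <;> subst h
  · rw [qev_qone D.rel] at ha
    exact absurd (conj_eq_one_iff.1 ha.symm) (D.uu_ne_one i).1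
  · rw [qz_val] at ha
    refine absurd ((MulAut.conj x).injective ?_) (D.uu_ne_one i).2
    rw [MulAut.conj_apply, MulAut.conj_apply, ← ha, conj_z hx]
  · exact ⟨j, false, by rw [← ha, qev_qgen D.rel]; simp [bpow]⟩
  · exact ⟨j, true, by rw [← ha, qev_mul D.rel, qev_qgen D.rel, qz_val]; rfl⟩

/-- The image pair. -/
noncomputable def img (x : S.C) (i : Fin 5) : Fin 5 := (D.exists_img x.2 i).choose

theorem img_spec (x : S.C) (i : Fin 5) :
    ∃ s : Bool, (x : G) * D.uu i * (x : G)⁻¹ = D.uu (D.img x i) * bpow s S.z :=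
  (D.exists_img x.2 i).choose_spec

theorem img_eq {x : S.C} {i j : Fin 5} {s : Bool}
    (h : (x : G) * D.uu i * (x : G)⁻¹ = D.uu j * bpow s S.z) : D.img x i = j := by
  obtain ⟨t, ht⟩ := D.img_spec x i
  rw [h] at ht
  apply D.uu_pair
  have hzz : S.z * S.z = 1 := D.rel.zz
  cases s <;> cases t <;> simp [bpow] at ht
  · exact Or.inl ht.symm
  · refine Or.inr ?_
    rw [ht, mul_assoc, hzz, mul_one]
  · exact Or.inr ht.symm
  · exact Or.inl ht.symm

theorem img_mul (x y : S.C) (i : Fin 5) : D.img (x * y) i = D.img x (D.img y i) := by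
  obtain ⟨t, ht⟩ := D.img_spec y i
  obtain ⟨s, hs⟩ := D.img_spec x (D.img y i)
  refine D.img_eq (s := s ^^ t) ?_
  have hz : (x : G) * bpow t S.z * (x : G)⁻¹ = bpow t S.z := by
    cases t
    · simp [bpow]
    · exact conj_z x.2
  have hb : bpow s S.z * bpow t S.z = bpow (s ^^ t) S.z := by
    cases s <;> cases t <;> simp [bpow, D.rel.zz]
  rw [Subgroup.coe_mul, mul_inv_rev,
    show (x : G) * y * D.uu i * ((y : G)⁻¹ * (x : G)⁻¹) = x * (y * D.uu i * (y : G)⁻¹) * (x : G)⁻¹ by
      simp [mul_assoc], ht, ← conj_mul, hs, hz, mul_assoc, hb]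

theorem img_one (i : Fin 5) : D.img 1 i = i := D.img_eq (s := false) (by simp [bpow])

/-- The action on the five pairs. -/
noncomputable def act : S.C →* Equiv.Perm (Fin 5) :=
  MonoidHom.mk' (fun x =>
    { toFun := D.img x
      invFun := D.img x⁻¹
      left_inv := fun i => by rw [← D.img_mul, inv_mul_cancel, D.img_one]
      right_inv := fun i => by rw [← D.img_mul, mul_inv_cancel, D.img_one] })
    fun x y => Equiv.ext fun i => D.img_mul x y i

theorem act_spec (x : S.C) (i : Fin 5) :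
    ∃ s : Bool, (x : G) * D.uu i * (x : G)⁻¹ = D.uu (D.act x i) * bpow s S.z := D.img_spec x i

theorem act_eq {x : S.C} {i j : Fin 5} {s : Bool}
    (h : (x : G) * D.uu i * (x : G)⁻¹ = D.uu j * bpow s S.z) : D.act x i = j := D.img_eq h

theorem act_QG {q : S.C} (hq : q ∈ S.Q) : D.act q = 1 := by
  obtain ⟨a, ha⟩ := D.qev_surj (mem_map_of_mem _ hq : S.C.subtype q ∈ QG S)
  change qev D.uu S.z a = (q : G) at ha
  refine Equiv.ext fun i => ?_
  rcases q_inner a i with h | h <;> have h' := congrArg (qev D.uu S.z) h <;>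
    simp only [qev_mul D.rel, qev_qgen D.rel, qz_val, ha] at h' <;>
    rw [← mul_inv_eq_iff_eq_mul] at h'
  · exact D.act_eq (s := false) (by simpa [bpow] using h')
  · exact D.act_eq (s := true) h'

/-- An element of `Q` with prescribed signs. -/
theorem exists_signs (s : Fin 4 → Bool) : ∃ q : S.C, q ∈ S.Q ∧ ∀ i : Fin 4,
    (q : G) * D.uu i.castSucc * (q : G)⁻¹ = D.uu i.castSucc * bpow (s i) S.z := by
  obtain ⟨a, h0, h1, h2, h3⟩ := q_signs (s 0) (s 1) (s 2) (s 3)
  obtain ⟨q, hq, hqa⟩ := D.qev_mem a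
  refine ⟨q, hq, fun i => mul_inv_eq_iff_eq_mul.2 ?_⟩
  rw [show (q : G) = qev D.uu S.z a from hqa]
  have hp : ∀ b, qev D.uu S.z (qpow b qz) = bpow b S.z := fun b => by
    cases b
    · simp [qpow, bpow, qev_qone D.rel]
    · simp [qpow, bpow, qz_val]
  have key : qmul a (qgen i.castSucc) = qmul (qmul (qgen i.castSucc) (qpow (s i) qz)) a := by
    fin_cases i
    exacts [h0, h1, h2, h3]
  have h' := congrArg (qev D.uu S.z) key
  simpa only [qev_mul D.rel, qev_qgen D.rel, hp] using h'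

theorem qev_comm {x : G} (hx : x ∈ S.C) (h : ∀ i : Fin 4, x * D.uu i.castSucc = D.uu i.castSucc * x)
    (a : QW) : x * qev D.uu S.z a = qev D.uu S.z a * x := by
  obtain ⟨a0, a1, a2, a3, az⟩ := a
  have hb : ∀ (b : Bool) (y : G), Commute x y → Commute x (bpow b y) := fun b y hy => by
    cases b
    · exact Commute.one_right x
    · exact hy
  exact ((((hb _ _ (h 0)).mul_right (hb _ _ (h 1))).mul_right (hb _ _ (h 2))).mul_right
    (hb _ _ (h 3))).mul_right (hb _ _ ((S.mem_C x).1 hx))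

theorem mem_Q_of_comm {x : S.C}
    (h : ∀ i : Fin 4, (x : G) * D.uu i.castSucc = D.uu i.castSucc * x) : x ∈ S.Q := by
  refine S.cent fun q hq => Subtype.ext ?_
  obtain ⟨a, ha⟩ := D.qev_surj (mem_map_of_mem _ hq : S.C.subtype q ∈ QG S)
  show (q : G) * x = x * q
  rw [show (q : G) = qev D.uu S.z a from ha.symm]
  exact (D.qev_comm x.2 h a).symm

theorem act_ker {x : S.C} (h : D.act x = 1) : x ∈ S.Q := by
  choose s hs using fun i : Fin 4 => D.act_spec x i.castSucc
  obtain ⟨q, hq, hqs⟩ := D.exists_signs s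
  have hy : q⁻¹ * x ∈ S.Q := D.mem_Q_of_comm fun i => by
    have h1 : (x : G) * D.uu i.castSucc * (x : G)⁻¹ = (q : G) * D.uu i.castSucc * (q : G)⁻¹ := by
      rw [hs, hqs, h]; rfl
    show (q : G)⁻¹ * x * D.uu i.castSucc = D.uu i.castSucc * ((q : G)⁻¹ * x)
    calc (q : G)⁻¹ * x * D.uu i.castSucc
        = (q : G)⁻¹ * ((x : G) * D.uu i.castSucc * (x : G)⁻¹) * x := by simp [mul_assoc]
      _ = _ := by rw [h1]; simp [mul_assoc]
  simpa using mul_mem hq hy

theorem act_range : D.act.range = alternatingGroup (Fin 5) := by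
  apply Equiv.Perm.eq_alternatingGroup_of_index_eq_two
  have hker : D.act.ker = S.Q := by
    ext x
    exact ⟨D.act_ker, D.act_QG⟩
  have h1 := S.Q.card_mul_index
  rw [S.card, S.card_C, ← hker, Subgroup.index_ker] at h1
  have h2 := D.act.range.card_mul_index
  rw [show Nat.card D.act.range = 60 by omega, Nat.card_perm, Nat.card_fin] at h2
  norm_num at h2
  omega

/-- Exact action on the five involutions. -/
structure Exact (x : G) (π : alternatingGroup (Fin 5)) : Prop where
  memC : x ∈ S.C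
  conj : ∀ i, x * D.uu i * x⁻¹ = D.uu (π.1 i)

theorem exact_one : D.Exact 1 1 := ⟨one_mem _, fun i => by simp⟩

theorem exact_z : D.Exact S.z 1 := ⟨S.zC.2, fun i =>
  mul_inv_eq_iff_eq_mul.2 ((S.mem_C _).1 (D.mem_C i)).symm⟩

variable {D}

theorem Exact.mul {x y : G} {π ρ : alternatingGroup (Fin 5)} (h : D.Exact x π) (k : D.Exact y ρ) :
    D.Exact (x * y) (π * ρ) :=
  ⟨mul_mem h.memC k.memC, fun i => by
    rw [show x * y * D.uu i * (x * y)⁻¹ = x * (y * D.uu i * y⁻¹) * x⁻¹ by simp [mul_assoc],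
      k.conj, h.conj]
    rfl⟩

theorem Exact.inv {x : G} {π : alternatingGroup (Fin 5)} (h : D.Exact x π) : D.Exact x⁻¹ π⁻¹ :=
  ⟨inv_mem h.memC, fun i => by
    have h1 : x * D.uu ((π⁻¹).1 i) * x⁻¹ = D.uu i :=
      (h.conj _).trans (congrArg D.uu (Equiv.apply_symm_apply π.1 i))
    conv_lhs => rw [← h1]
    simp [mul_assoc]⟩

theorem Exact.pow {x : G} {π : alternatingGroup (Fin 5)} (h : D.Exact x π) :
    ∀ n : ℕ, D.Exact (x ^ n) (π ^ n)
  | 0 => by rw [pow_zero, pow_zero]; exact D.exact_one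
  | n + 1 => by rw [pow_succ, pow_succ]; exact (h.pow n).mul h

theorem Exact.eq_one_or_z {x : G} (h : D.Exact x 1) : x = 1 ∨ x = S.z := by
  have hc : ∀ i, x * D.uu i = D.uu i * x := fun i =>
    mul_inv_eq_iff_eq_mul.1 (h.conj i)
  have hQ : x ∈ QG S := ⟨⟨x, h.memC⟩, D.mem_Q_of_comm fun i => hc _, rfl⟩
  obtain ⟨a, rfl⟩ := D.qev_surj hQ
  rcases q_central a fun i => qev_injective D.rel S.z_ne_one (by
    rw [qev_mul D.rel, qev_mul D.rel, qev_qgen D.rel, hc]) with h | h <;> subst h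
  · exact Or.inl (qev_qone D.rel)
  · exact Or.inr D.qz_val

theorem Exact.unique {x y : G} {π : alternatingGroup (Fin 5)} (h : D.Exact x π)
    (k : D.Exact y π) : y = x ∨ y = x * S.z := by
  have h1 := h.inv.mul k
  rw [inv_mul_cancel] at h1
  rcases h1.eq_one_or_z with e | e
  · exact Or.inl (inv_mul_eq_one.1 e).symm
  · exact Or.inr (inv_mul_eq_iff_eq_mul.1 e)

theorem Exact.sq_eq {x y : G} {π : alternatingGroup (Fin 5)} (h : D.Exact x π)
    (k : D.Exact y π) : y * y = x * x := by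
  rcases h.unique k with e | e <;> rw [e]
  rw [show x * S.z * (x * S.z) = x * (S.z * x) * S.z by simp [mul_assoc],
    ← (S.mem_C x).1 h.memC]
  simp [mul_assoc, D.rel.zz]

theorem Exact.act_eq {x : G} {π : alternatingGroup (Fin 5)} (h : D.Exact x π) :
    D.act ⟨x, h.memC⟩ = π.1 :=
  Equiv.ext fun i => D.act_eq (s := false) (by simpa [bpow] using h.conj i)

variable (D)

theorem exists_exact (π : alternatingGroup (Fin 5)) : ∃ x : G, D.Exact x π := by
  obtain ⟨x₀, hx₀⟩ : π.1 ∈ D.act.range := D.act_range.symm ▸ π.2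
  choose s hs using fun i : Fin 4 => D.act_spec x₀ i.castSucc
  obtain ⟨q, hq, hqs⟩ := D.exists_signs s
  set x : G := (x₀ : G) * (q : G) with hx
  have hxC : x ∈ S.C := mul_mem x₀.2 q.2
  have h4 : ∀ i : Fin 4, x * D.uu i.castSucc * x⁻¹ = D.uu (π.1 i.castSucc) := by
    intro i
    have hzc : (x₀ : G) * bpow (s i) S.z * (x₀ : G)⁻¹ = bpow (s i) S.z := by
      cases s i
      · simp [bpow]
      · exact conj_z x₀.2
    have hbb : bpow (s i) S.z * bpow (s i) S.z = 1 := by
      cases s i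
      · simp [bpow]
      · exact D.rel.zz
    rw [hx, show (x₀ : G) * q * D.uu i.castSucc * ((x₀ : G) * q)⁻¹ =
        x₀ * (q * D.uu i.castSucc * (q : G)⁻¹) * (x₀ : G)⁻¹ by simp [mul_assoc], hqs, ← conj_mul,
      hs, hzc, mul_assoc, hbb, mul_one, hx₀]
  refine ⟨x, hxC, fun i => ?_⟩
  rcases Fin.eq_castSucc_or_eq_last i with ⟨j, rfl⟩ | rfl
  · exact h4 j
  · show x * D.uu 4 * x⁻¹ = _
    rw [D.rel.four, ← conj_mul, ← conj_mul, ← conj_mul, show x * D.uu 0 * x⁻¹ = _ from h4 0,
      show x * D.uu 1 * x⁻¹ = _ from h4 1, show x * D.uu 2 * x⁻¹ = _ from h4 2,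
      show x * D.uu 3 * x⁻¹ = _ from h4 3]
    simp only [← qev_qgen D.rel, ← qev_mul D.rel]
    exact congrArg (qev D.uu S.z) (fifth_even π)

end Five

end CfsgLib.J3Unique
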