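import Cfsg.Agent.Lib.Recog.PresentationsFive
import Cfsg.Agent.Lib.J3Unique.Five

/-!
# `C(z)` is the split extension, with coordinates on natural numbers
-/

set_option autoImplicit false
set_option linter.unusedSectionVars false
set_option maxRecDepth 100000
set_option synthInstance.maxSize 100000
set_option synthInstance.maxHeartbeats 400000

namespace CfsgLib.J3Unique

open Subgroup
open CfsgLib.Small.JTwoType (FiveRel qev bpow qev_mul qev_qgen qev_qone qev_injective qev_act Pre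
  a5_conj_invol)
open CfsgLib.Small.JTwoModel (QW qmul qone qz qgen qpow qact)

theorem no_outer : ∀ a : QW, ∀ i : Fin 60, pfV i ≠ id → (∀ k, pfV i (pfV i k) = k) →
    qmul a (qact (pp i) a) ≠ qz := by decide +kernel

/-- Square roots of `t` in `C(u)`. -/
def rootCond (t : QW) (p : Fin 32 × Fin 60) : Prop :=
  qmul (qb p.1) (qgen (pfV p.2 0)) = qmul (qgen 0) (qb p.1) ∧
  (∀ k, pfV p.2 (pfV p.2 k) = k) ∧
  qmul (qmul (qb p.1) (qact (pp p.2) (qb p.1))) (qpow (decide (p.2.val ≠ 0)) qz) = t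

instance (t : QW) : DecidablePred (rootCond t) := fun p => by unfold rootCond; infer_instance

theorem root_counts :
    Fintype.card {p : Fin 32 × Fin 60 // rootCond qz p} = 36 ∧
    Fintype.card {p : Fin 32 × Fin 60 // rootCond (qmul (qgen 0) qz) p} = 12 := by decide +kernel

theorem pe_zero : pe 0 = 1 := by decide +kernel

theorem pe_of_fin {i : ℕ} (h : ∀ k, pfV i k = k) : pe i = 1 := Subtype.ext (Equiv.ext h)

variable {G : Type*} [Group G] [Finite G] {S : Pre G}

namespace Five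

variable (D : Five S)

/-- Lifts of all elements of `A₅`, the identity for the identity. -/
noncomputable def lift (π : alternatingGroup (Fin 5)) : G :=
  open Classical in if π = 1 then 1 else (D.exists_exact π).choose

theorem lift_exact (π : alternatingGroup (Fin 5)) : D.Exact (D.lift π) π := by
  classical
  unfold lift
  split_ifs with h
  · exact h ▸ D.exact_one
  · exact (D.exists_exact π).choose_spec

theorem lift_one : D.lift 1 = 1 := by
  classical
  exact if_pos rfl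

/-- The element with given code in terms of lifts. -/
noncomputable def el (p : Fin 32 × Fin 60) : G := qev D.uu S.z (qb p.1) * D.lift (pe p.2)

theorem el_mem (p : Fin 32 × Fin 60) : D.el p ∈ S.C :=
  mul_mem (map_subtype_le _ (D.qev_mem _)) (D.lift_exact _).memC

theorem el_act (p : Fin 32 × Fin 60) : D.act ⟨D.el p, D.el_mem p⟩ = pp p.2 := by
  have hq : (⟨qev D.uu S.z (qb p.1), map_subtype_le _ (D.qev_mem _)⟩ : S.C) ∈ S.Q := by
    obtain ⟨y, hy, he⟩ := D.qev_mem (qb p.1)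
    have hey : (⟨qev D.uu S.z (qb p.1), map_subtype_le _ (D.qev_mem _)⟩ : S.C) = y :=
      Subtype.ext (show qev D.uu S.z (qb p.1) = (y : G) from he.symm)
    rw [hey]
    exact hy
  rw [show (⟨D.el p, D.el_mem p⟩ : S.C) = ⟨qev D.uu S.z (qb p.1), map_subtype_le _ (D.qev_mem _)⟩ *
    ⟨D.lift (pe p.2), (D.lift_exact _).memC⟩ from rfl, map_mul, D.act_QG hq, one_mul,
    (D.lift_exact _).act_eq]
  rfl

theorem el_bijective : Function.Bijective fun p => (⟨D.el p, D.el_mem p⟩ : S.C) := by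
  refine (Nat.bijective_iff_injective_and_card _).2 ⟨fun p p' h => ?_, ?_⟩
  · have h2 : pe p.2 = pe p'.2 := by
      apply Subtype.ext
      have e := congrArg D.act h
      rwa [D.el_act, D.el_act] at e
    have h3 : p.2 = p'.2 := pe_injective h2
    have h4 : D.el p = D.el p' := congrArg Subtype.val h
    rw [el, el, h2] at h4
    have h5 : qn (qb p.1) = qn (qb p'.1) :=
      congrArg qn (qev_injective D.rel S.z_ne_one (mul_right_cancel h4))
    rw [qn_qb, qn_qb] at h5
    exact Prod.ext (Fin.ext h5) h3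
  · rw [S.card_C, Nat.card_prod, Nat.card_fin, Nat.card_fin]

theorem el_sq (p : Fin 32 × Fin 60) : D.el p * D.el p =
    qev D.uu S.z (qmul (qb p.1) (qact (pp p.2) (qb p.1))) * (D.lift (pe p.2) * D.lift (pe p.2)) := by
  rw [qev_mul D.rel, qev_act D.rel (k := D.lift (pe p.2)) (π := pp p.2) (D.lift_exact (pe p.2)).conj
    (conj_z (D.lift_exact (pe p.2)).memC), el]
  simp [mul_assoc]

theorem invol_mem_Q_of_twisted
    (hz : ∀ π : alternatingGroup (Fin 5), π ≠ 1 → π * π = 1 → D.lift π * D.lift π = S.z)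
    {v : S.C} (hv : v ^ 2 = 1) : v ∈ S.Q := by
  by_contra hvQ
  obtain ⟨p, rfl⟩ := D.el_bijective.2 v
  have h1 : D.el p * D.el p = 1 := congrArg Subtype.val ((sq _).symm.trans hv)
  have hne : pe p.2 ≠ 1 := fun h => hvQ (D.act_ker (by
    rw [D.el_act]; exact congrArg Subtype.val h))
  have hinv : pe p.2 * pe p.2 = 1 := by
    apply Subtype.ext
    have h2 := congrArg D.act ((sq _).symm.trans hv)
    rw [map_mul, D.el_act, map_one] at h2
    exact h2
  rw [D.el_sq, hz _ hne hinv] at h1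
  have h3 : qev D.uu S.z (qmul (qb p.1) (qact (pp p.2) (qb p.1))) = S.z :=
    (eq_inv_of_mul_eq_one_left h1).trans (inv_eq_of_mul_eq_one_right D.rel.zz)
  refine no_outer _ p.2 (fun h => hne (pe_of_fin fun k => congrFun h k)) (fun k => ?_)
    (qev_injective D.rel S.z_ne_one (h3.trans D.qz_val.symm))
  exact Equiv.ext_iff.1 (congrArg Subtype.val hinv) k

theorem not_twisted (hone : ∀ x y : G, orderOf x = 2 → orderOf y = 2 → IsConj x y)
    (hz : ∀ π : alternatingGroup (Fin 5), π ≠ 1 → π * π = 1 → D.lift π * D.lift π = S.z) : False := by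
  classical
  have hQ := fun {v : S.C} (hv : v ^ 2 = 1) => D.invol_mem_Q_of_twisted hz hv
  set u := D.uu 0 with hu_def
  have hu2 : u * u = 1 := D.uu_sq 0
  have huo : orderOf u = 2 := orderOf_eq_prime (by rw [sq, hu2]) (D.uu_ne_one 0).1
  have huC : u ∈ S.C := D.mem_C 0
  obtain ⟨g, hg⟩ := isConj_iff.1 (hone S.z u S.ord huo)
  have hw2 : (g⁻¹ * S.z * g) ^ 2 = 1 := by
    simpa [S.z_sq] using (conj_pow (a := g⁻¹) (b := S.z) (i := 2))
  have hwC : g⁻¹ * S.z * g ∈ S.C := by
    refine (S.mem_C _).2 ?_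
    have h := (S.mem_C u).1 huC
    rw [← hg] at h
    calc g⁻¹ * S.z * g * S.z = g⁻¹ * (S.z * (g * S.z * g⁻¹)) * g := by simp [mul_assoc]
      _ = g⁻¹ * (g * S.z * g⁻¹ * S.z) * g := by rw [h]
      _ = _ := by simp [mul_assoc]
  let w : S.Q := ⟨⟨_, hwC⟩, hQ (Subtype.ext (by exact hw2))⟩
  have hwc : w ∉ center S.Q := fun h => by
    rcases (S.es.center_iff _).1 h with e | e
    · have e' : g⁻¹ * S.z * g = 1 := congrArg (fun q : S.Q => ((q : S.C) : G)) e
      exact S.z_ne_one (by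
        rw [show g⁻¹ * S.z * g = g⁻¹ * S.z * (g⁻¹)⁻¹ by rw [inv_inv], conj_eq_one_iff] at e'
        exact e')
    · have e' : g⁻¹ * S.z * g = S.z := congrArg (fun q : S.Q => ((q : S.C) : G)) e
      apply (D.uu_ne_one 0).2
      show u = S.z
      rw [← hg]
      conv_lhs => rw [← e']
      simp [mul_assoc]
  obtain ⟨uQ, huQ, huQ'⟩ := D.mem 0
  let uz : S.Q := ⟨uQ, huQ⟩ * S.zQ
  have huzval : ((uz : S.C) : G) = u * S.z := by
    rw [hu_def, ← huQ']; rfl
  have huz2 : uz ^ 2 = 1 := by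
    refine Subtype.ext (Subtype.ext ?_)
    show ((uz : S.C) : G) ^ 2 = 1
    rw [huzval, Commute.mul_pow ((S.mem_C u).1 huC), sq, hu2, S.z_sq, one_mul]
  have huzc : uz ∉ center S.Q := fun h => by
    rcases (S.es.center_iff _).1 h with e | e
    · have e' : u * S.z = 1 := huzval ▸ congrArg (fun q : S.Q => ((q : S.C) : G)) e
      exact (D.uu_ne_one 0).2 ((eq_inv_of_mul_eq_one_left e').trans
        (inv_eq_of_mul_eq_one_right D.rel.zz))
    · have e' : u * S.z = S.z := huzval ▸ congrArg (fun q : S.Q => ((q : S.C) : G)) e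
      exact (D.uu_ne_one 0).1 (mul_eq_right.1 e')
  obtain ⟨c, hc⟩ := S.noncentral_conj w uz (Subtype.ext (Subtype.ext hw2)) hwc huz2 huzc
  have hc' : (c : G) * (g⁻¹ * S.z * g) * (c : G)⁻¹ = u * S.z := by
    rw [← huzval, ← hc, S.cn_apply]; rfl
  set h := (c : G) * g⁻¹ with hh
  have hhz : h * S.z * h⁻¹ = u * S.z := by
    rw [← hc', hh]; simp [mul_assoc]
  have hhu : h * u * h⁻¹ = S.z := by
    have e := conj_z (S := S) c.2
    calc h * u * h⁻¹ = (c : G) * S.z * (c : G)⁻¹ := by rw [hh, ← hg]; simp [mul_assoc]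
      _ = S.z := e
  have hhuz : h * (u * S.z) * h⁻¹ = u := by
    rw [← conj_mul, hhu, hhz, ← mul_assoc, ← (S.mem_C u).1 huC, mul_assoc, D.rel.zz, mul_one]
  -- square roots of `z` and of `uz` in `C(⟨u, z⟩)`
  let A : G → Set G := fun t => {x | x * S.z = S.z * x ∧ x * u = u * x ∧ x * x = t}
  have hAB : Nat.card (A S.z) = Nat.card (A (u * S.z)) := by
    refine Nat.card_congr (Equiv.subtypeEquiv (MulAut.conj h).toEquiv fun x => ?_)
    show (x * S.z = S.z * x ∧ x * u = u * x ∧ x * x = S.z) ↔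
      (h * x * h⁻¹ * S.z = S.z * (h * x * h⁻¹) ∧ h * x * h⁻¹ * u = u * (h * x * h⁻¹) ∧
        h * x * h⁻¹ * (h * x * h⁻¹) = u * S.z)
    have e1 : ∀ y z' : G, h * y * h⁻¹ * (h * z' * h⁻¹) = h * (y * z') * h⁻¹ := fun y z' => conj_mul
    have einj : ∀ y z' : G, h * y * h⁻¹ = h * z' * h⁻¹ ↔ y = z' := fun y z' => by simp
    conv_rhs => arg 1; rw [← hhu, e1, e1, einj]
    conv_rhs => arg 2; arg 1; rw [← hhuz, e1, e1, einj]
    conv_rhs => arg 2; arg 2; rw [← hhz, e1, einj]
    constructor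
    · rintro ⟨a, b, d⟩
      exact ⟨b, ((show Commute x u from b).mul_right a).eq, d⟩
    · rintro ⟨b, a, d⟩
      refine ⟨?_, b, d⟩
      have hc : Commute x (u * (u * S.z)) := (show Commute x u from b).mul_right a
      rwa [← mul_assoc, hu2, one_mul] at hc
  have hcount : ∀ t : QW, qev D.uu S.z t ∈ ({S.z, u * S.z} : Set G) →
      Nat.card (A (qev D.uu S.z t)) = Fintype.card {p : Fin 32 × Fin 60 // rootCond t p} := by
    intro t _
    rw [← Nat.card_eq_fintype_card]
    refine (Nat.card_congr ((Equiv.ofBijective _ D.el_bijective).subtypeEquiv (q := fun x : S.C =>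
      (x : G) * u = u * (x : G) ∧ (x : G) * (x : G) = qev D.uu S.z t) fun p => ?_) |>.trans
      (Nat.card_congr
        { toFun := fun x => ⟨(x.1 : G), (S.mem_C _).1 x.1.2, x.2⟩
          invFun := fun x => ⟨⟨x.1, (S.mem_C _).2 x.2.1⟩, x.2.2⟩
          left_inv := fun x => rfl
          right_inv := fun x => rfl })).symm
    show rootCond t p ↔ (D.el p * u = u * D.el p ∧ D.el p * D.el p = qev D.uu S.z t)
    have hk := (D.lift_exact (pe p.2)).conj 0
    have hcomm : D.el p * u = u * D.el p ↔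
        qmul (qb p.1) (qgen (pfV p.2 0)) = qmul (qgen 0) (qb p.1) := by
      rw [el, mul_assoc, show D.lift (pe p.2) * u = _ from mul_inv_eq_iff_eq_mul.1 hk, ← mul_assoc,
        ← mul_assoc, mul_left_inj,
        ← qev_qgen D.rel ((pe p.2).1 0), hu_def, ← qev_qgen D.rel 0, ← qev_mul D.rel, ← qev_mul D.rel]
      exact ⟨fun e => qev_injective D.rel S.z_ne_one e, fun e => congrArg _ e⟩
    rw [hcomm, D.el_sq]
    refine and_congr_right fun _ => ?_
    have hp0 : pe p.2 = 1 ↔ p.2.val = 0 := by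
      refine ⟨fun e => congrArg Fin.val (pe_injective (a₁ := p.2) (a₂ := 0) ?_),
        fun e => by rw [e, pe_zero]⟩
      show pe p.2 = pe 0
      rw [e, pe_zero]
    have hsq : pe p.2 * pe p.2 = 1 → D.lift (pe p.2) * D.lift (pe p.2) =
        qev D.uu S.z (qpow (decide (p.2.val ≠ 0)) qz) := by
      intro hp
      by_cases h1 : pe p.2 = 1
      · rw [decide_eq_false (not_not.2 (hp0.1 h1)), h1, D.lift_one, one_mul]
        exact (qev_qone D.rel).symm
      · have hne : p.2.val ≠ 0 := fun e => h1 (hp0.2 e)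
        rw [decide_eq_true hne, hz _ h1 hp]
        exact D.qz_val.symm
    constructor
    · rintro ⟨hinv, ht⟩
      rw [hsq (Subtype.ext (Equiv.ext hinv)), ← qev_mul D.rel, ht]
    · intro hx
      have hinv : pe p.2 * pe p.2 = 1 := by
        have hq : ∀ a : QW, ∀ ha : qev D.uu S.z a ∈ S.C, D.act ⟨_, ha⟩ = 1 := fun a ha => by
          obtain ⟨y, hy, he⟩ := D.qev_mem a
          rw [show (⟨_, ha⟩ : S.C) = y from Subtype.ext he.symm]
          exact D.act_QG hy
        have e := congrArg D.act (show (⟨D.el p, D.el_mem p⟩ : S.C) * ⟨D.el p, D.el_mem p⟩ =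
          ⟨qev D.uu S.z t, map_subtype_le _ (D.qev_mem t)⟩ from Subtype.ext ((D.el_sq p).trans hx))
        rw [map_mul, D.el_act, hq] at e
        exact Subtype.ext e
      refine ⟨Equiv.ext_iff.1 (congrArg Subtype.val hinv), ?_⟩
      rw [hsq hinv, ← qev_mul D.rel] at hx
      exact qev_injective D.rel S.z_ne_one hx
  have hzv : qev D.uu S.z qz = S.z := D.qz_val
  have huzv : qev D.uu S.z (qmul (qgen 0) qz) = u * S.z := by
    rw [qev_mul D.rel, qev_qgen D.rel, D.qz_val]
  have h36 := hcount qz (Or.inl hzv)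
  have h12 := hcount (qmul (qgen 0) qz) (Or.inr huzv)
  rw [hzv, root_counts.1] at h36
  rw [huzv, root_counts.2] at h12
  omega

end Five

/-- Coordinates on `C(z)`. -/
structure Coord (S : Pre G) extends Five S where
  /-- the complement -/
  κ : alternatingGroup (Fin 5) →* G
  κ_exact : ∀ π, toFive.Exact (κ π) π

theorem exists_coord (hone : ∀ x y : G, orderOf x = 2 → orderOf y = 2 → IsConj x y) :
    Nonempty (Coord S) := by
  classical
  obtain ⟨D⟩ := exists_five S
  obtain ⟨e⟩ := CfsgLib.Recog.presentation_alternating_five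
  set rels : Set (FreeGroup (Fin 2)) := {FreeGroup.of (0 : Fin 2) ^ 3, FreeGroup.of (1 : Fin 2) ^ 5,
      (FreeGroup.of (0 : Fin 2) * FreeGroup.of 1) ^ 2} with hrels
  let a : Fin 2 → alternatingGroup (Fin 5) := fun i => e (PresentedGroup.of i)
  have hrel : ∀ r ∈ rels, PresentedGroup.mk rels r = 1 := fun r hr => PresentedGroup.one_of_mem hr
  have ha3 : a 0 ^ 3 = 1 := by
    rw [← map_pow, ← map_one e]
    exact congrArg e (by simpa [map_pow, PresentedGroup.of] using hrel _ (Or.inl rfl))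
  have ha5 : a 1 ^ 5 = 1 := by
    rw [← map_pow, ← map_one e]
    exact congrArg e (by simpa [map_pow, PresentedGroup.of] using hrel _ (Or.inr (Or.inl rfl)))
  have ha2 : (a 0 * a 1) ^ 2 = 1 := by
    rw [← map_mul, ← map_pow, ← map_one e]
    exact congrArg e
      (by simpa [map_pow, map_mul, PresentedGroup.of] using hrel _ (Or.inr (Or.inr rfl)))
  have ha1 : a 0 * a 1 ≠ 1 := by
    intro h
    have h0 : a 0 = (a 1)⁻¹ := eq_inv_of_mul_eq_one_left h
    have h05 : a 0 ^ 5 = 1 := by rw [h0, inv_pow, ha5, inv_one]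
    have hz0 : a 0 = 1 := by
      have h6 : a 0 ^ 6 = 1 := by rw [show 6 = 3 * 2 from rfl, pow_mul, ha3, one_pow]
      rwa [show 6 = 5 + 1 from rfl, pow_succ, h05, one_mul] at h6
    have hz1 : a 1 = 1 := by rwa [hz0, one_mul] at h
    have htop : (⊤ : Subgroup (PresentedGroup rels)) ≤ e.toMonoidHom.ker := by
      rw [← PresentedGroup.closure_range_of rels, closure_le]
      rintro _ ⟨i, rfl⟩
      fin_cases i
      exacts [hz0, hz1]
    obtain ⟨x, hx, hx1⟩ := CfsgLib.Small.JTwoType.a5_exists_five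
    exact hx1 (by simpa using htop (mem_top (e.symm x)))
  obtain ⟨x₀, hx₀⟩ := D.exists_exact (a 0)
  obtain ⟨y₀, hy₀⟩ := D.exists_exact (a 1)
  have hx : D.Exact (x₀ ^ 4) (a 0) := by
    have h := hx₀.pow 4
    rwa [show a 0 ^ 4 = a 0 by rw [pow_succ, ha3, one_mul]] at h
  have hy : D.Exact (y₀ ^ 16) (a 1) := by
    have h := hy₀.pow 16
    rwa [show a 1 ^ 16 = a 1 by
      rw [show 16 = 5 * 3 + 1 from rfl, pow_succ, pow_mul, ha5, one_pow, one_mul]] at h
  have hx3 : (x₀ ^ 4) ^ 3 = 1 := by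
    rw [← pow_mul, mul_comm, pow_mul, show 4 = 2 * 2 from rfl, pow_mul]
    rcases (ha3 ▸ hx₀.pow 3 : D.Exact (x₀ ^ 3) 1).eq_one_or_z with h | h <;> rw [h]
    · simp
    · rw [S.z_sq, one_pow]
  have hy5 : (y₀ ^ 16) ^ 5 = 1 := by
    rw [← pow_mul, mul_comm, pow_mul, show 16 = 2 * 8 from rfl, pow_mul]
    rcases (ha5 ▸ hy₀.pow 5 : D.Exact (y₀ ^ 5) 1).eq_one_or_z with h | h <;> rw [h]
    · simp
    · rw [S.z_sq, one_pow]
  have hxy := hx.mul hy
  have hxy2 : (x₀ ^ 4 * y₀ ^ 16) ^ 2 = 1 := by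
    rcases (ha2 ▸ hxy.pow 2 : D.Exact _ 1).eq_one_or_z with h | h
    · exact h
    · exfalso
      refine D.not_twisted hone fun π hπ hπ2 => ?_
      obtain ⟨σ, hσ⟩ := a5_conj_invol (a 0 * a 1) π ha2 ha1 ((sq π).trans hπ2) hπ
      obtain ⟨c, hc⟩ := D.exists_exact σ
      have hk : D.Exact (c * (x₀ ^ 4 * y₀ ^ 16) * c⁻¹) π := hσ ▸ (hc.mul hxy).mul hc.inv
      rw [hk.sq_eq (D.lift_exact π), conj_mul, ← sq, h, Five.conj_z hc.memC]
  let f : Fin 2 → G := ![x₀ ^ 4, y₀ ^ 16]
  have hf : ∀ r ∈ rels, FreeGroup.lift f r = 1 := by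
    rw [hrels]
    rintro r (rfl | rfl | rfl) <;>
      simp only [map_pow, map_mul, FreeGroup.lift_apply_of, f, Matrix.cons_val_zero,
        Matrix.cons_val_one]
    exacts [hx3, hy5, hxy2]
  let φ : PresentedGroup rels →* G := PresentedGroup.toGroup hf
  have hφ : ∀ p, D.Exact (φ p) (e p) := by
    intro p
    have hp : p ∈ closure (Set.range (PresentedGroup.of (rels := rels))) :=
      (PresentedGroup.closure_range_of rels).symm ▸ mem_top p
    induction hp using closure_induction with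
    | mem p hp =>
      obtain ⟨i, rfl⟩ := hp
      rw [show φ (PresentedGroup.of i) = f i from PresentedGroup.toGroup.of _]
      fin_cases i
      exacts [hx, hy]
    | one => rw [map_one, map_one]; exact D.exact_one
    | mul u v _ _ hu hv => rw [map_mul, map_mul]; exact hu.mul hv
    | inv u _ hu => rw [map_inv, map_inv]; exact hu.inv
  exact ⟨{ toFive := D, κ := φ.comp e.symm.toMonoidHom,
           κ_exact := fun π => by simpa using hφ (e.symm π) }⟩

namespace Coord

variable (K : Coord S)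

/-- The element with a given code. -/
noncomputable def Φ (x : ℕ) : G := qev K.uu S.z (qb (x / 60)) * K.κ (pe x)

theorem pe_mod (x : ℕ) : pe (x % 60) = pe x := Subtype.ext (pp_mod x)

theorem Φ_mul {x y : ℕ} (hx : x < 1920) (hy : y < 1920) : K.Φ (cm x y) = K.Φ x * K.Φ y := by
  obtain ⟨h1, h2⟩ := cm_div_mod hx hy
  have hpx : x % 60 < 60 := Nat.mod_lt _ (by norm_num)
  have hpy : y % 60 < 60 := Nat.mod_lt _ (by norm_num)
  have ha := ac_ok hpx (show y / 60 < 32 by omega)
  have hm := qm_ok (show x / 60 < 32 by omega) ha.2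
  rw [Φ, h1, hm.1, ha.1, ← pe_mod (cm x y), h2, (pm_ok hpx hpy).2, pe_mod, pe_mod, pp_mod, map_mul,
    qev_mul K.rel,
    qev_act K.rel (k := K.κ (pe x)) (π := pp x) (K.κ_exact (pe x)).conj
      (Five.conj_z (K.κ_exact (pe x)).memC), Φ, Φ]
  simp [mul_assoc]

theorem Φ_zero : K.Φ 0 = 1 := by
  rw [Φ, pe_zero, map_one, mul_one, show qb (0 / 60) = qone by decide +kernel, qev_qone K.rel]

theorem Φ_z : K.Φ 60 = S.z := by
  rw [Φ, show pe 60 = 1 by decide +kernel, map_one, mul_one,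
    show qb (60 / 60) = qz by decide +kernel]
  exact K.toFive.qz_val

theorem Φ_mem (x : ℕ) : K.Φ x ∈ S.C :=
  mul_mem (map_subtype_le _ (K.toFive.qev_mem _)) (K.κ_exact _).memC

theorem Φ_bijective : Function.Bijective fun x : Fin 1920 => (⟨K.Φ x, K.Φ_mem x⟩ : S.C) := by
  refine (Nat.bijective_iff_injective_and_card _).2 ⟨fun x y h => ?_, by rw [S.card_C, Nat.card_fin]⟩
  have hact : ∀ x : ℕ, K.toFive.act ⟨K.Φ x, K.Φ_mem x⟩ = pp x := fun x => by
    obtain ⟨w, hw, he⟩ := K.toFive.qev_mem (qb (x / 60))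
    rw [show (⟨K.Φ x, K.Φ_mem x⟩ : S.C) = w * ⟨K.κ (pe x), (K.κ_exact _).memC⟩ from Subtype.ext
      (show qev K.uu S.z (qb (x / 60)) * K.κ (pe x) = (w : G) * K.κ (pe x) by rw [← he]; rfl),
      map_mul, K.toFive.act_QG hw, one_mul, (K.κ_exact _).act_eq]
    rfl
  have h2 : pe x = pe y := by
    apply Subtype.ext
    have e := congrArg K.toFive.act h
    rwa [hact, hact] at e
  have h3 : x.val % 60 = y.val % 60 := congrArg Fin.val (pe_injective
    (a₁ := ⟨x.val % 60, Nat.mod_lt _ (by norm_num)⟩) (a₂ := ⟨y.val % 60, Nat.mod_lt _ (by norm_num)⟩)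
    (show pe (x.val % 60) = pe (y.val % 60) by rw [pe_mod, pe_mod, h2]))
  have h4 : K.Φ x = K.Φ y := congrArg Subtype.val h
  rw [Φ, Φ, h2] at h4
  have h5 := congrArg qn (qev_injective K.rel S.z_ne_one (mul_right_cancel h4))
  rw [show qn (qb (x.val / 60)) = x.val / 60 from qn_qb ⟨x.val / 60, by omega⟩,
    show qn (qb (y.val / 60)) = y.val / 60 from qn_qb ⟨y.val / 60, by omega⟩] at h5
  exact Fin.ext (by omega)

theorem Φ_inj {x y : ℕ} (hx : x < 1920) (hy : y < 1920) (h : K.Φ x = K.Φ y) : x = y :=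
  congrArg Fin.val (K.Φ_bijective.1 (a₁ := ⟨x, hx⟩) (a₂ := ⟨y, hy⟩) (Subtype.ext h))

theorem Φ_surj {g : G} (hg : g ∈ S.C) : ∃ x, x < 1920 ∧ K.Φ x = g := by
  obtain ⟨x, hx⟩ := K.Φ_bijective.2 ⟨g, hg⟩
  exact ⟨x, x.2, congrArg Subtype.val hx⟩

theorem Φ_ci {x : ℕ} (hx : x < 1920) : K.Φ (ci x) = (K.Φ x)⁻¹ := by
  obtain ⟨h1, h2, -⟩ := ci_ok hx
  exact eq_inv_of_mul_eq_one_right (by rw [← K.Φ_mul hx h1, h2, K.Φ_zero])

theorem Φ_conj {x y : ℕ} (hx : x < 1920) (hy : y < 1920) :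
    K.Φ (cm (cm x y) (ci x)) = K.Φ x * K.Φ y * (K.Φ x)⁻¹ := by
  rw [K.Φ_mul (cm_lt hx hy) (ci_ok hx).1, K.Φ_mul hx hy, K.Φ_ci hx]

end Coord

end CfsgLib.J3Unique
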