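import Cfsg.Agent.Lib.J3Unique.NModel

/-!
# Facts about the model of the normaliser of an elementary abelian group of order 16
-/

set_option autoImplicit false
set_option maxRecDepth 100000
set_option maxHeartbeats 0

namespace CfsgLib.J3Unique

open CfsgLib.PresCert (allBelow allBelow_spec)

/-- the element of the stabiliser with given coordinates -/
noncomputable def hel (i : Nat) : Nat := cm (eo (i % 16)) (kL.getD (i / 16) 0)

/-- conjugation in the centraliser -/
noncomputable def cconj (g x : Nat) : Nat := cm (cm g x) (ci g)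

/-- conjugation by `x₀ = 960` -/
noncomputable def sigC (x : Nat) : Nat := cm (cm 960 x) 960

/-- coordinates of an element of the stabiliser -/
noncomputable def hidx (x : Nat) : Nat :=
  let j := kL.findIdx fun k => eL.contains (cm x (ci k))
  16 * j + eL.findIdx fun e => Nat.beq e (cm x (ci (kL.getD j 0)))

/-- the action of the element of order three -/
noncomputable def phiC (x : Nat) : Nat :=
  let i := hidx x
  cm (eo (ap mG (i % 16))) (kL.getD (i / 16) 0)

theorem eo_all : allBelow 16 (fun v => decide (eo v < 1920) && allBelow 16 fun w =>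
    Nat.beq (cm (eo v) (eo w)) (eo (v ^^^ w)) &&
      (decide (eo v ≠ eo w) || decide (v = w))) = true := by decide +kernel

theorem eo_vals : eo 0 = 0 ∧ eo 1 = 60 ∧ eo 8 = 1800 ∧ eo 9 = 1860 := by decide +kernel

theorem eo_lt {v : Nat} (hv : v < 16) : eo v < 1920 := by
  have h := allBelow_spec eo_all v hv
  simp only [Bool.and_eq_true, decide_eq_true_eq] at h
  exact h.1

theorem eo_mul {v w : Nat} (hv : v < 16) (hw : w < 16) : cm (eo v) (eo w) = eo (v ^^^ w) := by
  have h := allBelow_spec eo_all v hv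
  simp only [Bool.and_eq_true, decide_eq_true_eq] at h
  have h' := allBelow_spec h.2 w hw
  simp only [Bool.and_eq_true] at h'
  exact Nat.eq_of_beq_eq_true h'.1

theorem eo_inj {v w : Nat} (hv : v < 16) (hw : w < 16) (e : eo v = eo w) : v = w := by
  have h := allBelow_spec eo_all v hv
  simp only [Bool.and_eq_true, decide_eq_true_eq] at h
  have h' := allBelow_spec h.2 w hw
  simp only [Bool.and_eq_true, Bool.or_eq_true, decide_eq_true_eq] at h'
  exact h'.2.resolve_left fun hne => hne e

theorem eL_idx {x : Nat} (h : eL.contains x = true) : ∃ v < 16, eo v = x := by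
  obtain ⟨v, hv, e⟩ := List.getElem_of_mem (List.contains_iff_mem.1 h)
  have hl : eL.length = 16 := by decide +kernel
  exact ⟨v, hl ▸ hv, by rw [eo, List.getD_eq_getElem _ _ hv, e]⟩

theorem outer_all : allBelow 1920 (fun x => Nat.beq (x % 60) 0 || !(Nat.beq (cm x x) 0) ||
    cjL.any fun c => eL.contains (cconj c x) && !(Nat.beq (cconj c x % 60) 0)) = true := by decide +kernel

theorem cjL_lt : ∀ c ∈ cjL, c < 1920 := by decide +kernel

theorem outer_into {x : Nat} (hx : x < 1920) (h1 : x % 60 ≠ 0) (h2 : cm x x = 0) :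
    ∃ c < 1920, ∃ v < 16, eo v = cconj c x ∧ eo v % 60 ≠ 0 := by
  have h := allBelow_spec outer_all x hx
  simp only [Bool.or_eq_true] at h
  rcases h with (h | h) | h
  · exact absurd (Nat.eq_of_beq_eq_true h) h1
  · rw [h2] at h; simp at h
  · obtain ⟨c, hc, hv⟩ := List.any_eq_true.1 h
    simp only [Bool.and_eq_true] at hv
    obtain ⟨v, hv16, he⟩ := eL_idx hv.1
    exact ⟨c, cjL_lt c hc, v, hv16, he, fun e => by
      rw [he] at e
      simp [e] at hv⟩

theorem cent_outer_all : allBelow 16 (fun v => Nat.beq (eo v % 60) 0 || allBelow 1920 fun x =>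
    !(Nat.beq (cm x (eo v)) (cm (eo v) x)) || eL.contains x) = true := by decide +kernel

theorem cent_outer {v x : Nat} (hv : v < 16) (h1 : eo v % 60 ≠ 0) (hx : x < 1920)
    (h : cm x (eo v) = cm (eo v) x) : ∃ w < 16, eo w = x := by
  have h' := allBelow_spec cent_outer_all v hv
  simp only [Bool.or_eq_true] at h'
  have h'' := allBelow_spec (h'.resolve_left fun e => h1 (Nat.eq_of_beq_eq_true e)) x hx
  rw [h] at h''
  simp only [Bool.or_eq_true] at h''
  exact eL_idx (h''.resolve_left (by simp))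

theorem cent_E_all : allBelow 1920 (fun x =>
    !([1, 2, 4, 8].all fun v => Nat.beq (cm x (eo v)) (cm (eo v) x)) || eL.contains x) = true := by
  decide +kernel

theorem cent_E {x : Nat} (hx : x < 1920) (h : ∀ v < 16, cm x (eo v) = cm (eo v) x) :
    ∃ w < 16, eo w = x := by
  have h' := allBelow_spec cent_E_all x hx
  simp only [List.all_cons, List.all_nil, h 1 (by norm_num), h 2 (by norm_num), h 4 (by norm_num),
    h 8 (by norm_num), Bool.or_eq_true] at h'
  exact eL_idx (h'.resolve_left (by simp))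

theorem q_pair_all : allBelow 32 (fun a => allBelow 32 fun b =>
    Nat.ble a 1 || !(Nat.beq (qm a a) 0) || !(Nat.beq (qm b b) 0) || !(Nat.beq (qm a b) (qm b a)) ||
      [0, 1, a, a ^^^ 1].contains b) = true := by decide +kernel

theorem q_pair {x y : Nat} (hx : x < 1920) (hy : y < 1920) (x0 : x % 60 = 0) (y0 : y % 60 = 0)
    (hx1 : 1 < x / 60) (hxx : cm x x = 0) (hyy : cm y y = 0) (hxy : cm x y = cm y x) :
    y ∈ [0, 60, x, 60 * ((x / 60) ^^^ 1)] := by
  have ha : x / 60 < 32 := by omega
  have hb : y / 60 < 32 := by omega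
  have hac : ∀ {a : Nat}, a < 32 → ac 0 a = a := fun {a} h => by
    have : allBelow 32 (fun a => Nat.beq (ac 0 a) a) = true := by decide +kernel
    exact Nat.eq_of_beq_eq_true (allBelow_spec this a h)
  have e1 := (cm_div_mod hx hx).1
  have e2 := (cm_div_mod hy hy).1
  have e3 := (cm_div_mod hx hy).1
  have e4 := (cm_div_mod hy hx).1
  rw [hxx, x0, hac ha] at e1
  rw [hyy, y0, hac hb] at e2
  rw [x0, hac hb] at e3
  rw [y0, hac ha] at e4
  rw [hxy, e4] at e3
  have h := allBelow_spec (allBelow_spec q_pair_all _ ha) _ hb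
  rw [← e1, ← e2, e3] at h
  have h0 : Nat.beq (0 / 60) 0 = true := rfl
  simp only [h0, Bool.not_true, Bool.or_eq_true, Bool.false_eq_true, or_false,
    List.contains_iff_mem, List.mem_cons, List.not_mem_nil] at h
  have hn : (Nat.beq (qm (x / 60) (y / 60)) (qm (x / 60) (y / 60))) = true := Nat.beq_refl _
  rw [hn] at h
  simp only [Bool.not_true, Bool.false_eq_true, or_false] at h
  simp only [List.mem_cons, List.not_mem_nil, or_false]
  rcases h with h | h | h | h | h
  · exact absurd (Nat.le_of_ble_eq_true h) (by omega)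
  all_goals omega

theorem kL_facts : ∀ j < 12, kL.getD j 0 < 1920 ∧ cword [19, 373] (kW.getD j []) = kL.getD j 0 ∧
    cm 1800 (kL.getD j 0) = cm (kL.getD j 0) 1800 := by decide +kernel

theorem kL_act_all : allBelow 12 (fun j => allBelow 16 fun v =>
    Nat.beq (cconj (kL.getD j 0) (eo v)) (eo (ap (kM.getD j 0) v)) &&
      Nat.blt (ap (kM.getD j 0) v) 16) = true := by decide +kernel

theorem kL_act {j v : Nat} (hj : j < 12) (hv : v < 16) :
    cconj (kL.getD j 0) (eo v) = eo (ap (kM.getD j 0) v) ∧ ap (kM.getD j 0) v < 16 := by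
  have h := allBelow_spec (allBelow_spec kL_act_all j hj) v hv
  simp only [Bool.and_eq_true] at h
  exact ⟨Nat.eq_of_beq_eq_true h.1, Nat.le_of_ble_eq_true h.2⟩

theorem stab_all : allBelow 1920 (fun x =>
    !([1, 2, 4, 8].all fun v => eL.contains (cconj x (eo v))) ||
      (Nat.blt (hidx x) 192 && Nat.beq (hel (hidx x)) x)) = true := by decide +kernel

theorem stab_elim {x : Nat} (hx : x < 1920) (h : ∀ v < 16, ∃ w < 16, eo w = cconj x (eo v)) :
    hidx x < 192 ∧ hel (hidx x) = x := by
  have hm : ∀ v < 16, eL.contains (cconj x (eo v)) = true := fun v hv => by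
    obtain ⟨w, hw, e⟩ := h v hv
    rw [← e, List.contains_iff_mem, eo, List.getD_eq_getElem _ _ (show w < eL.length by
      rw [show eL.length = 16 by decide +kernel]; exact hw)]
    exact List.getElem_mem _
  have h' := allBelow_spec stab_all x hx
  simp only [List.all_cons, List.all_nil, hm 1 (by norm_num), hm 2 (by norm_num), hm 4 (by norm_num),
    hm 8 (by norm_num), Bool.or_eq_true] at h'
  have h'' := h'.resolve_left (by simp)
  simp only [Bool.and_eq_true] at h''
  exact ⟨Nat.le_of_ble_eq_true h''.1, Nat.eq_of_beq_eq_true h''.2⟩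

theorem hel_all : allBelow 192 (fun i => Nat.blt (hel i) 1920 && Nat.beq (hidx (hel i)) i &&
    Nat.beq (phiC (hel i)) (cm (eo (ap mG (i % 16))) (kL.getD (i / 16) 0)) &&
    (Nat.blt (hidx (sigC (hel i))) 192 && Nat.beq (hel (hidx (sigC (hel i)))) (sigC (hel i)))) = true := by
  decide +kernel

theorem hel_facts {i : Nat} (hi : i < 192) : hel i < 1920 ∧ hidx (hel i) = i ∧
    (∃ j < 192, sigC (hel i) = hel j) := by
  have h := allBelow_spec hel_all i hi
  simp only [Bool.and_eq_true] at h
  exact ⟨Nat.le_of_ble_eq_true h.1.1.1, Nat.eq_of_beq_eq_true h.1.1.2,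
    _, Nat.le_of_ble_eq_true h.2.1, (Nat.eq_of_beq_eq_true h.2.2).symm⟩

theorem lL_all : allBelow 180 (fun i =>
    Nat.beq (mword (mgens ++ [m0]) (lW.getD i [])) (lL.getD i 0) &&
    Nat.beq (mm (lL.getD i 0) mG) (mm mG (lL.getD i 0)) &&
    (!(Nat.beq (ap (lL.getD i 0) 1) eStar) || kM.any fun a => Nat.beq (mm (lL.getD i 0) a) m0) &&
    allBelow 12 fun j => lL.contains (mm (lL.getD i 0) (kM.getD j 0))) = true := by decide +kernel

theorem lL_trans : ∀ v < 16, v ≠ 0 → ∃ M ∈ lL, ap M 1 = v := by decide +kernel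

theorem lW_small : ∀ w ∈ lW, ∀ l ∈ w, l < 4 := by decide +kernel

theorem lL_len : lL.length = 180 ∧ eL.length = 16 ∧ kM.length = 12 := by decide +kernel

theorem gen_facts : mgens = [kM.getD 1 0, kM.getD 4 0, kM.getD 8 0] ∧ mI = kM.getD 0 0 ∧
    kL.getD 1 0 = 19 ∧ kL.getD 4 0 = 373 ∧ kL.getD 0 0 = 0 ∧ eStar < 16 ∧ eStar ≠ 0 ∧ mG ∈ lL := by
  decide +kernel

/-- powers of a map -/
def mpow (M : Nat) : Nat → Nat
  | 0 => mI
  | n + 1 => mm (mpow M n) M

theorem mG_facts : mpow mG 3 = mI ∧ ap mG 1 = 8 ∧ ap mG 8 = 9 ∧ ap mG 9 = 1 ∧ mG ≠ mI ∧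
    ∀ d < 16, ap mG d < 16 ∧ (ap mG d = d → d = 0) ∧ ∃ e < 16, e ^^^ ap mG e = d := by decide +kernel

/-- a map is excluded -/
noncomputable def witOK (a b c : Nat) : Bool :=
  let M := pk eStar a b c
  let P := mword (mgens ++ [M]) (witWord 7 (wit a b c))
  ([1, 2, 3, 4, 5, 6, 7, 8, 9, 10, 11, 12, 13, 14, 15].any fun v => Nat.beq (ap M v) 0) ||
    lL.contains M || (Nat.beq (ap P 1) 1 && !(kM.contains P)) ||
    (Nat.beq (mpow P 7) mI && !(Nat.beq P mI))

theorem wit_all : allBelow 16 (fun a => allBelow 16 fun b => allBelow 16 fun c =>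
    witOK a b c && (witWord 7 (wit a b c)).all fun l => Nat.blt l 4) = true := by decide +kernel

theorem complement_all : allBelow 16 (fun d2 => allBelow 16 fun d3 =>
    let p := cm (eo d2) 373
    let q := cm (eo d3) 19
    !(Nat.beq (cm p p) 0 && Nat.beq (cm q (cm q q)) 0 &&
      Nat.beq (cm (cm p q) (cm (cm p q) (cm p q))) 0) ||
      (List.range 16).any fun e => Nat.beq (cconj (eo e) p) 373 && Nat.beq (cconj (eo e) q) 19) = true := by
  decide +kernel

theorem hcand_all : allBelow 192 (fun i =>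
    !(Nat.beq (sigC (phiC (hel i))) (hel i) &&
      [60, 13, 30, 1800, 19, 373].all fun y =>
        Nat.beq (sigC (phiC (sigC (phiC y)))) (cconj (hel i) y)) ||
      Nat.beq (hel i) 786 || Nat.beq (hel i) 1086) = true := by decide +kernel

theorem h_twist : cm (cm (sigC 1800) 1086) (eo (ap (mm mG mG) 8)) = 786 ∧
    sigC 60 = 60 ∧ sigC 1800 = 1860 ∧ sigC 1860 = 1800 := by decide +kernel

theorem cent_V_all : allBelow 1920 (fun x => !(Nat.beq (cm x 1800) (cm 1800 x)) ||
    (Nat.blt (hidx x) 192 && Nat.beq (hel (hidx x)) x)) = true := by decide +kernel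

end CfsgLib.J3Unique
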