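import Cfsg.Agent.Lib.J3Unique.NModel

/-!
# Linearity of the coded maps
-/

set_option autoImplicit false
set_option maxRecDepth 100000

namespace CfsgLib.J3Unique

theorem cond_xor (a b : Bool) (x : Nat) : cond (a ^^ b) x 0 = cond a x 0 ^^^ cond b x 0 := by
  cases a <;> cases b <;> simp

theorem ap_xor (M a b : Nat) : ap M (a ^^^ b) = ap M a ^^^ ap M b := by
  simp only [ap, Nat.testBit_xor, cond_xor]
  simp only [Nat.xor_assoc, Nat.xor_comm, Nat.xor_left_comm]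

theorem col_lt (M : Nat) : col0 M < 16 ∧ col1 M < 16 ∧ col2 M < 16 ∧ col3 M < 16 :=
  ⟨Nat.mod_lt _ (by norm_num), Nat.mod_lt _ (by norm_num), Nat.mod_lt _ (by norm_num),
    Nat.mod_lt _ (by norm_num)⟩

theorem ap_basis (M : Nat) :
    ap M 0 = 0 ∧ ap M 1 = col0 M ∧ ap M 2 = col1 M ∧ ap M 4 = col2 M ∧ ap M 8 = col3 M :=
  ⟨by simp [ap], by simp [ap, Nat.testBit, Nat.shiftRight_eq_div_pow],
    by simp [ap, Nat.testBit, Nat.shiftRight_eq_div_pow],
    by simp [ap, Nat.testBit, Nat.shiftRight_eq_div_pow],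
    by simp [ap, Nat.testBit, Nat.shiftRight_eq_div_pow]⟩

theorem ap_lt (M v : Nat) : ap M v < 16 := by
  obtain ⟨h0, h1, h2, h3⟩ := col_lt M
  have hc : ∀ (b : Bool) {x : Nat}, x < 2 ^ 4 → cond b x 0 < 2 ^ 4 := fun b x hx => by
    cases b
    · exact (by norm_num : (0 : Nat) < 2 ^ 4)
    · exact hx
  exact Nat.xor_lt_two_pow (hc _ h0) (Nat.xor_lt_two_pow (hc _ h1) (Nat.xor_lt_two_pow (hc _ h2) (hc _ h3)))

theorem col_pk {a b c d : Nat} (ha : a < 16) (hb : b < 16) (hc : c < 16) (hd : d < 16) :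
    col0 (pk a b c d) = a ∧ col1 (pk a b c d) = b ∧ col2 (pk a b c d) = c ∧ col3 (pk a b c d) = d := by
  simp only [col0, col1, col2, col3, pk]
  omega

theorem pk_cols {M : Nat} (hM : M < 65536) : pk (col0 M) (col1 M) (col2 M) (col3 M) = M := by
  simp only [col0, col1, col2, col3, pk]
  omega

theorem pk_lt {a b c d : Nat} (ha : a < 16) (hb : b < 16) (hc : c < 16) (hd : d < 16) :
    pk a b c d < 65536 := by
  simp only [pk]
  omega

theorem sixteen_cases {P : Nat → Prop} (h0 : P 0) (h1 : P 1) (h2 : P 2) (h4 : P 4) (h8 : P 8)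
    (hx : ∀ a b, a < 16 → b < 16 → P a → P b → P (a ^^^ b)) : ∀ v < 16, P v := by
  have h3 : P 3 := hx 1 2 (by norm_num) (by norm_num) h1 h2
  have h5 : P 5 := hx 1 4 (by norm_num) (by norm_num) h1 h4
  have h6 : P 6 := hx 2 4 (by norm_num) (by norm_num) h2 h4
  have h7 : P 7 := hx 3 4 (by norm_num) (by norm_num) h3 h4
  have h9 : P 9 := hx 1 8 (by norm_num) (by norm_num) h1 h8
  have h10 : P 10 := hx 2 8 (by norm_num) (by norm_num) h2 h8
  have h11 : P 11 := hx 3 8 (by norm_num) (by norm_num) h3 h8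
  have h12 : P 12 := hx 4 8 (by norm_num) (by norm_num) h4 h8
  have h13 : P 13 := hx 5 8 (by norm_num) (by norm_num) h5 h8
  have h14 : P 14 := hx 6 8 (by norm_num) (by norm_num) h6 h8
  have h15 : P 15 := hx 7 8 (by norm_num) (by norm_num) h7 h8
  intro v hv
  interval_cases v <;> assumption

theorem mm_lt (M N : Nat) : mm M N < 65536 :=
  pk_lt (ap_lt _ _) (ap_lt _ _) (ap_lt _ _) (ap_lt _ _)

theorem ap_mm (M N : Nat) {v : Nat} (hv : v < 16) : ap (mm M N) v = ap M (ap N v) := by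
  obtain ⟨e0, e1, e2, e3⟩ :=
    col_pk (ap_lt M (col0 N)) (ap_lt M (col1 N)) (ap_lt M (col2 N)) (ap_lt M (col3 N))
  obtain ⟨b0, b1, b2, b3, b4⟩ := ap_basis (mm M N)
  obtain ⟨n0, n1, n2, n3, n4⟩ := ap_basis N
  refine sixteen_cases (P := fun v => ap (mm M N) v = ap M (ap N v)) ?_ ?_ ?_ ?_ ?_
    (fun a b _ _ ha hb => by
      show ap (mm M N) (a ^^^ b) = ap M (ap N (a ^^^ b))
      rw [ap_xor, ha, hb, ap_xor N, ap_xor]) v hv
  · show ap (mm M N) 0 = ap M (ap N 0); rw [b0, n0, (ap_basis M).1]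
  · show ap (mm M N) 1 = ap M (ap N 1); rw [b1, n1]; exact e0
  · show ap (mm M N) 2 = ap M (ap N 2); rw [b2, n2]; exact e1
  · show ap (mm M N) 4 = ap M (ap N 4); rw [b3, n3]; exact e2
  · show ap (mm M N) 8 = ap M (ap N 8); rw [b4, n4]; exact e3

theorem ap_ext {M M' : Nat} (hM : M < 65536) (hM' : M' < 65536)
    (h : ∀ v < 16, ap M v = ap M' v) : M = M' := by
  obtain ⟨-, a1, a2, a3, a4⟩ := ap_basis M
  obtain ⟨-, c1, c2, c3, c4⟩ := ap_basis M'
  rw [← pk_cols hM, ← pk_cols hM', ← a1, ← a2, ← a3, ← a4, h 1 (by norm_num), h 2 (by norm_num),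
    h 4 (by norm_num), h 8 (by norm_num), c1, c2, c3, c4]

theorem ap_mI : ∀ v < 16, ap mI v = v := by decide +kernel

theorem small_tables : mI < 65536 ∧ mG < 65536 ∧ (∀ a ∈ kM, a < 65536) ∧ ∀ a ∈ lL, a < 65536 := by
  decide +kernel

end CfsgLib.J3Unique
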