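import Cfsg.Agent.Lib.J3Unique.Coord
import Cfsg.Agent.Lib.J3Unique.NChecks
import Cfsg.Agent.Lib.J3Unique.NLin

/-!
# The elementary abelian subgroup of order 16 and the elements normalising it
-/

set_option autoImplicit false
set_option linter.unusedSectionVars false
set_option maxRecDepth 100000

namespace CfsgLib.J3Unique

open Subgroup
open CfsgLib.Small.JTwoType (Pre)

variable {G : Type*} [Group G] [Finite G] {S : Pre G}

namespace Coord

variable (K : Coord S)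

/-- The elements of the elementary abelian subgroup. -/
noncomputable def eH (v : ℕ) : G := K.Φ (eo v)

theorem eH_mul {v w : ℕ} (hv : v < 16) (hw : w < 16) : K.eH (v ^^^ w) = K.eH v * K.eH w := by
  rw [eH, eH, eH, ← K.Φ_mul (eo_lt hv) (eo_lt hw), eo_mul hv hw]

theorem eH_zero : K.eH 0 = 1 := by rw [eH, eo_vals.1, K.Φ_zero]

theorem eH_one : K.eH 1 = S.z := by rw [eH, eo_vals.2.1, K.Φ_z]

theorem eH_sq {v : ℕ} (hv : v < 16) : K.eH v * K.eH v = 1 := by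
  rw [← K.eH_mul hv hv, Nat.xor_self, K.eH_zero]

theorem eH_inv {v : ℕ} (hv : v < 16) : (K.eH v)⁻¹ = K.eH v :=
  inv_eq_of_mul_eq_one_right (K.eH_sq hv)

theorem eH_comm {v w : ℕ} (hv : v < 16) (hw : w < 16) : K.eH v * K.eH w = K.eH w * K.eH v := by
  rw [← K.eH_mul hv hw, ← K.eH_mul hw hv, Nat.xor_comm]

theorem eH_inj {v w : ℕ} (hv : v < 16) (hw : w < 16) (h : K.eH v = K.eH w) : v = w :=
  eo_inj hv hw (K.Φ_inj (eo_lt hv) (eo_lt hw) h)

theorem eH_mem {v : ℕ} : K.eH v ∈ S.C := K.Φ_mem _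

theorem eH_ne_one {v : ℕ} (hv : v < 16) (h : v ≠ 0) : K.eH v ≠ 1 := fun e =>
  h (K.eH_inj hv (by norm_num) (e.trans K.eH_zero.symm))

theorem eH_order {v : ℕ} (hv : v < 16) (h : v ≠ 0) : orderOf (K.eH v) = 2 :=
  orderOf_eq_prime (by rw [sq, K.eH_sq hv]) (K.eH_ne_one hv h)

/-- An element inducing a given map. -/
structure Acts (n : G) (M : ℕ) : Prop where
  lt : M < 65536
  conj : ∀ v < 16, n * K.eH v * n⁻¹ = K.eH (ap M v)

/-- An element normalising the subgroup. -/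
def Nml (n : G) : Prop := ∀ v < 16, ∃ w < 16, n * K.eH v * n⁻¹ = K.eH w

variable {K}

theorem Acts.nml {n : G} {M : ℕ} (h : K.Acts n M) : K.Nml n :=
  fun v hv => ⟨ap M v, ap_lt M v, h.conj v hv⟩

theorem Acts.mul {n m : G} {M N : ℕ} (h : K.Acts n M) (k : K.Acts m N) :
    K.Acts (n * m) (mm M N) :=
  ⟨mm_lt M N, fun v hv => by
    rw [ap_mm M N hv, ← h.conj _ (ap_lt N v), ← k.conj v hv]
    simp [mul_assoc]⟩

theorem Acts.unique {n : G} {M N : ℕ} (h : K.Acts n M) (k : K.Acts n N) : M = N :=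
  ap_ext h.lt k.lt fun v hv =>
    K.eH_inj (ap_lt M v) (ap_lt N v) ((h.conj v hv).symm.trans (k.conj v hv))

theorem Nml.mul {n m : G} (h : K.Nml n) (k : K.Nml m) : K.Nml (n * m) := fun v hv => by
  obtain ⟨w, hw, e⟩ := k v hv
  obtain ⟨u, hu, e'⟩ := h w hw
  exact ⟨u, hu, by rw [← e', ← e]; simp [mul_assoc]⟩

theorem Nml.exists_acts {n : G} (h : K.Nml n) : ∃ M, K.Acts n M := by
  obtain ⟨a, ha, ea⟩ := h 1 (by norm_num)
  obtain ⟨b, hb, eb⟩ := h 2 (by norm_num)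
  obtain ⟨c, hc, ec⟩ := h 4 (by norm_num)
  obtain ⟨d, hd, ed⟩ := h 8 (by norm_num)
  obtain ⟨h0, h1, h2, h4, h8⟩ := ap_basis (pk a b c d)
  obtain ⟨e0, e1, e2, e3⟩ := col_pk ha hb hc hd
  refine ⟨pk a b c d, pk_lt ha hb hc hd, sixteen_cases ?_ ?_ ?_ ?_ ?_ ?_⟩
  · rw [h0, K.eH_zero, mul_one, mul_inv_cancel]
  · rw [h1, e0]; exact ea
  · rw [h2, e1]; exact eb
  · rw [h4, e2]; exact ec
  · rw [h8, e3]; exact ed
  · intro x y hx hy px py
    rw [ap_xor, K.eH_mul (ap_lt _ _) (ap_lt _ _), K.eH_mul hx hy, ← px, ← py]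
    simp [mul_assoc]

variable (K)

theorem acts_one : K.Acts 1 mI :=
  ⟨small_tables.1, fun v hv => by rw [ap_mI v hv, one_mul, inv_one, mul_one]⟩

theorem acts_eH {d : ℕ} (hd : d < 16) : K.Acts (K.eH d) mI :=
  ⟨small_tables.1, fun v hv => by rw [ap_mI v hv, K.eH_comm hd hv, mul_inv_cancel_right]⟩

theorem acts_kL {j : ℕ} (hj : j < 12) : K.Acts (K.Φ (kL.getD j 0)) (kM.getD j 0) := by
  have hl : j < kM.length := lL_len.2.2.symm ▸ hj
  refine ⟨small_tables.2.2.1 _ (by rw [List.getD_eq_getElem _ _ hl]; exact List.getElem_mem _),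
    fun v hv => ?_⟩
  rw [eH, eH, ← K.Φ_conj (kL_facts j hj).1 (eo_lt hv)]
  exact congrArg K.Φ (kL_act hj hv).1

variable {K}

theorem Acts.pow {n : G} {M : ℕ} (h : K.Acts n M) : ∀ k, K.Acts (n ^ k) (mpow M k)
  | 0 => by rw [pow_zero]; exact K.acts_one
  | k + 1 => by rw [pow_succ]; exact (h.pow k).mul h

theorem Acts.mul_eH {n : G} {M d : ℕ} (h : K.Acts n M) (hd : d < 16) :
    K.Acts (K.eH d * n) M :=
  ⟨h.lt, fun v hv => by
    rw [show K.eH d * n * K.eH v * (K.eH d * n)⁻¹ = K.eH d * (n * K.eH v * n⁻¹) * (K.eH d)⁻¹ by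
      simp [mul_assoc], h.conj v hv, K.eH_comm hd (ap_lt M v), mul_inv_cancel_right]⟩

/-- Only the elements of the subgroup act trivially. -/
theorem Acts.trivial {g : G} (h : K.Acts g mI) : ∃ d < 16, g = K.eH d := by
  have hc : ∀ v < 16, g * K.eH v = K.eH v * g := fun v hv =>
    mul_inv_eq_iff_eq_mul.1 ((h.conj v hv).trans (by rw [ap_mI v hv]))
  have hz := hc 1 (by norm_num)
  rw [K.eH_one] at hz
  obtain ⟨x, hx, rfl⟩ := K.Φ_surj ((S.mem_C g).2 hz)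
  obtain ⟨d, hd, e⟩ := cent_E hx fun v hv =>
    K.Φ_inj (cm_lt hx (eo_lt hv)) (cm_lt (eo_lt hv) hx)
      (by rw [K.Φ_mul hx (eo_lt hv), K.Φ_mul (eo_lt hv) hx]; exact hc v hv)
  exact ⟨d, hd, by rw [eH, e]⟩

theorem Acts.eq_mul_eH {g g' : G} {M : ℕ} (h : K.Acts g M) (h' : K.Acts g' M) :
    ∃ d < 16, g' = K.eH d * g := by
  have ht : K.Acts (g' * g⁻¹) mI := ⟨small_tables.1, fun v hv => by
    have hn : K.Nml g⁻¹ := by
      have hpow : g⁻¹ = g ^ (orderOf g - 1) := by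
        rw [eq_comm, ← mul_eq_one_iff_eq_inv, ← pow_succ,
          Nat.sub_add_cancel (orderOf_pos g), pow_orderOf_eq_one]
      rw [hpow]
      exact (h.pow _).nml
    obtain ⟨w, hw, ew⟩ := hn v hv
    rw [inv_inv] at ew
    have hv' : v = ap M w := K.eH_inj hv (ap_lt M w) (by
      rw [← h.conj w hw, ← ew]; simp [mul_assoc])
    rw [ap_mI v hv, show g' * g⁻¹ * K.eH v * (g' * g⁻¹)⁻¹ = g' * (g⁻¹ * K.eH v * g) * g'⁻¹ by
      simp [mul_assoc], ew, h'.conj w hw, ← hv']⟩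
  obtain ⟨d, hd, e⟩ := ht.trivial
  exact ⟨d, hd, by rw [← e, inv_mul_cancel_right]⟩

variable (K)

/-- The normaliser. -/
def N : Subgroup G where
  carrier := {n | K.Nml n}
  one_mem' := K.acts_one.nml
  mul_mem' := fun ha hb => ha.mul hb
  inv_mem' := fun {g} hg => by
    obtain ⟨M, hM⟩ := Nml.exists_acts (K := K) hg
    have hpow : g⁻¹ = g ^ (orderOf g - 1) := by
      rw [eq_comm, ← mul_eq_one_iff_eq_inv, ← pow_succ,
        Nat.sub_add_cancel (orderOf_pos g), pow_orderOf_eq_one]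
    show K.Nml g⁻¹
    rw [hpow]
    exact (hM.pow _).nml

theorem mem_N {n : G} : n ∈ K.N ↔ K.Nml n := Iff.rfl

/-- The stabiliser elements. -/
noncomputable def hE (i : ℕ) : G := K.Φ (hel i)

theorem hE_eq {i : ℕ} (hi : i < 192) : K.hE i = K.eH (i % 16) * K.Φ (kL.getD (i / 16) 0) := by
  rw [hE, hel, K.Φ_mul (eo_lt (Nat.mod_lt _ (by norm_num))) (kL_facts _ (by omega)).1]
  rfl

theorem hE_acts {i : ℕ} (hi : i < 192) : K.Acts (K.hE i) (kM.getD (i / 16) 0) := by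
  rw [K.hE_eq hi]
  exact (K.acts_kL (by omega)).mul_eH (Nat.mod_lt _ (by norm_num))

theorem hE_inj {i j : ℕ} (hi : i < 192) (hj : j < 192) (h : K.hE i = K.hE j) : i = j := by
  have e := K.Φ_inj (hel_facts hi).1 (hel_facts hj).1 h
  rw [← (hel_facts hi).2.1, e, (hel_facts hj).2.1]

theorem stab_cases {g : G} (hg : K.Nml g) (hz : g * S.z = S.z * g) :
    ∃ i < 192, g = K.hE i := by
  obtain ⟨x, hx, rfl⟩ := K.Φ_surj ((S.mem_C g).2 hz)
  obtain ⟨h1, h2⟩ := stab_elim hx fun v hv => by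
    obtain ⟨w, hw, e⟩ := hg v hv
    refine ⟨w, hw, K.Φ_inj (eo_lt hw) (cm_lt (cm_lt hx (eo_lt hv)) (ci_ok hx).1) ?_⟩
    show K.Φ (eo w) = K.Φ (cm (cm x (eo v)) (ci x))
    rw [K.Φ_conj hx (eo_lt hv)]
    exact e.symm
  exact ⟨_, h1, by rw [hE, h2]⟩

theorem stab_map {g : G} {M : ℕ} (hM : K.Acts g M) (h1 : ap M 1 = 1) : M ∈ kM := by
  have hz : g * S.z = S.z * g := by
    have := hM.conj 1 (by norm_num)
    rw [h1, K.eH_one] at this
    exact mul_inv_eq_iff_eq_mul.1 this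
  obtain ⟨i, hi, rfl⟩ := K.stab_cases hM.nml hz
  rw [hM.unique (K.hE_acts hi), List.getD_eq_getElem _ _ (show i / 16 < kM.length by
    rw [lL_len.2.2]; omega)]
  exact List.getElem_mem _

end Coord

end CfsgLib.J3Unique
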