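import Cfsg.Agent.Lib.J3Unique.Psi

/-!
# The conjugate of the centraliser containing the element of order three
-/

set_option autoImplicit false
set_option linter.unusedSectionVars false
set_option maxRecDepth 100000

namespace CfsgLib.J3Unique

open Subgroup
open CfsgLib.Small.JTwoType (Pre)

/-- the code in the normaliser of an element of the stabiliser -/
noncomputable def hcode (y : ℕ) : ℕ := 16 * kM.getD (hidx y / 16) 0 + hidx y % 16

/-- the code of the element of order five -/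
def fN : ℕ := 16 * 12685

/-- the map carrying `z` onto the conjugate of `i` -/
def mN : ℕ := 63770

theorem geo_facts : (12685 ∈ lL) ∧ mN ∈ lL ∧ (27506 ∈ lL) ∧ eo 10 = sigC 373 ∧ ap mN 1 = 10 ∧
    mm 27506 mN = mI ∧ mm mG mG ∈ lL ∧ mm mG (mm mG mG) = mI ∧
    nprod (List.replicate 5 fN) = nI ∧ fN ≠ nI ∧ kM.getD 4 0 ∈ lL ∧
    nprod [16 * kM.getD 4 0, fN, 16 * kM.getD 4 0, fN] = nI ∧
    mm 12685 mG = mm mG 12685 ∧
    nprod [16 * 27506, hcode 786, 16 * mm mG mG, 16 * mN] = hcode 19 ∧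
    (∀ y ∈ ([19, 373, 786, 823, 1800] : List ℕ), hidx y < 192 ∧ hel (hidx y) = y ∧ hcode y / 16 ∈ lL) := by
  decide +kernel

variable {G : Type*} [Group G] [Finite G] {S : Pre G}

namespace Ctx

variable (D : Ctx S)

theorem w_cube : D.L.w ^ 3 = 1 := D.K.cube_of_acts D.L.acts

theorem w_ne_one : D.L.w ≠ 1 := fun e => by
  have h : D.K.Acts (1 : G) mG := e ▸ D.L.acts
  exact mG_facts.2.2.2.2.1 (h.unique D.K.acts_one)

theorem w_inv : (D.L.w)⁻¹ = D.L.w * D.L.w :=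
  inv_eq_of_mul_eq_one_right (by rw [← mul_assoc, ← pow_three', D.w_cube])

theorem ψ_hcode {y : ℕ} (h1 : hidx y < 192) (h2 : hel (hidx y) = y) : D.ψ (hcode y) = D.K.Φ y := by
  rw [hcode, D.ψ_hel h1, h2]

theorem ψ_lift (M : ℕ) : D.ψ (16 * M) = D.lift M := by
  rw [← Nat.add_zero (16 * M), D.ψ_code (by norm_num), D.K.eH_zero, one_mul]

/-- The involution `i`. -/
noncomputable def i : G := D.K.Φ 373

theorem lift_i : D.lift (kM.getD 4 0) = D.i := by
  rw [D.lift_kM (by norm_num), i, gen_facts.2.2.2.1]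

theorem i_sq : D.i * D.i = 1 := by
  rw [i, ← D.K.Φ_mul (by norm_num) (by norm_num), show cm 373 373 = 0 by decide +kernel, D.K.Φ_zero]

theorem i_comm_w : D.i * D.L.w = D.L.w * D.i := by
  have := D.L.comm 4 (by norm_num)
  rw [gen_facts.2.2.2.1] at this
  exact this.symm

/-- The element `f`. -/
noncomputable def f : G := D.ψ fN

theorem f_lift : D.f = D.lift 12685 := D.ψ_lift _

theorem fN_mem : fN / 16 ∈ lL := by
  rw [show fN / 16 = 12685 from rfl]; exact geo_facts.1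

theorem f_pow : D.f ^ 5 = 1 := by
  obtain ⟨-, h⟩ := D.ψ_prod (List.replicate 5 fN) fun p hp => by
    rw [List.eq_of_mem_replicate hp]; exact fN_mem
  rw [geo_facts.2.2.2.2.2.2.2.2.1, D.ψ_one, List.map_replicate, List.prod_replicate] at h
  exact h.symm

theorem f_comm_w : D.f * D.L.w = D.L.w * D.f := by
  rw [f_lift]; exact (D.lift_spec geo_facts.1).2

theorem f_ne_one : D.f ≠ 1 := fun e => by
  obtain ⟨-, -, -, -, -, -, -, -, -, hne, -⟩ := geo_facts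
  have h : D.K.Acts (1 : G) 12685 := e ▸ (D.f_lift ▸ (D.lift_spec geo_facts.1).1)
  exact hne (by rw [fN, h.unique D.K.acts_one, nI]; ring)

theorem i_inverts_f : D.i * D.f * D.i = D.f⁻¹ := by
  obtain ⟨-, -, -, -, -, -, -, -, -, -, hk, hw, -⟩ := geo_facts
  have hi : 16 * kM.getD 4 0 / 16 ∈ lL := by rwa [Nat.mul_div_cancel_left _ (by norm_num : 16 > 0)]
  obtain ⟨-, h⟩ := D.ψ_prod [16 * kM.getD 4 0, fN, 16 * kM.getD 4 0, fN] fun p hp => by
    simp only [List.mem_cons, List.not_mem_nil, or_false] at hp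
    rcases hp with rfl | rfl | rfl | rfl
    exacts [hi, fN_mem, hi, fN_mem]
  rw [hw, D.ψ_one] at h
  simp only [List.map_cons, List.map_nil, List.prod_cons, List.prod_nil, mul_one, D.ψ_lift,
    D.lift_i] at h
  rw [show D.ψ fN = D.f from rfl] at h
  exact eq_inv_of_mul_eq_one_left (by simpa [mul_assoc] using h.symm)

/-- The conjugating element. -/
noncomputable def g : G := D.x * D.lift mN

/-- Conjugates of the centraliser elements. -/
noncomputable def ΦI (c : ℕ) : G := D.g * D.K.Φ c * D.g⁻¹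

theorem ΦI_mul {a b : ℕ} (ha : a < 1920) (hb : b < 1920) : D.ΦI (cm a b) = D.ΦI a * D.ΦI b := by
  rw [ΦI, ΦI, ΦI, D.K.Φ_mul ha hb, conj_mul]

theorem ΦI_zero : D.ΦI 0 = 1 := by rw [ΦI, D.K.Φ_zero, mul_one, mul_inv_cancel]

theorem ΦI_inj {a b : ℕ} (ha : a < 1920) (hb : b < 1920) (h : D.ΦI a = D.ΦI b) : a = b :=
  D.K.Φ_inj ha hb ((MulAut.conj D.g).injective h)

theorem conj_i : D.g⁻¹ * D.i * D.g = S.z := by
  obtain ⟨-, hm, -, he, ha, -⟩ := geo_facts
  have h1 : D.x * D.i * D.x = D.K.eH 10 := by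
    rw [i, D.x_conj (by norm_num), ← he]; rfl
  have h2 : D.lift mN * S.z * (D.lift mN)⁻¹ = D.K.eH 10 := by
    rw [← D.K.eH_one, (D.lift_spec hm).1.conj 1 (by norm_num), ha]
  have hx : D.x⁻¹ = D.x := inv_eq_of_mul_eq_one_right D.x_sq
  calc D.g⁻¹ * D.i * D.g = (D.lift mN)⁻¹ * (D.x * D.i * D.x) * D.lift mN := by
        rw [g, mul_inv_rev, hx]; simp [mul_assoc]
    _ = S.z := by rw [h1, ← h2]; simp [mul_assoc]

theorem ΦI_z : D.ΦI 60 = D.i := by
  rw [ΦI, D.K.Φ_z, ← D.conj_i]; simp [mul_assoc]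

theorem conj_w : D.g⁻¹ * D.L.w * D.g = D.K.Φ 19 := by
  obtain ⟨-, hm, hm', -, -, hinv, hww, -, -, -, -, -, -, hp, hlist⟩ := geo_facts
  obtain ⟨a1, a2, a3⟩ := hlist 786 (by simp)
  obtain ⟨b1, b2, -⟩ := hlist 19 (by simp)
  have hx : D.x⁻¹ = D.x := inv_eq_of_mul_eq_one_right D.x_sq
  have hlinv : D.lift 27506 = (D.lift mN)⁻¹ := eq_inv_of_mul_eq_one_left (by
    rw [← D.lift_mul hm' hm, hinv, D.lift_one])
  have hw2 : D.lift (mm mG mG) = (D.L.w)⁻¹ := by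
    rw [D.lift_mul gen_facts.2.2.2.2.2.2.2 gen_facts.2.2.2.2.2.2.2, D.lift_mG, D.w_inv]
  obtain ⟨-, h⟩ := D.ψ_prod [16 * 27506, hcode 786, 16 * mm mG mG, 16 * mN] fun p hp => by
    simp only [List.mem_cons, List.not_mem_nil, or_false] at hp
    rcases hp with rfl | rfl | rfl | rfl
    · rw [Nat.mul_div_cancel_left _ (by norm_num : 16 > 0)]; exact hm'
    · exact a3
    · rw [Nat.mul_div_cancel_left _ (by norm_num : 16 > 0)]; exact hww
    · rw [Nat.mul_div_cancel_left _ (by norm_num : 16 > 0)]; exact hm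
  rw [hp] at h
  simp only [List.map_cons, List.map_nil, List.prod_cons, List.prod_nil, mul_one, D.ψ_lift,
    D.ψ_hcode a1 a2, D.ψ_hcode b1 b2, hlinv, hw2] at h
  rw [h, g, mul_inv_rev, hx]
  calc (D.lift mN)⁻¹ * D.x * D.L.w * (D.x * D.lift mN)
      = (D.lift mN)⁻¹ * (D.x * D.L.w * D.x) * D.lift mN := by simp [mul_assoc]
    _ = _ := by rw [D.xwx]; simp [mul_assoc]

theorem ΦI_w : D.ΦI 19 = D.L.w := by
  rw [ΦI, ← D.conj_w]; simp [mul_assoc]

theorem exists_ΦI {y : G} (hy : y * D.i = D.i * y) : ∃ c < 1920, D.ΦI c = y := by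
  obtain ⟨c, hc, e⟩ := D.K.Φ_surj (g := D.g⁻¹ * y * D.g) ((S.mem_C _).2 (by
    rw [← D.conj_i]
    calc D.g⁻¹ * y * D.g * (D.g⁻¹ * D.i * D.g) = D.g⁻¹ * (y * D.i) * D.g := by simp [mul_assoc]
      _ = _ := by rw [hy]; simp [mul_assoc]))
  exact ⟨c, hc, by rw [ΦI, e]; simp [mul_assoc]⟩

theorem ΦI_comm_iff {a b : ℕ} (ha : a < 1920) (hb : b < 1920) :
    D.ΦI a * D.ΦI b = D.ΦI b * D.ΦI a ↔ cm a b = cm b a := by
  rw [← D.ΦI_mul ha hb, ← D.ΦI_mul hb ha]
  exact ⟨fun h => D.ΦI_inj (cm_lt ha hb) (cm_lt hb ha) h, fun h => congrArg D.ΦI h⟩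

theorem ΦI_comm_i {a : ℕ} (ha : a < 1920) : D.ΦI a * D.i = D.i * D.ΦI a := by
  rw [ΦI, ← D.ΦI_z, ΦI, D.K.Φ_z, conj_mul, conj_mul, (S.mem_C _).1 (D.K.Φ_mem a)]

end Ctx

end CfsgLib.J3Unique
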