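import Cfsg.Agent.Lib.PresCert.Check

/-!
Coset table certificate (generated data).
-/

namespace CfsgLib.J3Unique.Hs

open CfsgLib.PresCert

noncomputable def tab : BTree := (.node (.node (.leaf 0x1000068000300280c4000d8000a00000a4000d0000a00000100008800080000010000b000090000000000b8000a000001000060000300000100005800030000000000a0000900000100005000020000010000800008000000000078000800000a4000580004000001000048000200000000007000070000000000680006000000000060000500000c400040000200000000005000040000000000480003000800400098000200000100003800010000010000200000000001000030000100180a40003000010018084000280001000000000038000200000000002000010000010000180000000004800018000000000280001000000000008000080000) (.leaf 0x100a400170000c000001000150000b000001000168000f000001000160000c000001000158000d001008400138000d0020024001680010001002400130000d00080040012800090000010001200009000001000110000b002802400140000c0000010001080008001808400118000e000001000148000b000001000138000f000001000130000f000001000100000c0000010000f8000700380040015800100000010001700010)) (.node (.leaf 0x2000400100000d000001000140000e00180240016000100000010000f0000700000a400110000e0000010000e0000600000000015000100018024000e8000b003800400148000e0000010000d000050020024000c800070010024000c000060000010000b800050000010000d800060000010000a800070030024000b000050000010000a00004000001000128000f000000000120000f0010084000900006000000000108000e00300040008800050008004000800004000001000078000400000a4000a8000900000100007000030000010000c8000a0000000000f8000d0000000000f0000c00000100009000080000010000c0000a0000000000e0000b)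 (.leaf 0x0)))

noncomputable def par : BTree := (.leaf 0x20000b0000000000000009000000000030000800000000001000070000000000000007000000000020000600000000001000050000000000300004000000000000000400000000002000030000000000100003000000000000000300000000003000020000000000200002000000000000000100000000004000000000000000000000)

noncomputable def fact : BTree := (.leaf 0x0)

/-- the certificate -/
noncomputable def cert : Cert where
  n := 17
  v := 0
  g := 5
  inv := [0, 1, 3, 2, 4]
  rels := [[0, 1, 2, 0, 3, 1, 2, 0, 3], [0, 1, 2, 1, 3, 3, 3, 3, 0], [2, 3], [4, 4], [4, 1, 4, 1], [4, 2, 4, 2], [4, 0, 4, 0, 4, 0], [0, 0], [1, 1]]
  subs := [[0], [1], [2]]
  tab := tab
  par := par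
  fact := fact
  nfact := 0

/-- justifications -/
noncomputable def justs : List Cert.Just := []

end CfsgLib.J3Unique.Hs
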