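import Cfsg.Agent.Lib.J3Unique.Uniq
import Cfsg.Agent.Lib.J3Unique.CentFused
import Cfsg.Agent.Lib.Small.JankoTwoUnique
import Cfsg.Agent.Lib.Spor.J2.Order
import Cfsg.Agent.Lib.Involutions.ZStar.Main
import Cfsg.Agent.Lib.Base.Cores

/-!
# The dichotomy between the second and the third Janko group
-/

set_option autoImplicit false
set_option linter.unusedSectionVars false

namespace CfsgLib.J3Unique

open Subgroup
open CfsgLib.Small.JTwoType (Pre Setup)

universe u

/-- The involution is fused inside its centralizer. -/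
theorem exists_fused {G : Type u} [Group G] [Finite G] [IsSimpleGroup G] (t : G) (ht : orderOf t = 2)
    (Q : Subgroup (centralizer ({t} : Set G))) [Q.Normal]
    (e : centralizer ({t} : Set G) ⧸ Q ≃* alternatingGroup (Fin 5)) :
    ∃ g : G, g * t * g⁻¹ ∈ centralizer ({t} : Set G) ∧ g * t * g⁻¹ ≠ t := by
  by_contra hno
  push Not at hno
  have hiso : Cfsg.IsIsolatedInvolution t := ⟨ht, fun g hc =>
    hno g (mem_centralizer_singleton_iff.2 hc.eq.symm)⟩
  have hcen : t ∈ Subgroup.center G := by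
    refine CfsgLib.Involutions.ZStar.mem_center_of_oddCore_eq_bot hiso ?_
    haveI : (Cfsg.oddCore G).Normal := Cfsg.pPrimeCore_normal 2 G
    refine (IsSimpleGroup.eq_bot_or_eq_top_of_normal _ inferInstance).resolve_right fun h => ?_
    have h1 := (CfsgLib.Base.oddCore_eq_top_iff).1 h
    have h2 := orderOf_dvd_natCard t
    rw [ht] at h2
    exact (Nat.not_even_iff_odd.2 h1) (even_iff_two_dvd.2 h2)
  have htop : Subgroup.center G = ⊤ :=
    (IsSimpleGroup.eq_bot_or_eq_top_of_normal _ inferInstance).resolve_left fun h => by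
      rw [h, mem_bot] at hcen
      rw [hcen, orderOf_one] at ht
      exact absurd ht (by norm_num)
  obtain ⟨a, b, hab⟩ := exists_noncomm_A5
  obtain ⟨x, rfl⟩ := (e.surjective.comp (QuotientGroup.mk'_surjective Q)) a
  obtain ⟨y, rfl⟩ := (e.surjective.comp (QuotientGroup.mk'_surjective Q)) b
  have hxy : x * y = y * x :=
    Subtype.ext (mem_center_iff.1 (htop ▸ mem_top (y : G)) (x : G))
  exact hab (by simp only [Function.comp_apply, ← map_mul, hxy])

/-- A conjugate of the involution lies in the extraspecial subgroup. -/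
theorem exists_weak {G : Type u} [Group G] [Finite G] (S : Pre G) {g : G}
    (hC : g * S.z * g⁻¹ ∈ S.C) (hne : g * S.z * g⁻¹ ≠ S.z) :
    ∃ g : G, (∃ hq : g * S.z * g⁻¹ ∈ centralizer ({S.z} : Set G),
      (⟨g * S.z * g⁻¹, hq⟩ : centralizer ({S.z} : Set G)) ∈ S.Q) ∧ g * S.z * g⁻¹ ≠ S.z := by
  classical
  set a : S.C := ⟨g * S.z * g⁻¹, hC⟩ with ha
  by_cases haQ : a ∈ S.Q
  · exact ⟨g, ⟨hC, haQ⟩, hne⟩
  have hzz : S.z * S.z = 1 := by rw [← sq, S.z_sq]
  have ha2 : a ^ 2 = 1 := Subtype.ext (by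
    show (g * S.z * g⁻¹) ^ 2 = 1
    rw [conj_pow, S.z_sq, mul_one, mul_inv_cancel])
  obtain ⟨u, hu2, hua, huc⟩ : ∃ u : S.Q, u ^ 2 = 1 ∧ S.cn a u = u ∧ u ∉ Subgroup.center S.Q := by
    by_contra hall
    push Not at hall
    have hle : Nat.card {q : S.Q // q ^ 2 = 1 ∧ S.cn a q = q} ≤ Nat.card (Subgroup.center S.Q) :=
      Nat.card_le_card_of_injective (fun q => ⟨q.1, hall q.1 q.2.1 q.2.2⟩)
        fun p q h => Subtype.ext (congrArg Subtype.val h :)
    rw [(S.outer_counts ha2 haQ).2.1, S.extra.2] at hle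
    omega
  have hcomm : a * (u : S.C) = (u : S.C) * a := by
    have h := congrArg Subtype.val hua
    rw [S.cn_apply] at h
    exact mul_inv_eq_iff_eq_mul.1 h
  have hu2' : (u : S.C) * (u : S.C) = 1 := by
    rw [← sq]; exact congrArg Subtype.val hu2
  set b : S.C := a * u with hb
  have hbQ : b ∉ S.Q := fun h => haQ (by simpa [hb] using mul_mem h (inv_mem u.2))
  have hb2 : b ^ 2 = 1 := by
    rw [hb, (show Commute a (u : S.C) from hcomm).mul_pow, ha2, one_mul, sq, hu2']
  obtain ⟨c, hc⟩ := isConj_iff.1 (S.conj_outer_G ha2 haQ hb2 hbQ)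
  have hu'C : g⁻¹ * ((u : S.C) : G) * g ∈ S.C := by
    rw [S.mem_C]
    have h : (g * S.z * g⁻¹) * ((u : S.C) : G) = ((u : S.C) : G) * (g * S.z * g⁻¹) :=
      congrArg Subtype.val hcomm
    calc g⁻¹ * ((u : S.C) : G) * g * S.z
        = g⁻¹ * (((u : S.C) : G) * (g * S.z * g⁻¹)) * g := by simp [mul_assoc]
      _ = _ := by rw [← h]; simp [mul_assoc]
  set u' : S.C := ⟨_, hu'C⟩ with hu'
  have hu'2 : u' ^ 2 = 1 := Subtype.ext (by
    show (g⁻¹ * ((u : S.C) : G) * g) ^ 2 = 1
    have h : ((u : S.C) : G) * ((u : S.C) : G) = 1 := congrArg Subtype.val hu2'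
    rw [sq]
    calc _ = g⁻¹ * (((u : S.C) : G) * ((u : S.C) : G)) * g := by simp [mul_assoc]
      _ = 1 := by rw [h]; simp)
  by_cases hu'Q : u' ∈ S.Q
  · refine ⟨g⁻¹ * c * g, ?_, ?_⟩
    all_goals
      have he : g⁻¹ * c * g * S.z * (g⁻¹ * c * g)⁻¹ = S.z * (u' : G) := by
        calc g⁻¹ * c * g * S.z * (g⁻¹ * c * g)⁻¹ = g⁻¹ * (c * (g * S.z * g⁻¹) * c⁻¹) * g := by
              simp [mul_assoc]
          _ = g⁻¹ * ((g * S.z * g⁻¹) * ((u : S.C) : G)) * g := by
              rw [show c * (g * S.z * g⁻¹) * c⁻¹ = (b : G) from hc]; rfl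
          _ = _ := by simp [hu', mul_assoc]
    · rw [he]
      exact ⟨mul_mem S.zC.2 u'.2, mul_mem S.zC_mem hu'Q⟩
    · rw [he]
      intro h
      have h1 : (u' : G) = 1 := mul_eq_left.1 h
      have h2 : ((u : S.C) : G) = 1 := by
        have e : g⁻¹ * ((u : S.C) : G) * g = 1 := h1
        calc ((u : S.C) : G) = g * (g⁻¹ * ((u : S.C) : G) * g) * g⁻¹ := by simp [mul_assoc]
          _ = 1 := by rw [e]; simp
      exact huc (by
        rw [show u = 1 from Subtype.ext (Subtype.ext h2)]; exact one_mem _)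
  · obtain ⟨d, hd⟩ := isConj_iff.1 (S.conj_outer_G ha2 haQ hu'2 hu'Q)
    have he : g * d * g * S.z * (g * d * g)⁻¹ = ((u : S.C) : G) := by
      calc g * d * g * S.z * (g * d * g)⁻¹ = g * (d * (g * S.z * g⁻¹) * d⁻¹) * g⁻¹ := by
            simp [mul_assoc]
        _ = g * (u' : G) * g⁻¹ := by rw [show d * (g * S.z * g⁻¹) * d⁻¹ = (u' : G) from hd]
        _ = _ := by simp [hu', mul_assoc]
    refine ⟨g * d * g, ?_, ?_⟩
    · rw [he]; exact ⟨(u : S.C).2, u.2⟩
    · rw [he]
      intro h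
      exact huc (by
        rw [show u = S.zQ from Subtype.ext (Subtype.ext h)]; exact S.es.mem_center)

/-- The dichotomy. -/
theorem two_or_three {G : Type u} [Group G] [Finite G] [IsSimpleGroup G] (t : G) (ht : orderOf t = 2)
    (Q : Subgroup (centralizer ({t} : Set G))) [Q.Normal] (hX : Cfsg.IsExtraspecial 2 Q)
    (hcard : Nat.card Q = 32) (e : centralizer ({t} : Set G) ⧸ Q ≃* alternatingGroup (Fin 5)) :
    Cfsg.Spor.IsoJ2 G ∨ Cfsg.Spor.IsoJ3 G := by
  classical
  obtain ⟨g, hgC, hgne⟩ := exists_fused t ht Q e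
  let proj : centralizer ({t} : Set G) →* alternatingGroup (Fin 5) :=
    (e : centralizer ({t} : Set G) ⧸ Q →* alternatingGroup (Fin 5)).comp (QuotientGroup.mk' Q)
  have hs : Function.Surjective proj := e.surjective.comp (QuotientGroup.mk'_surjective Q)
  have hk : proj.ker = Q := by
    ext x
    rw [MonoidHom.mem_ker]
    show e (QuotientGroup.mk' Q x) = 1 ↔ _
    rw [e.map_eq_one_iff, QuotientGroup.mk'_apply, QuotientGroup.eq_one_iff]
  let S : Pre G := ⟨t, ht, Q, hX, hcard,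
    cent_of_fused t ht Q hX hcard proj hs hk ⟨g, hgC, hgne⟩, proj, hs, hk⟩
  by_cases hone : ∀ x y : G, orderOf x = 2 → orderOf y = 2 → IsConj x y
  · exact Or.inr (iso_J3 S hone)
  · left
    push Not at hone
    let T : Setup G := { toPre := S, weak := exists_weak S hgC hgne, two := hone }
    obtain ⟨K⟩ := T.exists_coord
    exact K.isoJ2

end CfsgLib.J3Unique
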