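import Cfsg.Agent.Lib.J3Unique.Pres
import Cfsg.Agent.Lib.Classical.SLGen
import Cfsg.Agent.Lib.Classical.Order

/-!
# The subgroup of index `6156` is `SL₂(16):2`
-/

set_option autoImplicit false
set_option maxRecDepth 100000
set_option synthInstance.maxSize 1024
set_option synthInstance.maxHeartbeats 400000

namespace CfsgLib.J3Unique

open Subgroup Matrix
open CfsgLib.PresCert
open CfsgLib.J1Unique (PG pg pg_rel toG toG_pg presModel closure_pg wv)

/-- The field with four elements. -/
abbrev GFF : Type := QuadraticAlgebra (ZMod 2) 1 1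

/-- The field with sixteen elements. -/
abbrev GFS : Type := QuadraticAlgebra GFF ⟨0, 1⟩ 1

instance decEqGFS : DecidableEq GFS := fun a b => decidable_of_iff (a.re = b.re ∧ a.im = b.im)
  QuadraticAlgebra.ext_iff.symm

instance fintypeGFF : Fintype GFF :=
  Fintype.ofEquiv _ (QuadraticAlgebra.equivProd (1 : ZMod 2) 1).symm

instance fintypeGFS : Fintype GFS :=
  Fintype.ofEquiv _ (QuadraticAlgebra.equivProd (⟨0, 1⟩ : GFF) 1).symm

theorem irr_GFF : ∀ a : GFF, a ^ 2 ≠ (⟨0, 1⟩ : GFF) + 1 * a := by decide +kernel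

theorem irr_two : ∀ r : ZMod 2, r ^ 2 ≠ (1 : ZMod 2) + 1 * r := by decide

instance fact_two : Fact (∀ r : ZMod 2, r ^ 2 ≠ (1 : ZMod 2) + 1 * r) := ⟨irr_two⟩

instance fact_GFF : Fact (∀ r : GFF, r ^ 2 ≠ (⟨0, 1⟩ : GFF) + 1 * r) := ⟨irr_GFF⟩

theorem card_GFS : Fintype.card GFS = 16 := by decide +kernel

theorem four_facts : (∀ a b : GFS, (a + b) * (a + b) * ((a + b) * (a + b)) =
      a * a * (a * a) + b * b * (b * b)) ∧
    ∀ a : GFS, a * a * (a * a) * (a * a * (a * a)) * (a * a * (a * a) * (a * a * (a * a))) = a := by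
  decide +kernel

/-- The fourth power. -/
def frobS : GFS →+* GFS where
  toFun a := a * a * (a * a)
  map_one' := by simp
  map_mul' a b := by ring
  map_zero' := by simp
  map_add' a b := four_facts.1 a b

/-- The special linear group over the field with sixteen elements. -/
abbrev SLS : Type := Matrix.SpecialLinearGroup (Fin 2) GFS

theorem frobS_frobS (A : SLS) :
    Matrix.SpecialLinearGroup.map frobS (Matrix.SpecialLinearGroup.map frobS A) = A :=
  Matrix.SpecialLinearGroup.ext _ _ fun i j => four_facts.2 _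

/-- The field automorphism of the special linear group. -/
def frobA : MulAut SLS where
  toFun := Matrix.SpecialLinearGroup.map frobS
  invFun := Matrix.SpecialLinearGroup.map frobS
  left_inv := frobS_frobS
  right_inv := frobS_frobS
  map_mul' := map_mul _

theorem frobA_sq : frobA * frobA = 1 := MulEquiv.ext frobS_frobS

/-- The action of the group of order two. -/
def frobHom : Multiplicative (ZMod 2) →* MulAut SLS where
  toFun a := if a.toAdd = 0 then 1 else frobA
  map_one' := by simp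
  map_mul' a b := by
    rcases (show ∀ x : ZMod 2, x = 0 ∨ x = 1 by decide) a.toAdd with ha | ha <;>
      rcases (show ∀ x : ZMod 2, x = 0 ∨ x = 1 by decide) b.toAdd with hb | hb <;>
      simp [toAdd_mul, ha, hb, frobA_sq, show (1 : ZMod 2) + 1 = 0 from rfl]

/-- The model of the subgroup. -/
abbrev SLT : Type := SLS ⋊[frobHom] Multiplicative (ZMod 2)

instance (priority := high) decEqSLT : DecidableEq SLT := fun a b =>
  decidable_of_iff (a.left = b.left ∧ a.right = b.right) SemidirectProduct.ext_iff.symm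

/-- a primitive element -/
def lamS : GFS := ⟨0, 1⟩

/-- The images of the letters. -/
def hImg (l : ℕ) : SLT :=
  if l = 0 then ⟨⟨!![1, 1; 0, 1], by decide +kernel⟩, 1⟩
  else if l = 1 then ⟨1, Multiplicative.ofAdd 1⟩
  else if l = 2 then ⟨⟨!![lamS, 0; 0, lamS ^ 14], by decide +kernel⟩, 1⟩
  else if l = 3 then ⟨⟨!![lamS ^ 14, 0; 0, lamS], by decide +kernel⟩, 1⟩
  else ⟨⟨!![0, 1; 1, 0], by decide +kernel⟩, 1⟩

theorem hImg_rels : ∀ w ∈ Hs.cert.rels, wv hImg w = 1 := by decide +kernel

theorem hs_lt : ∀ w ∈ Hs.cert.rels, ∀ x ∈ w, x < Hs.cert.g := fun w hw =>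
  (pres_facts.2.2.2.1 w hw).1

/-- The homomorphism to the model. -/
noncomputable def hsModel : PG Hs.cert.g Hs.cert.rels →* SLT :=
  toG Hs.cert.g Hs.cert.rels hImg hs_lt hImg_rels

theorem gen_cases : ∀ c : GFS, c = 0 ∨ ∃ k : Fin 15,
    (hImg 2 ^ (k : ℕ) * hImg 0 * hImg 3 ^ (k : ℕ)).left =
        Matrix.SpecialLinearGroup.transvection (show (0 : Fin 2) ≠ 1 by decide) c ∧
      (hImg 2 ^ (k : ℕ) * hImg 0 * hImg 3 ^ (k : ℕ)).right = 1 ∧
    (hImg 4 * (hImg 2 ^ (k : ℕ) * hImg 0 * hImg 3 ^ (k : ℕ)) * hImg 4).left =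
        Matrix.SpecialLinearGroup.transvection (show (1 : Fin 2) ≠ 0 by decide) c ∧
      (hImg 4 * (hImg 2 ^ (k : ℕ) * hImg 0 * hImg 3 ^ (k : ℕ)) * hImg 4).right = 1 := by
  decide +kernel

theorem hs_g : Hs.cert.g = 5 := pres_facts.2.2.2.2.2.2.2.2.2.2.2.2.2.2.1

theorem hsModel_surj : Function.Surjective hsModel := by
  have hl : ∀ l, l < 5 → hImg l ∈ hsModel.range := fun l hl =>
    ⟨pg _ _ l, toG_pg _ _ _ (by rw [hs_g]; exact hl)⟩
  set T := hsModel.range.comap (SemidirectProduct.inl : SLS →* SLT) with hT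
  have htop : T = ⊤ := by
    refine CfsgLib.Classical.eq_top_of_transvection_mem T fun i j hij c => ?_
    rcases gen_cases c with rfl | ⟨k, h1, h2, h3, h4⟩
    · rw [Matrix.SpecialLinearGroup.transvection_coeff_zero]; exact one_mem _
    · have hmem : hImg 2 ^ (k : ℕ) * hImg 0 * hImg 3 ^ (k : ℕ) ∈ hsModel.range :=
        mul_mem (mul_mem (pow_mem (hl 2 (by norm_num)) _) (hl 0 (by norm_num)))
          (pow_mem (hl 3 (by norm_num)) _)
      have hmem' := mul_mem (mul_mem (hl 4 (by norm_num)) hmem) (hl 4 (by norm_num))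
      rw [hT, mem_comap]
      fin_cases i <;> fin_cases j
      · exact absurd rfl hij
      · convert hmem using 1
        exact SemidirectProduct.ext h1.symm h2.symm
      · convert hmem' using 1
        exact SemidirectProduct.ext h3.symm h4.symm
      · exact absurd rfl hij
  intro y
  rw [← MonoidHom.mem_range, ← SemidirectProduct.inl_left_mul_inr_right y]
  refine mul_mem (mem_comap.1 (htop ▸ mem_top y.left : y.left ∈ T)) ?_
  rcases (show ∀ x : Multiplicative (ZMod 2), x = 1 ∨ x = Multiplicative.ofAdd 1 by decide) y.right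
    with e | e <;> rw [e]
  · rw [map_one]; exact one_mem _
  · exact hl 1 (by norm_num)

theorem card_SLT : Nat.card SLT = 8160 := by
  rw [SemidirectProduct.card, CfsgLib.Classical.card_SL_two, Nat.card_eq_fintype_card, card_GFS,
    Nat.card_eq_fintype_card, show Fintype.card (Multiplicative (ZMod 2)) = 2 from rfl]
  norm_num

/-- The letters of the subgroup in the presented group. -/
noncomputable def hsHom : PG Hs.cert.g Hs.cert.rels →* P3 :=
  toG Hs.cert.g Hs.cert.rels (fun x => pX (hMap x)) hs_lt fun w hw => by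
    have h := pg_rel (n := 10) (rels := allRels) (pres_facts.2.2.2.1 w hw).2
    simpa [wv, pX, List.map_map, Function.comp_def] using h

theorem index_hsHom : hsHom.range.index ≤ 6156 := by
  obtain ⟨-, -, -, -, -, -, -, hgs, -, -, hgn, -, -, -, hgh, -⟩ := pres_facts
  have gsub : ∀ r ∈ Good.cert.subs, wv pX r ∈ hsHom.range := by
    intro r hr
    obtain ⟨y, hy, rfl⟩ := hgs r hr
    refine ⟨pg _ _ y, ?_⟩
    rw [show wv pX [hMap y] = pX (hMap y) by simp [wv]]
    exact toG_pg _ _ _ (by rw [hgh]; exact hy)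
  obtain ⟨i3, -⟩ := Cert.index_le (goodModel hsHom.range gsub) Good.valid
  change hsHom.range.index ≤ Good.cert.n at i3
  rwa [hgn] at i3

theorem card_PG_Hs : Finite (PG Hs.cert.g Hs.cert.rels) ∧
    Nat.card (PG Hs.cert.g Hs.cert.rels) ≤ 8160 := by
  obtain ⟨-, -, -, hh, hhi, hb, hbi, -, hhs, -, -, hhn, hbn, hbs, -, hgb⟩ := pres_facts
  let ρ : PG Br.cert.g Br.cert.rels →* PG Hs.cert.g Hs.cert.rels :=
    toG Br.cert.g Br.cert.rels (pg Hs.cert.g Hs.cert.rels) (fun w hw => (hb w hw).1)
      fun w hw => pg_rel (hb w hw).2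
  have b1 := Cert.index_le (presModel Br.cert (fun w hw => (hb w hw).1) hbi (⊥ : Subgroup _)
    (fun r hr => absurd hr (by rw [hbs]; exact List.not_mem_nil))) Br.valid
  have c1 : Nat.card (PG Br.cert.g Br.cert.rels) ≤ 480 ∧
      Nat.card (PG Br.cert.g Br.cert.rels) ≠ 0 := by
    rw [← Subgroup.index_bot]
    exact ⟨b1.1.trans_eq hbn, b1.2.index_ne_zero⟩
  haveI : Finite (PG Br.cert.g Br.cert.rels) := Nat.finite_of_card_ne_zero c1.2
  have hsub : ∀ r ∈ Hs.cert.subs, wv (pg Hs.cert.g Hs.cert.rels) r ∈ ρ.range := by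
    intro r hr
    obtain ⟨y, hy, rfl⟩ := hhs r hr
    refine ⟨pg _ _ y, ?_⟩
    rw [show wv (pg Hs.cert.g Hs.cert.rels) [y] = pg Hs.cert.g Hs.cert.rels y by simp [wv]]
    exact toG_pg _ _ _ (by rw [hgb]; exact hy)
  obtain ⟨i2, f2⟩ := Cert.index_le
    (presModel Hs.cert (fun w hw => (hh w hw).1) hhi ρ.range hsub) Hs.valid
  change ρ.range.index ≤ Hs.cert.n at i2
  change ρ.range.FiniteIndex at f2
  haveI : Finite ρ.range := Finite.of_surjective _ ρ.rangeRestrict_surjective
  refine ⟨Nat.finite_of_card_ne_zero ?_, ?_⟩ <;> rw [← ρ.range.card_mul_index]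
  · exact mul_ne_zero Nat.card_pos.ne' f2.index_ne_zero
  · calc _ ≤ 480 * 17 := Nat.mul_le_mul
          ((Nat.card_le_card_of_surjective _ ρ.rangeRestrict_surjective).trans c1.1) (hhn ▸ i2)
      _ = 8160 := by norm_num

theorem hsModel_bij : Function.Bijective hsModel := by
  haveI := card_PG_Hs.1
  exact (Nat.bijective_iff_surjective_and_card hsModel).2 ⟨hsModel_surj,
    le_antisymm (card_SLT ▸ card_PG_Hs.2) (Nat.card_le_card_of_surjective _ hsModel_surj)⟩

theorem hsHom_inj (h : Nat.card P3 = 50232960) : Function.Injective hsHom := by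
  haveI := card_PG_Hs.1
  have h1 := hsHom.range.card_mul_index
  rw [h] at h1
  have h2 := index_hsHom
  have h3 : 8160 ≤ Nat.card hsHom.range := by nlinarith
  have hi := ((Nat.bijective_iff_surjective_and_card hsHom.rangeRestrict).2
    ⟨hsHom.rangeRestrict_surjective, le_antisymm (card_PG_Hs.2.trans h3)
      (Nat.card_le_card_of_surjective _ hsHom.rangeRestrict_surjective)⟩).1
  exact fun a b e => hi (Subtype.ext e)

end CfsgLib.J3Unique
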