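import Cfsg.Agent.Lib.J3Unique.Outer

/-!
# Letters in the group and a decision procedure for the relators that hold in it

The letters are `e, i, q, q⁻¹, y, s, x, p, w, w⁻¹`.
-/

set_option autoImplicit false
set_option linter.unusedSectionVars false
set_option maxRecDepth 100000

namespace CfsgLib.J3Unique

open Subgroup
open CfsgLib.Small.JTwoType (Pre)

/-- inverse letters -/
def LI (l : ℕ) : ℕ := ([0, 1, 3, 2, 4, 5, 6, 7, 9, 8] : List ℕ).getD l l

/-- the letters in the normaliser -/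
def isN (l : ℕ) : Bool := ([0, 1, 2, 3, 4, 7, 8, 9] : List ℕ).contains l

/-- codes in the normaliser -/
noncomputable def nC (l : ℕ) : ℕ :=
  ([hcode 1800, hcode 373, 16 * 59539, 16 * 19318, 16 * 26898, nI, nI, hcode 823,
    16 * mG, 16 * mm mG mG] : List ℕ).getD l nI

/-- codes in the centraliser of `i` -/
noncomputable def iC' (s0 l : ℕ) : ℕ :=
  ([30, 60, 0, 0, 0, s0, 0, 1800, 19, cm 19 19] : List ℕ).getD l 0

/-- the letters in the centraliser of `i` -/
def isI (l : ℕ) : Bool := ([0, 1, 5, 7, 8, 9] : List ℕ).contains l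

/-- the word of the conjugating element -/
def gW : List ℕ := [6, 1, 7, 4]

/-- the word of its inverse -/
def gWi : List ℕ := [4, 7, 1, 6]

/-- free reduction -/
def red : List ℕ → List ℕ
  | [] => []
  | x :: w =>
    match red w with
    | [] => [x]
    | y :: w' => if LI x = y then w' else x :: y :: w'

/-- the kinds of relators -/
inductive Why where
  | n : Why
  | i : Why
  | gx : List ℕ → Why
  | gh : List ℕ → ℕ → List ℕ → Why
  | x2 : Why
  | xwx : List ℕ → Why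
  | sfsf : Why
  | sqsq : Why

/-- checking a relator -/
noncomputable def okRel (s0 : ℕ) (r : List ℕ) : Why → Bool
  | .n => r.all isN && Nat.beq (nprod (r.map nC)) nI
  | .i => r.all isI && Nat.beq (cword (List.range 10 |>.map (iC' s0)) r) 0
  | .gx t => t.all isI && (r == red (gW ++ [6] ++ gWi ++ t)) &&
      Nat.beq (cm 960 (cword (List.range 10 |>.map (iC' s0)) t)) 0
  | .gh u c t => t.all isI && u.all isN && (r == red (gW ++ u ++ gWi ++ t)) &&
      Nat.beq (nprod (u.map nC)) (hcode c) && Nat.blt (hidx c) 192 && Nat.beq (hel (hidx c)) c &&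
      Nat.beq (cm c (cword (List.range 10 |>.map (iC' s0)) t)) 0
  | .x2 => r == [6, 6]
  | .xwx h => h.all isN && (r == [6, 8, 6] ++ h) &&
      Nat.beq (nprod (hcode 786 :: 16 * mm mG mG :: h.map nC)) nI
  | .sfsf => r == [5, 2, 9, 5, 2, 9]
  | .sqsq => r == [5, 2, 5, 2]

theorem letter_facts : (∀ l < 10, LI l < 10 ∧ LI (LI l) = l) ∧
    (∀ l < 10, isN l = true → nC l / 16 ∈ lL ∧ isN (LI l) = true ∧ nm (nC l) (nC (LI l)) = nI) ∧
    (∀ s0 ∈ s0L, ∀ l < 10, isI l = true → iC' s0 l < 1920) ∧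
    nm (16 * mG) fN = 16 * 59539 ∧ nm (16 * 59539) (16 * mm mG mG) = fN ∧
    nm (16 * 59539) (16 * 19318) = nI ∧
    nprod [hcode 373, hcode 823, 16 * 26898] = 16 * mN ∧
    hidx (sigC 1800) < 192 ∧ hel (hidx (sigC 1800)) = sigC 1800 ∧
    nprod [16 * 27506, hcode (sigC 1800), 16 * mN] = hcode 30 ∧
    hidx 30 < 192 ∧ hel (hidx 30) = 30 ∧
    hidx (sigC 823) < 192 ∧ hel (hidx (sigC 823)) = sigC 823 ∧
    nprod [16 * 27506, hcode (sigC 823), 16 * mN] = hcode 1800 ∧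
    hcode (sigC 1800) / 16 ∈ lL ∧ hcode (sigC 823) / 16 ∈ lL ∧ 26898 ∈ lL := by
  decide +kernel

variable {G : Type*} [Group G] [Finite G] {S : Pre G}

namespace Ctx

variable (D : Ctx S)

/-- The letters. -/
noncomputable def X (s0 l : ℕ) : G :=
  ([D.K.Φ 1800, D.i, D.L.w * D.f, (D.L.w * D.f)⁻¹, D.lift 26898, D.ΦI s0, D.x, D.K.Φ 823, D.L.w,
    (D.L.w)⁻¹] : List G).getD l 1

/-- The value of a word. -/
noncomputable def wX (s0 : ℕ) (w : List ℕ) : G := (w.map (D.X s0)).prod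

variable {s0 : ℕ}

theorem wX_cons (l : ℕ) (w : List ℕ) : D.wX s0 (l :: w) = D.X s0 l * D.wX s0 w := by simp [wX]

theorem wX_append (u w : List ℕ) : D.wX s0 (u ++ w) = D.wX s0 u * D.wX s0 w := by simp [wX]

theorem wX_nil : D.wX s0 [] = 1 := rfl

theorem X_n {l : ℕ} (hl : isN l = true) : D.X s0 l = D.ψ (nC l) ∧ nC l / 16 ∈ lL := by
  have hlt : l < 10 := by
    simp only [isN, List.contains_iff_mem, List.mem_cons, List.not_mem_nil, or_false] at hl
    omega
  obtain ⟨-, hn, -, hq, hq', hqi, -⟩ := letter_facts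
  refine ⟨?_, (hn l hlt hl).1⟩
  have hqv : D.ψ (16 * 59539) = D.L.w * D.f := by
    rw [← hq, D.ψ_nm (by rw [Nat.mul_div_cancel_left _ (by norm_num : 16 > 0)]; exact gen_facts.2.2.2.2.2.2.2)
      fN_mem, D.ψ_lift, D.lift_mG]
    rfl
  obtain ⟨-, -, -, -, -, -, hww, -, -, -, -, -, -, -, hlist⟩ := geo_facts
  have hh : ∀ y ∈ ([19, 373, 786, 823, 1800] : List ℕ), D.ψ (hcode y) = D.K.Φ y := fun y hy =>
    D.ψ_hcode (hlist y hy).1 (hlist y hy).2.1
  simp only [isN, List.contains_iff_mem, List.mem_cons, List.not_mem_nil, or_false] at hl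
  rcases hl with rfl | rfl | rfl | rfl | rfl | rfl | rfl | rfl
  · exact (hh 1800 (by simp)).symm
  · exact (hh 373 (by simp)).symm
  · exact hqv.symm
  · show (D.L.w * D.f)⁻¹ = D.ψ (16 * 19318)
    have c2 : 16 * 59539 / 16 ∈ lL := (hn 2 (by norm_num) rfl).1
    have c3 : 16 * 19318 / 16 ∈ lL := (hn 3 (by norm_num) rfl).1
    rw [inv_eq_iff_mul_eq_one, ← hqv, ← D.ψ_nm c2 c3, hqi, D.ψ_one]
  · show D.lift 26898 = D.ψ (16 * 26898)
    exact (D.ψ_lift 26898).symm
  · exact (hh 823 (by simp)).symm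
  · exact D.ψ_w.symm
  · show (D.L.w)⁻¹ = D.ψ (16 * mm mG mG)
    rw [D.ψ_lift, D.lift_mul gen_facts.2.2.2.2.2.2.2 gen_facts.2.2.2.2.2.2.2, D.lift_mG, D.w_inv]

theorem wX_n {w : List ℕ} (hw : w.all isN = true) :
    D.wX s0 w = D.ψ (nprod (w.map nC)) ∧ nprod (w.map nC) / 16 ∈ lL := by
  rw [List.all_eq_true] at hw
  obtain ⟨h1, h2⟩ := D.ψ_prod (w.map nC) fun p hp => by
    obtain ⟨l, hl, rfl⟩ := List.mem_map.1 hp
    exact (D.X_n (s0 := 0) (hw l hl)).2
  refine ⟨?_, h1⟩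
  rw [h2, wX, List.map_map]
  exact congrArg List.prod (List.map_congr_left fun l hl => (D.X_n (hw l hl)).1)

theorem conj_stab {u c : ℕ} (hu : u < 1920) (hi : hidx (sigC u) < 192)
    (he : hel (hidx (sigC u)) = sigC u) (hp : nprod [16 * 27506, hcode (sigC u), 16 * mN] = hcode c)
    (hci : hidx c < 192) (hce : hel (hidx c) = c) (hm : hcode (sigC u) / 16 ∈ lL) :
    D.ΦI c = D.K.Φ u := by
  obtain ⟨-, hm', hm'', -, -, hinv, -⟩ := geo_facts
  have hlinv : D.lift 27506 = (D.lift mN)⁻¹ := eq_inv_of_mul_eq_one_left (by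
    rw [← D.lift_mul hm'' hm', hinv, D.lift_one])
  obtain ⟨-, h⟩ := D.ψ_prod [16 * 27506, hcode (sigC u), 16 * mN] fun p hp => by
    simp only [List.mem_cons, List.not_mem_nil, or_false] at hp
    rcases hp with rfl | rfl | rfl
    · rw [Nat.mul_div_cancel_left _ (by norm_num : 16 > 0)]; exact hm''
    · exact hm
    · rw [Nat.mul_div_cancel_left _ (by norm_num : 16 > 0)]; exact hm'
  rw [hp] at h
  simp only [List.map_cons, List.map_nil, List.prod_cons, List.prod_nil, mul_one, D.ψ_lift,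
    D.ψ_hcode hci hce, D.ψ_hcode hi he, hlinv, ← D.x_conj hu] at h
  have hx : D.x⁻¹ = D.x := inv_eq_of_mul_eq_one_right D.x_sq
  have hxx : ∀ y : G, D.x * (D.x * y) = y := fun y => by rw [← mul_assoc, D.x_sq, one_mul]
  rw [ΦI, h, g, mul_inv_rev, hx]
  simp [mul_assoc, D.x_sq, hxx]

theorem X_i (hs : s0 ∈ s0L) {l : ℕ} (hl : isI l = true) :
    D.X s0 l = D.ΦI (iC' s0 l) ∧ iC' s0 l < 1920 := by
  have hlt : l < 10 := by
    simp only [isI, List.contains_iff_mem, List.mem_cons, List.not_mem_nil, or_false] at hl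
    omega
  obtain ⟨-, -, hI, -, -, -, -, a1, a2, a3, a4, a5, b1, b2, b3, m1, m2, -⟩ := letter_facts
  refine ⟨?_, hI s0 hs l hlt hl⟩
  obtain ⟨-, -, -, -, -, -, -, -, -, -, -, -, -, -, hlist⟩ := geo_facts
  simp only [isI, List.contains_iff_mem, List.mem_cons, List.not_mem_nil, or_false] at hl
  rcases hl with rfl | rfl | rfl | rfl | rfl | rfl
  · exact (D.conj_stab (by norm_num) a1 a2 a3 a4 a5 m1).symm
  · exact D.ΦI_z.symm
  · rfl
  · obtain ⟨c1, c2, -⟩ := hlist 1800 (by simp)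
    exact (D.conj_stab (by norm_num) b1 b2 b3 c1 c2 m2).symm
  · exact D.ΦI_w.symm
  · show (D.L.w)⁻¹ = D.ΦI (cm 19 19)
    rw [D.ΦI_mul (by norm_num) (by norm_num), D.ΦI_w, D.w_inv]

theorem wX_i (hs : s0 ∈ s0L) : ∀ w : List ℕ, w.all isI = true →
    D.wX s0 w = D.ΦI (cword (List.range 10 |>.map (iC' s0)) w) ∧
      cword (List.range 10 |>.map (iC' s0)) w < 1920
  | [], _ => ⟨by rw [wX_nil, cword, D.ΦI_zero], by simp [cword]⟩
  | l :: w, h => by
    simp only [List.all_cons, Bool.and_eq_true] at h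
    obtain ⟨h1, h2⟩ := wX_i hs w h.2
    obtain ⟨e1, e2⟩ := D.X_i hs h.1
    have hlt : l < 10 := by
      have := h.1
      simp only [isI, List.contains_iff_mem, List.mem_cons, List.not_mem_nil, or_false] at this
      omega
    have hg : (List.range 10 |>.map (iC' s0)).getD l 0 = iC' s0 l := by
      rw [List.getD_eq_getElem _ _ (by simpa using hlt)]; simp
    refine ⟨?_, by rw [cword, hg]; exact cm_lt e2 h2⟩
    rw [wX_cons, cword, hg, D.ΦI_mul e2 h2, ← e1, h1]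

theorem wX_gW : D.wX s0 gW = D.g ∧ D.wX s0 gWi = D.g⁻¹ := by
  obtain ⟨-, -, -, -, -, -, hg, -⟩ := letter_facts
  obtain ⟨h1, -⟩ := D.wX_n (s0 := s0) (w := [1, 7, 4]) (by decide)
  have hm : nprod (([1, 7, 4] : List ℕ).map nC) = 16 * mN := hg
  rw [hm, D.ψ_lift] at h1
  have e : D.wX s0 gW = D.g := by
    rw [gW, wX_cons, h1]; rfl
  refine ⟨e, eq_inv_of_mul_eq_one_left ?_⟩
  rw [← e, gW, gWi]
  have h4 : D.X s0 4 * D.X s0 4 = 1 ∧ D.X s0 7 * D.X s0 7 = 1 ∧ D.X s0 1 * D.X s0 1 = 1 ∧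
      D.X s0 6 * D.X s0 6 = 1 := by
    have hn : ∀ l, l < 10 → isN l = true → D.X s0 l * D.X s0 (LI l) = 1 := fun l hl h => by
      obtain ⟨-, hn, -⟩ := letter_facts
      obtain ⟨c1, c2, c3⟩ := hn l hl h
      rw [(D.X_n h).1, (D.X_n c2).1, ← D.ψ_nm c1 (D.X_n (s0 := s0) c2).2, c3, D.ψ_one]
    exact ⟨hn 4 (by norm_num) rfl, hn 7 (by norm_num) rfl, hn 1 (by norm_num) rfl, D.x_sq⟩
  obtain ⟨a4, a7, a1, a6⟩ := h4
  have k6 : ∀ y, D.X s0 6 * (D.X s0 6 * y) = y := fun y => by rw [← mul_assoc, a6, one_mul]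
  have k1 : ∀ y, D.X s0 1 * (D.X s0 1 * y) = y := fun y => by rw [← mul_assoc, a1, one_mul]
  have k7 : ∀ y, D.X s0 7 * (D.X s0 7 * y) = y := fun y => by rw [← mul_assoc, a7, one_mul]
  simp only [wX, List.map_cons, List.map_nil, List.prod_cons, List.prod_nil, mul_one, mul_assoc,
    k6, k1, k7, a4]

/-- The hypothesis on the outer letter. -/
structure Good (s0 : ℕ) : Prop where
  mem : s0 ∈ s0L
  inv : D.ΦI s0 * D.f * D.ΦI s0 = D.f⁻¹

variable {D}

theorem Good.lt (h : D.Good s0) : s0 < 1920 := (inverter_facts.2.2.2 _ h.mem).1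

theorem Good.sq (h : D.Good s0) : D.ΦI s0 * D.ΦI s0 = 1 := by
  rw [← D.ΦI_mul h.lt h.lt, (inverter_facts.2.2.2 _ h.mem).2.2, D.ΦI_zero]

theorem Good.w_inv (h : D.Good s0) : D.ΦI s0 * D.L.w * D.ΦI s0 = (D.L.w)⁻¹ := by
  have := D.ΦI_inverts_w h.lt (inverter_facts.2.2.2 _ h.mem).2.1
  rwa [inv_eq_of_mul_eq_one_right h.sq] at this

theorem X_LI (h : D.Good s0) {l : ℕ} (hl : l < 10) : D.X s0 l * D.X s0 (LI l) = 1 := by
  by_cases hn : isN l = true
  · obtain ⟨-, hnf, -⟩ := letter_facts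
    obtain ⟨c1, c2, c3⟩ := hnf l hl hn
    rw [(D.X_n hn).1, (D.X_n c2).1, ← D.ψ_nm c1 (D.X_n (s0 := s0) c2).2, c3, D.ψ_one]
  · interval_cases l <;> first | exact absurd rfl hn | exact h.sq | exact D.x_sq

theorem wX_red (h : D.Good s0) : ∀ w : List ℕ, (∀ l ∈ w, l < 10) →
    D.wX s0 (red w) = D.wX s0 w
  | [], _ => rfl
  | x :: w, hw => by
    have ih := wX_red h w fun l hl => hw l (List.mem_cons_of_mem _ hl)
    rw [wX_cons, ← ih]
    simp only [red]
    cases hr : red w with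
    | nil => rfl
    | cons y w' =>
      simp only
      split_ifs with e
      · rw [wX_cons, ← e, ← mul_assoc, X_LI h (hw x List.mem_cons_self), one_mul]
      · rw [wX_cons]

theorem isN_lt {l : ℕ} (h : isN l = true) : l < 10 := by
  simp only [isN, List.contains_iff_mem, List.mem_cons, List.not_mem_nil, or_false] at h
  omega

theorem isI_lt {l : ℕ} (h : isI l = true) : l < 10 := by
  simp only [isI, List.contains_iff_mem, List.mem_cons, List.not_mem_nil, or_false] at h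
  omega

theorem ΦI_conj (c : ℕ) : D.g * D.K.Φ c * D.g⁻¹ = D.ΦI c := rfl

/-- Soundness. -/
theorem okRel_sound (h : D.Good s0) {r : List ℕ} {y : Why} (hok : okRel s0 r y = true) :
    D.wX s0 r = 1 := by
  obtain ⟨eg, egi⟩ := D.wX_gW (s0 := s0)
  have hgl : (∀ l ∈ gW, l < 10) ∧ ∀ l ∈ gWi, l < 10 := by decide
  cases y with
  | n =>
    simp only [okRel, Bool.and_eq_true] at hok
    rw [(D.wX_n hok.1).1, Nat.eq_of_beq_eq_true hok.2, D.ψ_one]
  | i =>
    simp only [okRel, Bool.and_eq_true] at hok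
    rw [(D.wX_i h.mem r hok.1).1, Nat.eq_of_beq_eq_true hok.2, D.ΦI_zero]
  | gx t =>
    simp only [okRel, Bool.and_eq_true, beq_iff_eq] at hok
    obtain ⟨⟨ht, rfl⟩, h0⟩ := hok
    obtain ⟨t1, t2⟩ := D.wX_i h.mem t ht
    rw [wX_red h _ (by
      intro l hl
      simp only [List.mem_append, List.mem_singleton] at hl
      rcases hl with ((hl | hl) | hl) | hl
      · exact hgl.1 l hl
      · omega
      · exact hgl.2 l hl
      · exact isI_lt (List.all_eq_true.1 ht l hl))]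
    simp only [wX_append, eg, egi, t1]
    rw [wX_cons, wX_nil, mul_one, show D.X s0 6 = D.K.Φ 960 from rfl, ΦI_conj,
      ← D.ΦI_mul (by norm_num) t2, Nat.eq_of_beq_eq_true h0, D.ΦI_zero]
  | gh u c t =>
    simp only [okRel, Bool.and_eq_true, beq_iff_eq] at hok
    obtain ⟨⟨⟨⟨⟨⟨ht, hu⟩, rfl⟩, hc⟩, hi⟩, he⟩, h0⟩ := hok
    obtain ⟨t1, t2⟩ := D.wX_i h.mem t ht
    have hi' : hidx c < 192 := Nat.le_of_ble_eq_true hi
    have he' : hel (hidx c) = c := Nat.eq_of_beq_eq_true he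
    have hclt : c < 1920 := he' ▸ (hel_facts hi').1
    rw [wX_red h _ (by
      intro l hl
      simp only [List.mem_append] at hl
      rcases hl with ((hl | hl) | hl) | hl
      · exact hgl.1 l hl
      · exact isN_lt (List.all_eq_true.1 hu l hl)
      · exact hgl.2 l hl
      · exact isI_lt (List.all_eq_true.1 ht l hl))]
    simp only [wX_append, eg, egi, t1, (D.wX_n hu).1, Nat.eq_of_beq_eq_true hc, D.ψ_hcode hi' he']
    rw [ΦI_conj, ← D.ΦI_mul hclt t2, Nat.eq_of_beq_eq_true h0, D.ΦI_zero]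
  | x2 =>
    simp only [okRel, beq_iff_eq] at hok
    subst hok
    simp only [wX, List.map_cons, List.map_nil, List.prod_cons, List.prod_nil, mul_one]
    exact D.x_sq
  | xwx u =>
    simp only [okRel, Bool.and_eq_true, beq_iff_eq] at hok
    obtain ⟨⟨hu, rfl⟩, h0⟩ := hok
    obtain ⟨u1, u2⟩ := D.wX_n (s0 := s0) hu
    obtain ⟨-, -, -, -, -, -, hww, -, -, -, -, -, -, -, hlist⟩ := geo_facts
    obtain ⟨a1, a2, a3⟩ := hlist 786 (by simp)
    obtain ⟨-, hp⟩ := D.ψ_prod (hcode 786 :: 16 * mm mG mG :: u.map nC) (by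
      intro p hp
      simp only [List.mem_cons] at hp
      rcases hp with rfl | rfl | hp
      · exact a3
      · rw [Nat.mul_div_cancel_left _ (by norm_num : 16 > 0)]; exact hww
      · obtain ⟨l, hl, rfl⟩ := List.mem_map.1 hp
        exact (D.X_n (s0 := s0) (List.all_eq_true.1 hu l hl)).2)
    rw [Nat.eq_of_beq_eq_true h0, D.ψ_one] at hp
    have h9 : D.ψ (16 * mm mG mG) = (D.L.w)⁻¹ := (D.X_n (s0 := s0) (l := 9) rfl).1.symm
    rw [wX_append, u1]
    simp only [wX, List.map_cons, List.map_nil, List.prod_cons, List.prod_nil, mul_one]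
    rw [show D.X s0 6 = D.x from rfl, show D.X s0 8 = D.L.w from rfl, ← mul_assoc D.x D.L.w D.x,
      D.xwx, ← D.ψ_hcode a1 a2, ← h9]
    simp only [List.map_cons, List.prod_cons] at hp
    rw [mul_assoc, hp]
    obtain ⟨-, h2⟩ := D.ψ_prod (u.map nC) (fun p hp => by
      obtain ⟨l, hl, rfl⟩ := List.mem_map.1 hp
      exact (D.X_n (s0 := s0) (List.all_eq_true.1 hu l hl)).2)
    rw [h2]
  | sfsf =>
    simp only [okRel, beq_iff_eq] at hok
    subst hok
    have hf : D.X s0 2 * D.X s0 9 = D.f := by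
      show D.L.w * D.f * (D.L.w)⁻¹ = D.f
      rw [← D.f_comm_w, mul_inv_cancel_right]
    simp only [wX, List.map_cons, List.map_nil, List.prod_cons, List.prod_nil, mul_one]
    rw [← mul_assoc (D.X s0 2) (D.X s0 9), hf, show D.X s0 5 = D.ΦI s0 from rfl]
    calc _ = D.ΦI s0 * D.f * D.ΦI s0 * D.f := by simp [mul_assoc]
      _ = 1 := by rw [h.inv, inv_mul_cancel]
  | sqsq =>
    simp only [okRel, beq_iff_eq] at hok
    subst hok
    simp only [wX, List.map_cons, List.map_nil, List.prod_cons, List.prod_nil, mul_one]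
    rw [show D.X s0 2 = D.L.w * D.f from rfl, show D.X s0 5 = D.ΦI s0 from rfl]
    calc _ = (D.ΦI s0 * D.L.w * D.ΦI s0) * (D.ΦI s0 * D.f * D.ΦI s0) * (D.L.w * D.f) := by
          rw [show (D.ΦI s0 * D.L.w * D.ΦI s0) * (D.ΦI s0 * D.f * D.ΦI s0) =
            D.ΦI s0 * D.L.w * (D.ΦI s0 * D.ΦI s0) * (D.f * D.ΦI s0) by simp [mul_assoc], h.sq]
          simp [mul_assoc]
      _ = (D.L.w)⁻¹ * D.f⁻¹ * (D.L.w * D.f) := by rw [h.w_inv, h.inv]
      _ = 1 := by
        rw [← mul_inv_rev, D.f_comm_w, inv_mul_cancel]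

end Ctx

end CfsgLib.J3Unique
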