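import Cfsg.Agent.Lib.J3Unique.Norm

/-!
# The element of order three linking the centraliser and the normaliser
-/

set_option autoImplicit false
set_option linter.unusedSectionVars false
set_option maxRecDepth 100000

namespace CfsgLib.J3Unique

open Subgroup
open CfsgLib.Small.JTwoType (Pre)
open CfsgLib.PresCert (allBelow allBelow_spec)

theorem complement_facts : mm (kM.getD 4 0) (kM.getD 4 0) = mI ∧
    mm (kM.getD 1 0) (mm (kM.getD 1 0) (kM.getD 1 0)) = mI ∧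
    mm (mm (kM.getD 4 0) (kM.getD 1 0)) (mm (mm (kM.getD 4 0) (kM.getD 1 0))
      (mm (kM.getD 4 0) (kM.getD 1 0))) = mI ∧ mm mG mG < 65536 ∧
    (∀ w ∈ kW, ∀ l ∈ w, l < 2) ∧
    ∀ y ∈ ([60, 13, 30, 1800, 19, 373] : List ℕ), hidx y < 192 ∧ hel (hidx y) = y := by
  decide +kernel

theorem phiC_hel {i : ℕ} (hi : i < 192) :
    phiC (hel i) = cm (eo (ap mG (i % 16))) (kL.getD (i / 16) 0) := by
  have h := allBelow_spec hel_all i hi
  simp only [Bool.and_eq_true] at h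
  exact Nat.eq_of_beq_eq_true h.1.2

theorem phiC_form {i : ℕ} (hi : i < 192) : ∃ j < 192, phiC (hel i) = hel j := by
  have hv : ap mG (i % 16) < 16 := ap_lt _ _
  refine ⟨16 * (i / 16) + ap mG (i % 16), by omega, ?_⟩
  rw [phiC_hel hi, hel, show (16 * (i / 16) + ap mG (i % 16)) % 16 = ap mG (i % 16) by omega,
    show (16 * (i / 16) + ap mG (i % 16)) / 16 = i / 16 by omega]

variable {G : Type*} [Group G] [Finite G] {S : Pre G}

namespace Coord

variable (K : Coord S)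

theorem cube_of_acts {n : G} (h : K.Acts n mG) : n ^ 3 = 1 := by
  have h3 := h.pow 3
  rw [mG_facts.1] at h3
  obtain ⟨d, hd, he⟩ := h3.trivial
  have hd0 : d = 0 := (mG_facts.2.2.2.2.2 d hd).2.1 (K.eH_inj (ap_lt _ _) hd
    (by rw [← h.conj d hd, ← he]; group))
  rw [he, hd0, K.eH_zero]

theorem commute_trivial {n g : G} (h : K.Acts n mG) (hg : K.Acts g mI) (hc : g * n = n * g) :
    g = 1 := by
  obtain ⟨d, hd, rfl⟩ := hg.trivial
  have hd0 : d = 0 := (mG_facts.2.2.2.2.2 d hd).2.1 (K.eH_inj (ap_lt _ _) hd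
    (by rw [← h.conj d hd, ← hc, mul_inv_cancel_right]))
  rw [hd0, K.eH_zero]

/-- An element commuting with a given element of order three and inducing a given map. -/
theorem exists_commuting {n g : G} {M : ℕ} (h : K.Acts n mG) (hg : K.Acts g M)
    (hM : mm M mG = mm mG M) : ∃ e < 16, (K.eH e * g) * n = n * (K.eH e * g) := by
  have h2 := hg.mul h
  rw [hM] at h2
  obtain ⟨d, hd, he⟩ := (h.mul hg).eq_mul_eH h2
  obtain ⟨-, -, e, he16, hde⟩ := mG_facts.2.2.2.2.2 d hd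
  refine ⟨e, he16, ?_⟩
  have hsum : e ^^^ d = ap mG e := by
    rw [← hde, ← Nat.xor_assoc, Nat.xor_self, Nat.zero_xor]
  rw [mul_assoc, he, ← mul_assoc, ← K.eH_mul he16 hd, hsum, ← h.conj e he16]
  simp [mul_assoc]

theorem Φ_sigC {y : ℕ} (hy : y < 1920) : K.Φ (sigC y) = K.Φ 960 * K.Φ y * K.Φ 960 := by
  rw [sigC, K.Φ_mul (cm_lt (by norm_num) hy) (by norm_num), K.Φ_mul (by norm_num) hy]

theorem x_sq : K.Φ 960 * K.Φ 960 = 1 := by
  rw [← K.Φ_mul (by norm_num) (by norm_num), show cm 960 960 = 0 by decide +kernel, K.Φ_zero]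

theorem kL_word {w : G} (h1 : w * K.Φ 19 = K.Φ 19 * w) (h2 : w * K.Φ 373 = K.Φ 373 * w) :
    ∀ l : List ℕ, (∀ x ∈ l, x < 2) → cword [19, 373] l < 1920 ∧
      w * K.Φ (cword [19, 373] l) = K.Φ (cword [19, 373] l) * w
  | [], _ => ⟨by simp [cword], by simp [cword, K.Φ_zero]⟩
  | x :: l, hl => by
    obtain ⟨hlt, hc⟩ := kL_word h1 h2 l fun y hy => hl y (List.mem_cons_of_mem _ hy)
    have hg : ([19, 373] : List ℕ).getD x 0 < 1920 ∧
        w * K.Φ (([19, 373] : List ℕ).getD x 0) = K.Φ (([19, 373] : List ℕ).getD x 0) * w := by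
      have := hl x List.mem_cons_self
      interval_cases x
      · exact ⟨by norm_num, h1⟩
      · exact ⟨by norm_num, h2⟩
    refine ⟨cm_lt hg.1 hlt, ?_⟩
    rw [cword, K.Φ_mul hg.1 hlt]
    exact ((show Commute w _ from hg.2).mul_right hc).eq

variable (hone : ∀ x y : G, orderOf x = 2 → orderOf y = 2 → IsConj x y)
include hone

theorem exists_three : ∃ w : G, K.Acts w mG ∧ w * K.Φ 19 = K.Φ 19 * w ∧
    w * K.Φ 373 = K.Φ 373 * w := by
  obtain ⟨n, hn⟩ := K.exists_realise hone gen_facts.2.2.2.2.2.2.2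
  have hk : ∀ j < 12, ∃ e < 16, (K.eH e * K.Φ (kL.getD j 0)) * n = n * (K.eH e * K.Φ (kL.getD j 0)) :=
    fun j hj => K.exists_commuting hn (K.acts_kL hj)
      (Coord.comm_mG hone (K.acts_mem_lL hone (K.acts_kL hj)))
  obtain ⟨d2, hd2, h2⟩ := hk 4 (by norm_num)
  obtain ⟨d3, hd3, h3⟩ := hk 1 (by norm_num)
  set p := cm (eo d2) 373 with hp
  set q := cm (eo d3) 19 with hq
  obtain ⟨-, -, e1, e4, -⟩ := gen_facts
  have hpv : K.Φ p = K.eH d2 * K.Φ (kL.getD 4 0) := by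
    rw [hp, K.Φ_mul (eo_lt hd2) (by norm_num), e4]; rfl
  have hqv : K.Φ q = K.eH d3 * K.Φ (kL.getD 1 0) := by
    rw [hq, K.Φ_mul (eo_lt hd3) (by norm_num), e1]; rfl
  have hplt : p < 1920 := cm_lt (eo_lt hd2) (by norm_num)
  have hqlt : q < 1920 := cm_lt (eo_lt hd3) (by norm_num)
  have ap_ : K.Acts (K.Φ p) (kM.getD 4 0) := hpv ▸ (K.acts_kL (by norm_num)).mul_eH hd2
  have aq : K.Acts (K.Φ q) (kM.getD 1 0) := hqv ▸ (K.acts_kL (by norm_num)).mul_eH hd3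
  rw [← hpv] at h2
  rw [← hqv] at h3
  have cp : Commute (K.Φ p) n := h2
  have cq : Commute (K.Φ q) n := h3
  obtain ⟨f1, f2, f3, -⟩ := complement_facts
  have r1 : K.Φ p * K.Φ p = 1 :=
    K.commute_trivial hn (f1 ▸ ap_.mul ap_) (cp.mul_left cp).eq
  have r2 : K.Φ q * (K.Φ q * K.Φ q) = 1 :=
    K.commute_trivial hn (f2 ▸ aq.mul (aq.mul aq)) (cq.mul_left (cq.mul_left cq)).eq
  have r3 : K.Φ p * K.Φ q * (K.Φ p * K.Φ q * (K.Φ p * K.Φ q)) = 1 :=
    K.commute_trivial hn (f3 ▸ (ap_.mul aq).mul ((ap_.mul aq).mul (ap_.mul aq)))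
      ((cp.mul_left cq).mul_left ((cp.mul_left cq).mul_left (cp.mul_left cq))).eq
  have hpq : cm p q < 1920 := cm_lt hplt hqlt
  have c1 : cm p p = 0 := K.Φ_inj (cm_lt hplt hplt) (by norm_num)
    (by rw [K.Φ_mul hplt hplt, r1, K.Φ_zero])
  have c2 : cm q (cm q q) = 0 := K.Φ_inj (cm_lt hqlt (cm_lt hqlt hqlt)) (by norm_num)
    (by rw [K.Φ_mul hqlt (cm_lt hqlt hqlt), K.Φ_mul hqlt hqlt, r2, K.Φ_zero])
  have c3 : cm (cm p q) (cm (cm p q) (cm p q)) = 0 :=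
    K.Φ_inj (cm_lt hpq (cm_lt hpq hpq)) (by norm_num)
      (by rw [K.Φ_mul hpq (cm_lt hpq hpq), K.Φ_mul hpq hpq, K.Φ_mul hplt hqlt, r3, K.Φ_zero])
  have h := allBelow_spec (allBelow_spec complement_all d2 hd2) d3 hd3
  simp only [← hp, ← hq, c1, c2, c3, Nat.beq_refl, Bool.and_self, Bool.not_true,
    Bool.false_or] at h
  obtain ⟨e, he, hee⟩ := List.any_eq_true.1 h
  rw [List.mem_range] at he
  simp only [Bool.and_eq_true] at hee
  have hcj : ∀ y < 1920, K.Φ (cconj (eo e) y) = K.eH e * K.Φ y * (K.eH e)⁻¹ := fun y hy =>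
    K.Φ_conj (eo_lt he) hy
  refine ⟨K.eH e * n * (K.eH e)⁻¹, ?_, ?_, ?_⟩
  · have hne : K.eH e * n * (K.eH e)⁻¹ = K.eH (e ^^^ ap mG e) * n := by
      rw [K.eH_inv he, K.eH_mul he (ap_lt _ _), mul_assoc, mul_assoc (K.eH e) _ n, ← hn.conj e he,
        inv_mul_cancel_right]
    rw [hne]
    exact hn.mul_eH (Nat.xor_lt_two_pow (n := 4) he (ap_lt _ _))
  · rw [← Nat.eq_of_beq_eq_true hee.2, hcj q hqlt, conj_mul, conj_mul, cq.eq]
  · rw [← Nat.eq_of_beq_eq_true hee.1, hcj p hplt, conj_mul, conj_mul, cp.eq]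

end Coord

/-- The linking element. -/
structure Link (K : Coord S) where
  /-- the element of order three -/
  w : G
  acts : K.Acts w mG
  comm : ∀ j < 12, w * K.Φ (kL.getD j 0) = K.Φ (kL.getD j 0) * w
  rel : K.Φ 960 * w * K.Φ 960 * w = K.Φ 786

theorem exists_link (K : Coord S) (hone : ∀ x y : G, orderOf x = 2 → orderOf y = 2 → IsConj x y) :
    Nonempty (Link K) := by
  obtain ⟨w, hw, h19, h373⟩ := K.exists_three hone
  obtain ⟨-, -, -, -, fw, fy⟩ := complement_facts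
  have hcomm : ∀ j < 12, w * K.Φ (kL.getD j 0) = K.Φ (kL.getD j 0) * w := by
    intro j hj
    rw [← (kL_facts j hj).2.1]
    refine (K.kL_word h19 h373 _ fun x hx => ?_).2
    rw [List.getD_eq_getElem?_getD] at hx
    cases hk : kW[j]? with
    | none => simp [hk] at hx
    | some l =>
      simp [hk] at hx
      exact fw l (List.mem_of_getElem? hk) x hx
  obtain ⟨-, g1, g8, g9, -⟩ := mG_facts
  obtain ⟨t1, t2, t3, t4⟩ := h_twist
  set x := K.Φ 960 with hxdef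
  have hx2 : x * x = 1 := K.x_sq
  have hxinv : x⁻¹ = x := inv_eq_of_mul_eq_one_right hx2
  obtain ⟨v0, v1, v8, v9⟩ := eo_vals
  have hxc : ∀ v v' : ℕ, v < 16 → sigC (eo v) = eo v' → x * K.eH v * x⁻¹ = K.eH v' :=
    fun v v' hv e => by rw [hxinv, Coord.eH, ← K.Φ_sigC (eo_lt hv), e]; rfl
  have x1 : x * K.eH 1 * x⁻¹ = K.eH 1 := hxc 1 1 (by norm_num) (by rw [v1, t2])
  have x8 : x * K.eH 8 * x⁻¹ = K.eH 9 := hxc 8 9 (by norm_num) (by rw [v8, v9, t3])
  have x9 : x * K.eH 9 * x⁻¹ = K.eH 8 := hxc 9 8 (by norm_num) (by rw [v8, v9, t4])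
  have w1 : w * K.eH 1 * w⁻¹ = K.eH 8 := by rw [hw.conj 1 (by norm_num), g1]
  have w8 : w * K.eH 8 * w⁻¹ = K.eH 9 := by rw [hw.conj 8 (by norm_num), g8]
  have w9 : w * K.eH 9 * w⁻¹ = K.eH 1 := by rw [hw.conj 9 (by norm_num), g9]
  set h := x * w * x * w with hdef
  have hh1 : h * K.eH 1 * h⁻¹ = K.eH 1 := by
    rw [hdef, show x * w * x * w * K.eH 1 * (x * w * x * w)⁻¹ =
      x * (w * (x * (w * K.eH 1 * w⁻¹) * x⁻¹) * w⁻¹) * x⁻¹ by simp [mul_assoc], w1, x8, w9, x1]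
  have hh8 : h * K.eH 8 * h⁻¹ = K.eH 8 := by
    rw [hdef, show x * w * x * w * K.eH 8 * (x * w * x * w)⁻¹ =
      x * (w * (x * (w * K.eH 8 * w⁻¹) * x⁻¹) * w⁻¹) * x⁻¹ by simp [mul_assoc], w8, x9, w8, x9]
  rw [K.eH_one] at hh1
  obtain ⟨c, hc, hcv⟩ := K.Φ_surj ((S.mem_C h).2 (mul_inv_eq_iff_eq_mul.1 hh1))
  have hi : hidx c < 192 ∧ hel (hidx c) = c := by
    have h' := allBelow_spec cent_V_all c hc
    have e : cm c 1800 = cm 1800 c := K.Φ_inj (cm_lt hc (by norm_num)) (cm_lt (by norm_num) hc) (by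
      rw [K.Φ_mul hc (by norm_num), K.Φ_mul (by norm_num) hc, hcv, ← v8]
      exact mul_inv_eq_iff_eq_mul.1 hh8)
    simp only [e, Nat.beq_refl, Bool.not_true, Bool.false_or, Bool.and_eq_true] at h'
    exact ⟨Nat.le_of_ble_eq_true h'.1, Nat.eq_of_beq_eq_true h'.2⟩
  set i := hidx c with hidef
  have hwphi : ∀ i < 192, w * K.Φ (hel i) * w⁻¹ = K.Φ (phiC (hel i)) := by
    intro i hi
    rw [phiC_hel hi, K.Φ_mul (eo_lt (ap_lt _ _)) (kL_facts _ (by omega)).1]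
    show w * K.hE i * w⁻¹ = K.eH _ * _
    rw [K.hE_eq hi, ← conj_mul, hw.conj _ (Nat.mod_lt _ (by norm_num)), hcomm _ (by omega),
      mul_inv_cancel_right]
  have hlt : ∀ {i}, i < 192 → hel i < 1920 := fun {i} hi => (hel_facts hi).1
  -- `h` is fixed by the twisted map
  have c1' : sigC (phiC (hel i)) = hel i := by
    obtain ⟨j, hj, ej⟩ := phiC_form hi.1
    refine K.Φ_inj (cm_lt (cm_lt (by norm_num) (ej ▸ hlt hj)) (by norm_num)) (hlt hi.1) ?_
    show K.Φ (sigC (phiC (hel i))) = K.Φ (hel i)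
    rw [K.Φ_sigC (ej ▸ hlt hj), ← hwphi i hi.1, hi.2, hcv, hdef, ← hxdef]
    simp only [mul_assoc, mul_inv_cancel, mul_one, hx2]
  have c2' : ∀ y ∈ ([60, 13, 30, 1800, 19, 373] : List ℕ),
      sigC (phiC (sigC (phiC y))) = cconj (hel i) y := by
    intro y hy
    obtain ⟨hy1, hy2⟩ := fy y hy
    have hylt : y < 1920 := hy2 ▸ hlt hy1
    obtain ⟨j, hj, ej⟩ := phiC_form hy1
    obtain ⟨k, hk, ek⟩ := (hel_facts hj).2.2
    obtain ⟨l, hl, el⟩ := phiC_form hk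
    rw [← hy2]
    rw [ej, ek, el]
    refine K.Φ_inj (cm_lt (cm_lt (by norm_num) (hlt hl)) (by norm_num))
      (cm_lt (cm_lt (hlt hi.1) (hlt hy1)) (ci_ok (hlt hi.1)).1) ?_
    show K.Φ (sigC (hel l)) = K.Φ (cm (cm (hel i) (hel (hidx y))) (ci (hel i)))
    rw [K.Φ_sigC (hlt hl), ← el, ← hwphi k hk, ← ek, K.Φ_sigC (hlt hj), ← ej, ← hwphi _ hy1,
      K.Φ_conj (hlt hi.1) (hlt hy1), hi.2, hcv, hdef, ← hxdef]
    simp only [mul_inv_rev, hxinv, mul_assoc]
  have hcases : hel i = 786 ∨ hel i = 1086 := by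
    have h' := allBelow_spec hcand_all i hi.1
    have hall : ([60, 13, 30, 1800, 19, 373] : List ℕ).all (fun y =>
        Nat.beq (sigC (phiC (sigC (phiC y)))) (cconj (hel i) y)) = true :=
      List.all_eq_true.2 fun y hy => by rw [c2' y hy, Nat.beq_refl]
    rw [hall, c1', Nat.beq_refl] at h'
    simp only [Bool.and_self, Bool.not_true, Bool.false_or, Bool.or_eq_true] at h'
    exact h'.imp Nat.eq_of_beq_eq_true Nat.eq_of_beq_eq_true
  rw [hi.2] at hcases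
  rcases hcases with h786 | h1086
  · exact ⟨⟨w, hw, hcomm, by rw [← hxdef, ← hdef, ← hcv, h786]⟩⟩
  · have hw8 := hw.mul_eH (d := 8) (by norm_num)
    refine ⟨⟨K.eH 8 * w, hw8, fun j hj => ?_, ?_⟩⟩
    · have h8 : Commute (K.eH 8) (K.Φ (kL.getD j 0)) := by
        obtain ⟨hl', -, hcc⟩ := kL_facts j hj
        have := congrArg K.Φ hcc
        rw [K.Φ_mul (by norm_num) hl', K.Φ_mul hl' (by norm_num), ← v8] at this
        exact this
      exact (h8.mul_left (hcomm j hj)).eq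
    · have hw2 : w⁻¹ = w ^ 2 := inv_eq_of_mul_eq_one_right (by
        rw [← pow_succ', K.cube_of_acts hw])
      have hconj : w⁻¹ * K.eH 8 * w = K.eH (ap (mm mG mG) 8) := by
        have h2 := hw.mul hw
        rw [← h2.conj 8 (by norm_num), ← sq, ← hw2, inv_inv]
      calc x * (K.eH 8 * w) * x * (K.eH 8 * w)
          = x * K.eH 8 * x⁻¹ * (x * w * x * w) * (w⁻¹ * K.eH 8 * w) := by simp [mul_assoc]
        _ = K.Φ (sigC 1800) * K.Φ 1086 * K.eH (ap (mm mG mG) 8) := by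
          rw [x8, hconj, ← hdef, ← hcv, h1086, t3, ← v9]; rfl
        _ = K.Φ 786 := by
          have hs : sigC 1800 < 1920 := by rw [t3]; norm_num
          rw [Coord.eH, ← K.Φ_mul hs (by norm_num), ← K.Φ_mul (cm_lt hs (by norm_num))
            (eo_lt (ap_lt _ _)), t1]

end CfsgLib.J3Unique
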