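import Cfsg.Agent.Lib.J3Unique.Elem

/-!
# The normaliser of the elementary abelian subgroup induces the group of order 180
-/

set_option autoImplicit false
set_option linter.unusedSectionVars false
set_option maxRecDepth 100000

namespace CfsgLib.J3Unique

open Subgroup
open CfsgLib.Small.JTwoType (Pre)
open CfsgLib.PresCert (allBelow allBelow_spec)

variable {G : Type*} [Group G] [Finite G] {S : Pre G}

namespace Coord

variable (K : Coord S) (hone : ∀ x y : G, orderOf x = 2 → orderOf y = 2 → IsConj x y)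
include hone

theorem exists_to_z {v : ℕ} (hv : v < 16) (hv0 : v ≠ 0) :
    ∃ n : G, K.Nml n ∧ n * K.eH v * n⁻¹ = S.z := by
  classical
  obtain ⟨c1, hc1⟩ := isConj_iff.1 (hone (K.eH v) S.z (K.eH_order hv hv0) S.ord)
  let f : ℕ → G := fun w => c1 * K.eH w * c1⁻¹
  have hfm : ∀ {a b}, a < 16 → b < 16 → f a * f b = f b * f a := fun {a b} ha hb => by
    simp only [f, conj_mul]
    rw [K.eH_comm ha hb]
  have hfC : ∀ w < 16, f w ∈ S.C := fun w hw => (S.mem_C _).2 (by rw [← hc1]; exact hfm hw hv)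
  choose! a ha hfa using fun w (hw : w < 16) => K.Φ_surj (hfC w hw)
  have hinj : ∀ {p q}, p < 16 → q < 16 → a p = a q → p = q := fun {p q} hp hq h => by
    have h' : f p = f q := by rw [← hfa p hp, ← hfa q hq, h]
    exact K.eH_inj hp hq ((MulAut.conj c1).injective h')
  have hsq : ∀ w < 16, cm (a w) (a w) = 0 := fun w hw =>
    K.Φ_inj (cm_lt (ha w hw) (ha w hw)) (by norm_num)
      (by rw [K.Φ_mul (ha w hw) (ha w hw), hfa w hw, K.Φ_zero]; simp [f, K.eH_sq hw])
  have hcomm : ∀ p q, p < 16 → q < 16 → cm (a p) (a q) = cm (a q) (a p) := fun p q hp hq =>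
    K.Φ_inj (cm_lt (ha p hp) (ha q hq)) (cm_lt (ha q hq) (ha p hp))
      (by rw [K.Φ_mul (ha p hp) (ha q hq), K.Φ_mul (ha q hq) (ha p hp), hfa p hp, hfa q hq,
        hfm hp hq])
  have hsmall : ∀ L : List ℕ, L.length < 16 → ∃ w < 16, a w ∉ L := by
    intro L hL
    by_contra hno
    push Not at hno
    have h1 : ((Finset.range 16).image a).card = 16 := by
      rw [Finset.card_image_of_injOn, Finset.card_range]
      exact fun p hp q hq e => hinj (Finset.mem_range.1 hp) (Finset.mem_range.1 hq) e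
    have h2 : (Finset.range 16).image a ⊆ L.toFinset := fun x hx => by
      obtain ⟨w, hw, rfl⟩ := Finset.mem_image.1 hx
      exact List.mem_toFinset.2 (hno w (Finset.mem_range.1 hw))
    have h3 := (Finset.card_le_card h2).trans (List.toFinset_card_le L)
    omega
  obtain ⟨w₀, hw₀, hout⟩ : ∃ w < 16, a w % 60 ≠ 0 := by
    by_contra hno
    push Not at hno
    obtain ⟨p, hp, hp'⟩ := hsmall [0, 60] (by simp)
    simp only [List.mem_cons, List.not_mem_nil, or_false, not_or] at hp'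
    obtain ⟨q, hq, hq'⟩ := hsmall [0, 60, a p, 60 * ((a p / 60) ^^^ 1)] (by simp)
    have h0 := hno p hp
    exact hq' (q_pair (ha p hp) (ha q hq) (hno p hp) (hno q hq) (by omega) (hsq p hp) (hsq q hq)
      (hcomm p q hp hq))
  obtain ⟨c, hc, u, hu, heu, hu60⟩ := outer_into (ha w₀ hw₀) hout (hsq w₀ hw₀)
  have hcj : ∀ w < 16, K.Φ (cconj c (a w)) = K.Φ c * f w * (K.Φ c)⁻¹ := fun w hw => by
    rw [cconj, K.Φ_conj hc (ha w hw), hfa w hw]
  refine ⟨K.Φ c * c1, fun w hw => ?_, ?_⟩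
  · have hlt : cconj c (a w) < 1920 := cm_lt (cm_lt hc (ha w hw)) (ci_ok hc).1
    obtain ⟨x, hx, hxe⟩ := cent_outer hu hu60 hlt (K.Φ_inj (cm_lt hlt (eo_lt hu))
      (cm_lt (eo_lt hu) hlt) (by
        rw [K.Φ_mul hlt (eo_lt hu), K.Φ_mul (eo_lt hu) hlt, heu, hcj w hw, hcj w₀ hw₀]
        exact (Commute.map (hfm hw hw₀ : Commute (f w) (f w₀))
          (MulAut.conj (K.Φ c)).toMonoidHom).eq))
    refine ⟨x, hx, ?_⟩
    show _ = K.Φ (eo x)
    rw [hxe, hcj w hw]
    simp [f, mul_assoc]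
  · rw [show K.Φ c * c1 * K.eH v * (K.Φ c * c1)⁻¹ = K.Φ c * (c1 * K.eH v * c1⁻¹) * (K.Φ c)⁻¹ by
      simp [mul_assoc], hc1]
    exact Five.conj_z (K.Φ_mem c)

theorem exists_from_z {v : ℕ} (hv : v < 16) (hv0 : v ≠ 0) :
    ∃ n : G, K.Nml n ∧ n * S.z * n⁻¹ = K.eH v := by
  obtain ⟨n, hn, e⟩ := K.exists_to_z hone hv hv0
  exact ⟨n⁻¹, K.N.inv_mem hn, by rw [← e]; simp [mul_assoc]⟩

theorem card_N : Nat.card K.N = 2880 := by
  classical
  choose rep hrep hrepz using fun v : Fin 15 =>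
    K.exists_from_z hone (v := v.val + 1) (by omega) (by omega)
  have hmem : ∀ p : Fin 15 × Fin 192, rep p.1 * K.hE p.2 ∈ K.N := fun p =>
    Nml.mul (hrep p.1) (K.hE_acts p.2.2).nml
  have hzE : ∀ i, K.hE i * S.z * (K.hE i)⁻¹ = S.z := fun i => Five.conj_z (K.Φ_mem _)
  let F : Fin 15 × Fin 192 → K.N := fun p => ⟨_, hmem p⟩
  have hF : Function.Bijective F := by
    constructor
    · intro p q h
      have h' : rep p.1 * K.hE p.2 = rep q.1 * K.hE q.2 := congrArg Subtype.val h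
      have hv : p.1 = q.1 := by
        have e := congrArg (fun g => g * S.z * g⁻¹) h'
        simp only [mul_inv_rev] at e
        rw [show rep p.1 * K.hE p.2 * S.z * ((K.hE p.2)⁻¹ * (rep p.1)⁻¹) =
            rep p.1 * (K.hE p.2 * S.z * (K.hE p.2)⁻¹) * (rep p.1)⁻¹ by simp [mul_assoc],
          show rep q.1 * K.hE q.2 * S.z * ((K.hE q.2)⁻¹ * (rep q.1)⁻¹) =
            rep q.1 * (K.hE q.2 * S.z * (K.hE q.2)⁻¹) * (rep q.1)⁻¹ by simp [mul_assoc],
          hzE, hzE, hrepz, hrepz] at e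
        have := K.eH_inj (by omega) (by omega) e
        exact Fin.ext (by omega)
      rw [hv] at h'
      exact Prod.ext hv (Fin.ext (K.hE_inj p.2.2 q.2.2 (mul_left_cancel h')))
    · rintro ⟨g, hg⟩
      obtain ⟨M, hM⟩ := Nml.exists_acts (K := K) hg
      have hg1 : g * S.z * g⁻¹ = K.eH (ap M 1) := by
        rw [← K.eH_one]; exact hM.conj 1 (by norm_num)
      have hne : ap M 1 ≠ 0 := fun e => S.z_ne_one (by
        rw [e, K.eH_zero] at hg1; exact conj_eq_one_iff.1 hg1)
      have hlt := ap_lt M 1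
      let v : Fin 15 := ⟨ap M 1 - 1, by omega⟩
      have hrv : rep v * S.z * (rep v)⁻¹ = g * S.z * g⁻¹ := by
        rw [hrepz, hg1]
        exact congrArg K.eH (show ap M 1 - 1 + 1 = ap M 1 by omega)
      obtain ⟨i, hi, he⟩ := K.stab_cases (g := (rep v)⁻¹ * g)
        (Nml.mul (K.N.inv_mem (hrep v)) hg) (by
          calc (rep v)⁻¹ * g * S.z = (rep v)⁻¹ * (g * S.z * g⁻¹) * g := by simp [mul_assoc]
            _ = _ := by rw [← hrv]; simp [mul_assoc])
      exact ⟨(v, ⟨i, hi⟩), Subtype.ext (by show rep v * K.hE i = g; rw [← he, mul_inv_cancel_left])⟩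
  rw [← Nat.card_congr (Equiv.ofBijective F hF), Nat.card_prod, Nat.card_fin, Nat.card_fin]

omit hone in
theorem word_acts {ns : List G} {gs : List ℕ}
    (h : ∀ l < gs.length, K.Acts (ns.getD l 1) (gs.getD l mI)) :
    ∀ w : List ℕ, (∀ l ∈ w, l < gs.length) →
      K.Acts ((w.map fun l => ns.getD l 1).prod) (mword gs w)
  | [], _ => K.acts_one
  | l :: w, hw => by
    rw [List.map_cons, List.prod_cons]
    exact (h l (hw l List.mem_cons_self)).mul
      (word_acts h w fun m hm => hw m (List.mem_cons_of_mem _ hm))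

omit hone in
theorem gens_acts {n : G} {M : ℕ} (hn : K.Acts n M) : ∀ l < (mgens ++ [M]).length,
    K.Acts ([K.Φ (kL.getD 1 0), K.Φ (kL.getD 4 0), K.Φ (kL.getD 8 0), n].getD l 1)
      ((mgens ++ [M]).getD l mI) := by
  intro l hl
  rw [gen_facts.1] at hl ⊢
  simp only [List.length_append, List.length_cons, List.length_nil] at hl
  interval_cases l
  · exact K.acts_kL (by norm_num)
  · exact K.acts_kL (by norm_num)
  · exact K.acts_kL (by norm_num)
  · exact hn

theorem mem_lL_of_star {n : G} {M : ℕ} (hn : K.Acts n M) (h1 : ap M 1 = eStar) : M ∈ lL := by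
  obtain ⟨-, e1, e2, e4, e8⟩ := ap_basis M
  obtain ⟨b0, b1, b2, b3⟩ := col_lt M
  set a := col1 M
  set b := col2 M
  set c := col3 M
  have hM : pk eStar a b c = M := by rw [← h1, e1]; exact pk_cols hn.lt
  have h := allBelow_spec (allBelow_spec (allBelow_spec wit_all a b1) b b2) c b3
  simp only [Bool.and_eq_true, List.all_eq_true] at h
  obtain ⟨hok, hsmall⟩ := h
  simp only [witOK, hM, Bool.or_eq_true, Bool.and_eq_true, Bool.not_eq_true',
    List.any_eq_true] at hok
  set w := witWord 7 (wit a b c) with hw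
  have hwl : ∀ l ∈ w, l < (mgens ++ [M]).length := fun l hl => by
    rw [gen_facts.1]
    exact Nat.le_of_ble_eq_true (hsmall l hl)
  have hP := K.word_acts (K.gens_acts hn) w hwl
  set g := ((w.map fun l =>
    [K.Φ (kL.getD 1 0), K.Φ (kL.getD 4 0), K.Φ (kL.getD 8 0), n].getD l 1)).prod with hg
  set P := mword (mgens ++ [M]) w with hPdef
  rcases hok with ((⟨v, hv, hz⟩ | hm) | ⟨hp1, hp2⟩) | ⟨hp7, hp1⟩
  · exfalso
    have hv16 : v < 16 ∧ v ≠ 0 := by
      have : ∀ v ∈ ([1, 2, 3, 4, 5, 6, 7, 8, 9, 10, 11, 12, 13, 14, 15] : List ℕ), v < 16 ∧ v ≠ 0 := by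
        decide
      exact this v hv
    have e := hn.conj v hv16.1
    rw [Nat.eq_of_beq_eq_true hz, K.eH_zero] at e
    exact K.eH_ne_one hv16.1 hv16.2 (conj_eq_one_iff.1 e)
  · exact List.contains_iff_mem.1 hm
  · exfalso
    have := K.stab_map hP (Nat.eq_of_beq_eq_true hp1)
    rw [← List.contains_iff_mem, hp2] at this
    exact Bool.false_ne_true this
  · exfalso
    have hPne : P ≠ mI := fun e => by
      rw [e, Nat.beq_refl] at hp1
      exact Bool.noConfusion hp1
    have h7 : K.Acts (g ^ 7) mI := by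
      have := hP.pow 7
      rwa [Nat.eq_of_beq_eq_true hp7] at this
    obtain ⟨d, hd, he⟩ := h7.trivial
    have h14 : g ^ 14 = 1 := by
      rw [show 14 = 7 * 2 from rfl, pow_mul, he, sq, K.eH_sq hd]
    have hN : orderOf g ∣ 2880 := K.card_N hone ▸ K.N.orderOf_dvd_natCard hP.nml
    have h2 : g ^ 2 = 1 := orderOf_dvd_iff_pow_eq_one.1
      ((Nat.dvd_gcd (orderOf_dvd_of_pow_eq_one h14) hN).trans (by norm_num))
    apply hPne
    refine hP.unique ?_
    rw [show g = g ^ 7 by rw [show 7 = 2 * 3 + 1 from rfl, pow_succ, pow_mul, h2, one_pow, one_mul]]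
    exact h7

theorem exists_m0 : ∃ n, K.Acts n m0 := by
  obtain ⟨n, hn, hz⟩ := K.exists_from_z hone gen_facts.2.2.2.2.2.1 gen_facts.2.2.2.2.2.2.1
  obtain ⟨M, hM⟩ := Nml.exists_acts (K := K) hn
  have h1 : ap M 1 = eStar := K.eH_inj (ap_lt M 1) gen_facts.2.2.2.2.2.1
    (by rw [← hM.conj 1 (by norm_num), K.eH_one, hz])
  obtain ⟨i, hi, rfl⟩ := List.getElem_of_mem (K.mem_lL_of_star hone hM h1)
  have hi' : i < 180 := lL_len.1 ▸ hi
  have h := allBelow_spec lL_all i hi'
  simp only [List.getD_eq_getElem lL 0 hi, h1, Bool.and_eq_true, Bool.or_eq_true, Nat.beq_refl,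
    Bool.not_true, Bool.false_eq_true, false_or] at h
  obtain ⟨a, ha, hb⟩ := List.any_eq_true.1 h.1.2
  obtain ⟨j, hj, rfl⟩ := List.getElem_of_mem ha
  refine ⟨n * K.Φ (kL.getD j 0), ?_⟩
  have h2 := hM.mul (K.acts_kL (j := j) (lL_len.2.2 ▸ hj))
  rw [List.getD_eq_getElem kM 0 hj, Nat.eq_of_beq_eq_true hb] at h2
  exact h2

/-- Every map of the group of order 180 is induced. -/
theorem exists_realise {M : ℕ} (hM : M ∈ lL) : ∃ n, K.Acts n M := by
  obtain ⟨n, hn⟩ := K.exists_m0 hone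
  obtain ⟨i, hi, rfl⟩ := List.getElem_of_mem hM
  have hi' : i < 180 := lL_len.1 ▸ hi
  have h := allBelow_spec lL_all i hi'
  simp only [Bool.and_eq_true, List.getD_eq_getElem lL 0 hi] at h
  have hl : ∀ l ∈ lW.getD i [], l < (mgens ++ [m0]).length := fun l hl => by
    rw [gen_facts.1]
    rw [List.getD_eq_getElem?_getD] at hl
    cases hw : lW[i]? with
    | none => simp [hw] at hl
    | some w =>
      simp [hw] at hl
      exact lW_small w (List.mem_of_getElem? hw) l hl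
  have := K.word_acts (K.gens_acts hn) (lW.getD i []) hl
  rw [Nat.eq_of_beq_eq_true h.1.1.1] at this
  exact ⟨_, this⟩

/-- The normaliser induces maps of the group of order 180 only. -/
theorem acts_mem_lL {g : G} {M : ℕ} (h : K.Acts g M) : M ∈ lL := by
  have hne : ap M 1 ≠ 0 := fun e => by
    have := h.conj 1 (by norm_num)
    rw [e, K.eH_zero, K.eH_one] at this
    exact S.z_ne_one (conj_eq_one_iff.1 this)
  obtain ⟨L, hL, hLv⟩ := lL_trans _ (ap_lt M 1) hne
  obtain ⟨n, hn⟩ := K.exists_realise hone hL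
  obtain ⟨i, hi, he⟩ := K.stab_cases (g := n⁻¹ * g) (Nml.mul (K.N.inv_mem hn.nml) h.nml) (by
    have e1 := h.conj 1 (by norm_num)
    have e2 := hn.conj 1 (by norm_num)
    rw [K.eH_one] at e1 e2
    rw [hLv] at e2
    calc n⁻¹ * g * S.z = n⁻¹ * (g * S.z * g⁻¹) * g := by simp [mul_assoc]
      _ = _ := by rw [e1, ← e2]; simp [mul_assoc])
  have h2 := hn.mul (K.hE_acts hi)
  rw [← he, mul_inv_cancel_left] at h2
  rw [h.unique h2]
  obtain ⟨k, hk, rfl⟩ := List.getElem_of_mem hL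
  have hk' : k < 180 := lL_len.1 ▸ hk
  have hall := allBelow_spec lL_all k hk'
  simp only [Bool.and_eq_true, List.getD_eq_getElem lL 0 hk] at hall
  exact List.contains_iff_mem.1 (allBelow_spec hall.2 (i / 16) (by omega))

theorem comm_mG {M : ℕ} (hM : M ∈ lL) : mm M mG = mm mG M := by
  obtain ⟨k, hk, rfl⟩ := List.getElem_of_mem hM
  have h := allBelow_spec lL_all k (lL_len.1 ▸ hk)
  simp only [Bool.and_eq_true, List.getD_eq_getElem lL 0 hk] at h
  exact Nat.eq_of_beq_eq_true h.1.1.2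

end Coord

end CfsgLib.J3Unique
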