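import Cfsg.Agent.Lib.LocalEven.J3Invol
import Cfsg.Agent.Lib.LocalEven.J3OrderSimple
import Cfsg.Agent.Lib.LocalEven.J3Unitary

/-!
# Odd subgroups and elements of orders seventeen and nineteen
-/

set_option autoImplicit false
set_option maxRecDepth 100000

namespace CfsgLib.J3Unique

open Subgroup

theorem cyclic_centralized {D : Type*} [Group D] [Finite D] (P : Subgroup D) [IsCyclic P] {g : D}
    (hg : g ∈ normalizer (P : Set D)) (hco : Nat.Coprime (orderOf g) (Nat.totient (Nat.card P))) :
    g ∈ centralizer (P : Set D) := by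
  have h1 : P.normalizerMonoidHom ⟨g, hg⟩ = 1 := by
    rw [← orderOf_eq_one_iff]
    refine Nat.eq_one_of_dvd_coprimes hco ?_ ?_
    · exact (orderOf_map_dvd _ _).trans (Subgroup.orderOf_mk g hg).dvd
    · rw [← IsCyclic.card_mulAut P]; exact orderOf_dvd_natCard _
  have h2 : (⟨g, hg⟩ : normalizer (P : Set D)) ∈ P.normalizerMonoidHom.ker := h1
  rw [normalizerMonoidHom_ker] at h2
  exact h2

theorem divisor_facts : ∀ n ∈ Nat.divisors 1215, n % 19 = 1 → n = 1 := by decide +kernel

theorem big_divisor {k : ℕ} (hd : k ∣ 392445) (hk : 26163 ≤ k) : 17 ∣ k ∧ 19 ∣ k := by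
  obtain ⟨j, hj⟩ := hd
  have hj15 : j ≤ 15 := by nlinarith
  interval_cases j <;> omega

/-- An odd group of the orders in question has commuting elements of orders `19` and `17`. -/
theorem exists_comm_pair (D : Type*) [Group D] [Finite D] (hd : Nat.card D ∣ 392445)
    (hbig : 26163 ≤ Nat.card D) :
    ∃ a b : D, orderOf a = 19 ∧ orderOf b = 17 ∧ a * b = b * a := by
  classical
  obtain ⟨h17, h19⟩ := big_divisor hd hbig
  haveI : Fact (Nat.Prime 17) := ⟨by norm_num⟩
  haveI : Fact (Nat.Prime 19) := ⟨by norm_num⟩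
  have hn0 : Nat.card D ≠ 0 := Nat.card_pos.ne'
  have hodd : ∀ g : D, Nat.Coprime (orderOf g) 16 := fun g => by
    have h := (orderOf_dvd_natCard g).trans hd
    exact Nat.Coprime.coprime_dvd_left h (by norm_num)
  let P : Sylow 17 D := default
  have hP : Nat.card P = 17 := by
    rw [P.card_eq_multiplicity]
    have h1 : (Nat.card D).factorization 17 = 1 := by
      refine le_antisymm ?_ ((Nat.Prime.factorization_pos_of_dvd (by norm_num) hn0 h17))
      by_contra hc
      have h2 : 17 ^ 2 ∣ 392445 :=
        ((pow_dvd_pow 17 (show 2 ≤ (Nat.card D).factorization 17 by omega)).trans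
          (Nat.ordProj_dvd _ _)).trans hd
      norm_num at h2
    rw [h1, pow_one]
  haveI : IsCyclic P := isCyclic_of_prime_card hP
  have hNC : normalizer ((P : Subgroup D) : Set D) ≤ centralizer ((P : Subgroup D) : Set D) :=
    fun g hg => cyclic_centralized _ hg (by
      rw [hP, Nat.totient_prime (by norm_num)]; exact hodd g)
  set K := (MonoidHom.transferSylow P hNC).ker with hK
  have hKP := MonoidHom.ker_transferSylow_isComplement' P hNC
  have hKc : Nat.card K * 17 = Nat.card D := by rw [← hP]; exact hKP.card_mul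
  have hK19 : 19 ∣ Nat.card K := by
    rw [← hKc] at h19
    exact (Nat.Coprime.dvd_of_dvd_mul_right (by norm_num) h19)
  have hKd : Nat.card K ∣ 23085 := by
    rw [← hKc] at hd
    exact Nat.dvd_of_mul_dvd_mul_right (by norm_num) (show _ ∣ 23085 * 17 from hd)
  let R : Sylow 19 K := default
  have hR : Nat.card R = 19 := by
    rw [R.card_eq_multiplicity]
    have h1 : (Nat.card K).factorization 19 = 1 := by
      refine le_antisymm ?_ (Nat.Prime.factorization_pos_of_dvd (by norm_num) Nat.card_pos.ne' hK19)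
      by_contra hc
      have h2 : 19 ^ 2 ∣ 23085 :=
        ((pow_dvd_pow 19 (show 2 ≤ (Nat.card K).factorization 19 by omega)).trans
          (Nat.ordProj_dvd _ _)).trans hKd
      norm_num at h2
    rw [h1, pow_one]
  have hRi : (R : Subgroup K).index ∣ 1215 := by
    have := (R : Subgroup K).card_mul_index
    rw [show Nat.card (R : Subgroup K) = 19 from hR] at this
    rw [← this] at hKd
    exact Nat.dvd_of_mul_dvd_mul_left (by norm_num) (show _ ∣ 19 * 1215 from hKd)
  have hn1 : Nat.card (Sylow 19 K) = 1 :=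
    divisor_facts _ (Nat.mem_divisors.2 ⟨R.card_dvd_index.trans hRi, by norm_num⟩)
      (card_sylow_modEq_one 19 K)
  haveI : Subsingleton (Sylow 19 K) := (Nat.card_eq_one_iff_unique.1 hn1).1
  haveI : (R : Subgroup K).Normal := R.normal_of_subsingleton
  haveI : (R : Subgroup K).Characteristic := R.characteristic_of_normal inferInstance
  set R' := (R : Subgroup K).map K.subtype with hR'
  haveI hR'n : R'.Normal := ConjAct.normal_of_characteristic_of_normal
  have hR'c : Nat.card R' = 19 := by
    rw [hR', Subgroup.card_map_of_injective K.subtype_injective]; exact hR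
  haveI : IsCyclic R' := isCyclic_of_prime_card hR'c
  obtain ⟨b, hb⟩ := exists_prime_orderOf_dvd_card' (G := D) 17 h17
  obtain ⟨a, ha⟩ := exists_prime_orderOf_dvd_card' (G := R') 19 (by rw [hR'c])
  have hc := cyclic_centralized R' (g := b) (by rw [normalizer_eq_top]; exact mem_top b) (by
    rw [hR'c, hb, Nat.totient_prime (by norm_num)]; norm_num)
  exact ⟨a, b, by rw [Subgroup.orderOf_coe, ha], hb, mem_centralizer_iff.1 hc a a.2⟩

end CfsgLib.J3Unique

namespace CfsgLib.LocalEven.J3Lines

open Cfsg Cfsg.Spor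

variable {F : Type*} [Field F] [Fintype F] {ω : F}

/-- Elements of orders `19` and `17` of `J3` do not commute. -/
theorem not_comm_19_17 (h : Four F ω) {a b : J3 F ω} (ha : orderOf a = 19) (hb : orderOf b = 17) :
    a * b ≠ b * a := by
  intro hab
  obtain ⟨x, hx19, hx⟩ := exists_nineteen h
  set π : threeJ3 F ω →* J3 F ω := QuotientGroup.mk' (Subgroup.center (threeJ3 F ω)) with hπ
  obtain ⟨A₀, hA₀⟩ := QuotientGroup.mk'_surjective (Subgroup.center (threeJ3 F ω)) a
  obtain ⟨B, hB⟩ := QuotientGroup.mk'_surjective (Subgroup.center (threeJ3 F ω)) b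
  haveI : Fact (Nat.Prime 19) := ⟨by norm_num⟩
  -- a lift of order `19`
  have hc3 : ∀ c ∈ Subgroup.center (threeJ3 F ω), c ^ 3 = 1 := fun c hc => (center_scalar h hc).1
  set A := A₀ ^ 3 with hA
  have ha19 : a ^ 19 = 1 := ha ▸ pow_orderOf_eq_one a
  have hπA : π A = a ^ 3 := by rw [hA, map_pow, show π A₀ = a from hA₀]
  have hA19 : A ^ 19 = 1 := by
    rw [hA, ← pow_mul, mul_comm, pow_mul]
    refine hc3 _ ((QuotientGroup.eq_one_iff _).1 ?_)
    show π (A₀ ^ 19) = 1
    rw [map_pow, show π A₀ = a from hA₀, ha19]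
  have hAo : orderOf A = 19 := orderOf_eq_prime hA19 fun e => by
    rw [e, map_one] at hπA
    have := orderOf_dvd_of_pow_eq_one hπA.symm
    rw [ha] at this
    norm_num at this
  -- the lifts commute
  set c := A * B * A⁻¹ * B⁻¹ with hc
  have hcc : c ∈ Subgroup.center (threeJ3 F ω) := by
    rw [← QuotientGroup.eq_one_iff]
    show π c = 1
    rw [hc, map_mul, map_mul, map_mul, map_inv, map_inv, hπA, show π B = b from hB,
      (show Commute a b from hab).pow_left 3 |>.eq, mul_inv_cancel_right, mul_inv_cancel]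
  have hiter : ∀ n : ℕ, A ^ n * B * (A ^ n)⁻¹ = c ^ n * B := by
    intro n
    induction n with
    | zero => simp
    | succ n ih =>
      calc A ^ (n + 1) * B * (A ^ (n + 1))⁻¹ = A * (A ^ n * B * (A ^ n)⁻¹) * A⁻¹ := by
            rw [pow_succ']; group
        _ = A * (c ^ n * B) * A⁻¹ := by rw [ih]
        _ = c ^ n * (A * B * A⁻¹) := by
            rw [← mul_assoc A, Subgroup.mem_center_iff.1 (pow_mem hcc n) A]; group
        _ = c ^ (n + 1) * B := by rw [pow_succ, hc]; group
  have hc1 : c = 1 := by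
    have h19 := hiter 19
    rw [hA19, one_mul, inv_one, mul_one, eq_comm, mul_eq_right] at h19
    exact eq_one_of_three (hc3 _ hcc) h19 (by norm_num)
  have hAB : A * B = B * A := by
    rw [hc, mul_inv_eq_one, mul_inv_eq_iff_eq_mul] at hc1
    exact hc1
  -- compare with the element of order `19` of the model
  obtain ⟨g, hg, -⟩ := conj_nineteen h hx19 hAo
  have hgo : orderOf (g * A * g⁻¹) = 19 := ((MulAut.conj g).orderOf_eq A).trans hAo
  have heq : Subgroup.zpowers (g * A * g⁻¹) = Subgroup.zpowers x :=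
    Subgroup.eq_of_le_of_card_ge (Subgroup.zpowers_le.2 hg)
      (by rw [Nat.card_zpowers, Nat.card_zpowers, hgo, hx19])
  obtain ⟨k, hk⟩ : x ∈ Subgroup.zpowers (g * A * g⁻¹) := heq.symm ▸ Subgroup.mem_zpowers x
  have hcomm : g * B * g⁻¹ * x = x * (g * B * g⁻¹) := by
    rw [← hk]
    exact (((show Commute A B from hAB).map (MulAut.conj g).toMonoidHom).zpow_left k).eq.symm
  have h513 := comm_order h hx hcomm
  rw [conj_pow, conj_eq_one_iff] at h513
  have hb513 : b ^ 513 = 1 := by rw [← hB, ← map_pow, h513, map_one]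
  have := orderOf_dvd_of_pow_eq_one hb513
  rw [hb] at this
  norm_num at this

end CfsgLib.LocalEven.J3Lines
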