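import Cfsg.Agent.Lib.J3Unique.Three

/-!
# An involution commuting with `i` that inverts the elements of order three and five
-/

set_option autoImplicit false
set_option linter.unusedSectionVars false
set_option maxRecDepth 100000
set_option maxHeartbeats 1000000

namespace CfsgLib.J3Unique

open Subgroup
open CfsgLib.Small.JTwoType (Pre)
open CfsgLib.PresCert (allBelow allBelow_spec)

/-- the four candidates -/
def s0L : List ℕ := [1628, 8, 68, 1568]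

theorem inverter_all : allBelow 1920 (fun s => !(Nat.beq (cconj s 19) (cm 19 19)) ||
    (decide (∀ k : Fin 3, cm s s ≠ cm 60 (w19 k)) &&
      (!(decide (∃ k : Fin 3, cm s s = w19 k)) ||
        decide (∃ k : Fin 3, cm s (w19 k) ∈ s0L)))) = true := by decide +kernel

theorem inv_mod_five : ∀ c < 5, c ≠ 0 → ∃ q < 5, c * q % 5 = 1 := by decide

theorem inverter_facts : cconj 8 19 = cm 19 19 ∧ cm 8 8 = 0 ∧
    cconj 60 (cm 19 19) = cm 19 19 ∧ ∀ s ∈ s0L, s < 1920 ∧ cconj s 19 = cm 19 19 ∧ cm s s = 0 := by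
  decide +kernel

variable {G : Type*} [Group G] [Finite G] {S : Pre G}

namespace Ctx

variable (D : Ctx S)

theorem zp_cases {y : G} (hy : y ∈ zpowers D.L.w) : ∃ k : Fin 3, y = D.ΦI (w19 k) := by
  classical
  haveI : Fact (Nat.Prime 3) := ⟨Nat.prime_three⟩
  have ho : orderOf D.L.w = 3 := orderOf_eq_prime D.w_cube D.w_ne_one
  obtain ⟨m, hm, rfl⟩ := Finset.mem_image.1
    ((isOfFinOrder_of_finite D.L.w).mem_zpowers_iff_mem_range_orderOf.1 hy)
  rw [Finset.mem_range, ho] at hm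
  refine ⟨⟨m, hm⟩, ?_⟩
  interval_cases m
  · show _ = D.ΦI 0; rw [D.ΦI_zero, pow_zero]
  · show _ = D.ΦI 19; rw [D.ΦI_w, pow_one]
  · show _ = D.ΦI (cm 19 19)
    rw [D.ΦI_mul (by norm_num) (by norm_num), D.ΦI_w, sq]

theorem ΦI_inverts_w {s : ℕ} (hs : s < 1920) (h : cconj s 19 = cm 19 19) :
    D.ΦI s * D.L.w * (D.ΦI s)⁻¹ = (D.L.w)⁻¹ := by
  have e := congrArg D.ΦI h
  rw [cconj, D.ΦI_mul (cm_lt hs (by norm_num)) (ci_ok hs).1, D.ΦI_mul hs (by norm_num),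
    D.ΦI_mul (a := 19) (b := 19) (by norm_num) (by norm_num), D.ΦI_w] at e
  rw [D.w_inv, ← e]
  simp only [ΦI, D.K.Φ_ci hs]
  simp [mul_assoc]

theorem i_conj_pow (b : ℕ) : D.i * D.f ^ b * D.i = (D.f ^ b)⁻¹ := by
  have hi : D.i⁻¹ = D.i := inv_eq_of_mul_eq_one_right D.i_sq
  calc D.i * D.f ^ b * D.i = (D.i * D.f * D.i⁻¹) ^ b := by rw [conj_pow, hi]
    _ = _ := by rw [hi, D.i_inverts_f, inv_pow]

theorem sylow_facts : (Nat.card D.Cw).factorization 5 = 1 := by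
  rw [D.card_Cw, show 1080 = 5 * 216 from rfl, Nat.factorization_mul (by norm_num) (by norm_num),
    Finsupp.add_apply, Nat.Prime.factorization_self (by norm_num),
    Nat.factorization_eq_zero_of_not_dvd (by norm_num)]

theorem f_order : orderOf D.f = 5 := by
  haveI : Fact (Nat.Prime 5) := ⟨by norm_num⟩
  exact orderOf_eq_prime D.f_pow D.f_ne_one

/-- An element inverting `w` that normalises `⟨f⟩` and commutes with `i`. -/
theorem exists_m : ∃ m : G, ∃ r : ℕ, m * D.i = D.i * m ∧ m * D.L.w * m⁻¹ = (D.L.w)⁻¹ ∧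
    m * D.f * m⁻¹ = D.f ^ r := by
  classical
  haveI : Fact (Nat.Prime 5) := ⟨by norm_num⟩
  obtain ⟨h8, -⟩ := inverter_facts
  set m0 := D.ΦI 8
  have hm0w : m0 * D.L.w * m0⁻¹ = (D.L.w)⁻¹ := D.ΦI_inverts_w (by norm_num) h8
  have hf2 : m0 * D.f * m0⁻¹ ∈ D.Cw := by
    rw [mem_Cw]
    have h : Commute (m0 * D.f * m0⁻¹) (m0 * D.L.w * m0⁻¹) := by
      show _ * _ = _ * _
      rw [conj_mul, conj_mul, D.f_comm_w]
    rw [hm0w] at h
    simpa using h.inv_right.eq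
  set f2 : D.Cw := ⟨_, hf2⟩
  have ho2 : orderOf f2 = 5 := by
    rw [← Subgroup.orderOf_coe]
    show orderOf (MulAut.conj m0 D.f) = 5
    rw [MulEquiv.orderOf_eq, D.f_order]
  have ho1 : orderOf D.fC = 5 := by
    rw [← Subgroup.orderOf_coe]; exact D.f_order
  let P : Sylow 5 D.Cw := Sylow.ofCard (zpowers D.fC)
    (by rw [Nat.card_zpowers, ho1, D.sylow_facts, pow_one])
  let Q : Sylow 5 D.Cw := Sylow.ofCard (zpowers f2)
    (by rw [Nat.card_zpowers, ho2, D.sylow_facts, pow_one])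
  obtain ⟨c, hc⟩ := MulAction.exists_smul_eq D.Cw Q P
  have hmem : c * f2 * c⁻¹ ∈ zpowers D.fC := by
    have h : (MulAut.conj c) • f2 ∈ ((c • Q : Sylow 5 D.Cw) : Subgroup D.Cw) :=
      Subgroup.smul_mem_pointwise_smul f2 (MulAut.conj c) _ (mem_zpowers f2)
    rw [hc] at h
    exact h
  obtain ⟨r, -, hr⟩ := Finset.mem_image.1
    ((isOfFinOrder_of_finite D.fC).mem_zpowers_iff_mem_range_orderOf.1 hmem)
  set m1 := (c : G) * m0
  have hm1f : m1 * D.f * m1⁻¹ = D.f ^ r := by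
    have := congrArg Subtype.val hr.symm
    simp only [Subgroup.coe_mul, Subgroup.coe_inv, SubgroupClass.coe_pow] at this
    rw [show m1 * D.f * m1⁻¹ = (c : G) * (m0 * D.f * m0⁻¹) * (c : G)⁻¹ by simp [m1, mul_assoc]]
    exact this
  have hm1w : m1 * D.L.w * m1⁻¹ = (D.L.w)⁻¹ := by
    rw [show m1 * D.L.w * m1⁻¹ = (c : G) * (m0 * D.L.w * m0⁻¹) * (c : G)⁻¹ by simp [m1, mul_assoc],
      hm0w, ((show Commute (c : G) D.L.w from D.mem_Cw.1 c.2).inv_right).eq, mul_inv_cancel_right]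
  -- the conjugate of `i`
  set i' := m1 * D.i * m1⁻¹ with hi'
  have hi'2 : i' * i' = 1 := by rw [hi', conj_mul, D.i_sq, mul_one, mul_inv_cancel]
  have hi'w : i' * D.L.w = D.L.w * i' := by
    have h : Commute i' (m1 * D.L.w * m1⁻¹) := by
      show _ * _ = _ * _
      rw [hi', conj_mul, conj_mul, D.i_comm_w]
    rw [hm1w] at h
    simpa using h.inv_right.eq
  obtain ⟨q, hq⟩ : ∃ q : ℕ, (D.f ^ r) ^ q = D.f := by
    have hr5 : r % 5 ≠ 0 := fun e => D.f_ne_one (by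
      obtain ⟨k, hk⟩ := Nat.dvd_of_mod_eq_zero e
      rw [hk, pow_mul, D.f_pow, one_pow, conj_eq_one_iff] at hm1f
      exact hm1f)
    obtain ⟨q, -, hq⟩ := inv_mod_five (r % 5) (Nat.mod_lt _ (by norm_num)) hr5
    refine ⟨q, ?_⟩
    rw [← pow_mul, pow_eq_pow_mod _ D.f_pow, ← Nat.mod_mul_mod, hq, pow_one]
  have hi'f : i' * D.f * i'⁻¹ = D.f⁻¹ := by
    have h1 : i' * D.f ^ r * i'⁻¹ = (D.f ^ r)⁻¹ := by
      rw [← hm1f, hi', conj_inv]
      calc _ = m1 * (D.i * D.f * D.i⁻¹) * m1⁻¹ := by simp [mul_assoc]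
        _ = _ := by rw [inv_eq_of_mul_eq_one_right D.i_sq, D.i_inverts_f, conj_inv]
    have h2 := congrArg (· ^ q) h1
    simp only [conj_pow, inv_pow, hq] at h2
    exact h2
  have hii : i'⁻¹ = i' := inv_eq_of_mul_eq_one_right hi'2
  have hif : D.i⁻¹ = D.i := inv_eq_of_mul_eq_one_right D.i_sq
  set y := D.i * i' with hy
  have hyw : y * D.L.w = D.L.w * y :=
    ((show Commute D.i D.L.w from D.i_comm_w).mul_left hi'w).eq
  have hyf : y * D.f = D.f * y := by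
    refine mul_inv_eq_iff_eq_mul.1 ?_
    calc y * D.f * y⁻¹ = D.i * (i' * D.f * i'⁻¹) * D.i⁻¹ := by rw [hy]; simp [mul_assoc]
      _ = D.f := by
        rw [hi'f, ← conj_inv, hif, D.i_inverts_f, inv_inv]
  obtain ⟨b, hb⟩ := D.cent_w_f hyw hyf
  set z := y * (D.f ^ b)⁻¹ with hz
  have hzf : z * D.f = D.f * z := (D.comm_zp D.f_comm_w hb).symm
  have hzi : z * D.i = D.i * z := (D.comm_zp D.i_comm_w hb).symm
  have hyz : y = z * D.f ^ b := by rw [hz, inv_mul_cancel_right]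
  have hz1 : z = 1 := by
    refine D.zp_eq_one hb ?_
    have h1 : D.i * y * D.i = y⁻¹ := by
      rw [hy, mul_inv_rev, hii, hif, ← mul_assoc, D.i_sq, one_mul]
    rw [hyz, mul_inv_rev, show D.i * (z * D.f ^ b) * D.i = z * (D.i * D.f ^ b * D.i) by
      rw [← mul_assoc, ← hzi]; simp [mul_assoc], D.i_conj_pow] at h1
    have hc : Commute z (D.f ^ b)⁻¹ := ((show Commute z D.f from hzf).pow_right b).inv_right
    rw [hc.eq, mul_right_inj] at h1
    calc z * z = z * z⁻¹ := by rw [← h1]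
      _ = 1 := mul_inv_cancel z
  rw [hz1, one_mul] at hyz
  have hi'eq : i' = D.i * D.f ^ b := by rw [← hyz, hy, ← mul_assoc, D.i_sq, one_mul]
  refine ⟨D.f ^ (3 * b) * m1, r, ?_, ?_, ?_⟩
  · refine mul_inv_eq_iff_eq_mul.1 ?_
    calc D.f ^ (3 * b) * m1 * D.i * (D.f ^ (3 * b) * m1)⁻¹
        = D.f ^ (3 * b) * i' * (D.f ^ (3 * b))⁻¹ := by rw [hi']; simp [mul_assoc]
      _ = D.i * ((D.i * D.f ^ (3 * b) * D.i) * D.f ^ b * (D.f ^ (3 * b))⁻¹) := by
        rw [hi'eq]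
        simp only [← mul_assoc, D.i_sq, one_mul]
      _ = D.i := by
        rw [D.i_conj_pow, show D.f ^ (3 * b) = D.f ^ b * D.f ^ (2 * b) by
          rw [← pow_add]; congr 1; ring]
        refine mul_eq_left.2 ?_
        rw [mul_inv_rev, show (D.f ^ (2 * b))⁻¹ * (D.f ^ b)⁻¹ * D.f ^ b * ((D.f ^ (2 * b))⁻¹ * (D.f ^ b)⁻¹)
          = ((D.f ^ b * D.f ^ (2 * b) * D.f ^ (2 * b)))⁻¹ by simp [mul_assoc], ← pow_add, ← pow_add,
          show b + 2 * b + 2 * b = 5 * b by ring, pow_mul, D.f_pow, one_pow, inv_one]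
  · rw [show D.f ^ (3 * b) * m1 * D.L.w * (D.f ^ (3 * b) * m1)⁻¹ =
      D.f ^ (3 * b) * (m1 * D.L.w * m1⁻¹) * (D.f ^ (3 * b))⁻¹ by simp [mul_assoc], hm1w,
      (((show Commute D.f D.L.w from D.f_comm_w).pow_left _).inv_right).eq, mul_inv_cancel_right]
  · rw [show D.f ^ (3 * b) * m1 * D.f * (D.f ^ (3 * b) * m1)⁻¹ =
      D.f ^ (3 * b) * (m1 * D.f * m1⁻¹) * (D.f ^ (3 * b))⁻¹ by simp [mul_assoc], hm1f,
      ← pow_add, mul_inv_eq_iff_eq_mul, ← pow_add, add_comm]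

/-- The involution. -/
theorem exists_s : ∃ s ∈ s0L, D.ΦI s * D.f * D.ΦI s = D.f⁻¹ := by
  obtain ⟨m, r, hmi, hmw, hmf⟩ := D.exists_m
  obtain ⟨s, hs, rfl⟩ := D.exists_ΦI hmi
  have hsinv : cconj s 19 = cm 19 19 := by
    refine D.ΦI_inj (cm_lt (cm_lt hs (by norm_num)) (ci_ok hs).1) (cm_lt (by norm_num) (by norm_num)) ?_
    rw [cconj, D.ΦI_mul (cm_lt hs (by norm_num)) (ci_ok hs).1, D.ΦI_mul hs (by norm_num),
      D.ΦI_mul (a := 19) (b := 19) (by norm_num) (by norm_num), D.ΦI_w, ← D.w_inv, ← hmw]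
    simp only [ΦI, D.K.Φ_ci hs]
    simp [mul_assoc]
  -- an inverter of `f` squaring into `⟨w⟩`, or a contradiction
  have hsq : ∀ {t : ℕ}, t < 1920 → cconj t 19 = cm 19 19 → ∀ e : G, e * e = 1 →
      e * D.i = D.i * e → e * D.L.w = D.L.w * e →
      e * (D.ΦI t * D.ΦI t) * D.f = D.f * (e * (D.ΦI t * D.ΦI t)) →
      ∃ k : Fin 3, D.ΦI t * D.ΦI t = e * D.ΦI (w19 k) := by
    intro t ht hti e he2 hei hew hef
    have hw2 : Commute (D.ΦI t * D.ΦI t) D.L.w := by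
      have h1 := D.ΦI_inverts_w ht hti
      have h2 : D.ΦI t * D.ΦI t * D.L.w * (D.ΦI t * D.ΦI t)⁻¹ = D.L.w := by
        rw [show D.ΦI t * D.ΦI t * D.L.w * (D.ΦI t * D.ΦI t)⁻¹ =
          D.ΦI t * (D.ΦI t * D.L.w * (D.ΦI t)⁻¹) * (D.ΦI t)⁻¹ by simp [mul_assoc], h1, ← conj_inv,
          h1, inv_inv]
      exact mul_inv_eq_iff_eq_mul.1 h2
    set y := e * (D.ΦI t * D.ΦI t)
    have hyi : Commute y D.i :=
      (show Commute e D.i from hei).mul_left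
        ((show Commute (D.ΦI t) D.i from D.ΦI_comm_i ht).mul_left (D.ΦI_comm_i ht))
    obtain ⟨b, hb⟩ := D.cent_w_f ((show Commute e D.L.w from hew).mul_left hw2).eq hef
    set z := y * (D.f ^ b)⁻¹ with hz
    have hzi : Commute z D.i := (D.comm_zp D.i_comm_w hb).symm
    have hfi : Commute (D.f ^ b) D.i := by
      have h : D.f ^ b = z⁻¹ * y := by rw [hz]; simp [mul_assoc]
      rw [h]
      exact hzi.inv_left.mul_left hyi
    have hfb : D.f ^ b = 1 := by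
      have h := D.i_conj_pow b
      rw [← hfi.eq, mul_assoc, D.i_sq, mul_one] at h
      have h2 : (D.f ^ b) ^ 2 = 1 := by
        rw [sq]
        exact eq_inv_iff_mul_eq_one.1 h
      have h5 : (D.f ^ b) ^ 5 = 1 := by rw [← pow_mul, mul_comm, pow_mul, D.f_pow, one_pow]
      rwa [show 5 = 2 * 2 + 1 from rfl, pow_succ, pow_mul, h2, one_pow, one_mul] at h5
    obtain ⟨k, hk⟩ := D.zp_cases hb
    rw [hz, hfb, inv_one, mul_one] at hk
    refine ⟨k, ?_⟩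
    rw [← hk, ← mul_assoc, he2, one_mul]
  have hsi := D.ΦI_comm_i hs
  have hmm : D.ΦI s * D.ΦI s * D.f * (D.ΦI s * D.ΦI s)⁻¹ = D.f ^ (r * r) := by
    rw [show D.ΦI s * D.ΦI s * D.f * (D.ΦI s * D.ΦI s)⁻¹ =
      D.ΦI s * (D.ΦI s * D.f * (D.ΦI s)⁻¹) * (D.ΦI s)⁻¹ by simp [mul_assoc], hmf, ← conj_pow, hmf,
      ← pow_mul]
  have hf : ∀ n, D.f ^ n = D.f ^ (n % 5) := fun n => pow_eq_pow_mod n D.f_pow
  have hr5 : r % 5 < 5 := Nat.mod_lt _ (by norm_num)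
  have hif : D.i⁻¹ = D.i := inv_eq_of_mul_eq_one_right D.i_sq
  have hf4 : D.f ^ 4 = D.f⁻¹ := eq_inv_of_mul_eq_one_left (by rw [← pow_succ, D.f_pow])
  have finish : ∀ {t : ℕ}, t < 1920 → cconj t 19 = cm 19 19 →
      D.ΦI t * D.f * (D.ΦI t)⁻¹ = D.f⁻¹ → ∃ s ∈ s0L, D.ΦI s * D.f * D.ΦI s = D.f⁻¹ := by
    intro t ht hti htf
    obtain ⟨k, hk⟩ := hsq ht hti 1 (one_mul 1) (by simp) (by simp) (by
      rw [one_mul]
      refine mul_inv_eq_iff_eq_mul.1 ?_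
      rw [show D.ΦI t * D.ΦI t * D.f * (D.ΦI t * D.ΦI t)⁻¹ =
        D.ΦI t * (D.ΦI t * D.f * (D.ΦI t)⁻¹) * (D.ΦI t)⁻¹ by simp [mul_assoc], htf, ← conj_inv,
        htf, inv_inv])
    rw [one_mul, ← D.ΦI_mul ht ht] at hk
    have hk' := D.ΦI_inj (cm_lt ht ht) (dC_facts.2.2.2.2.2.1 k) hk
    have h := allBelow_spec inverter_all t ht
    simp only [hti, Nat.beq_refl, Bool.not_true, Bool.false_or, Bool.and_eq_true, Bool.or_eq_true,
      Bool.not_eq_true', decide_eq_false_iff_not, decide_eq_true_eq] at h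
    obtain ⟨j, hj⟩ := h.2.resolve_left fun hno => hno ⟨k, hk'⟩
    refine ⟨_, hj, ?_⟩
    obtain ⟨hlt, -, hsq'⟩ := inverter_facts.2.2.2 _ hj
    have hinv : (D.ΦI (cm t (w19 j)))⁻¹ = D.ΦI (cm t (w19 j)) :=
      inv_eq_of_mul_eq_one_right (by rw [← D.ΦI_mul hlt hlt, hsq', D.ΦI_zero])
    conv_lhs => arg 2; rw [← hinv]
    rw [D.ΦI_mul ht (dC_facts.2.2.2.2.2.1 j), ← htf]
    have hc := D.comm_zp D.f_comm_w (D.w19_zp j)
    rw [show D.ΦI t * D.ΦI (w19 j) * D.f = D.ΦI t * (D.f * D.ΦI (w19 j)) by rw [hc]; simp [mul_assoc]]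
    simp [mul_assoc]
  have twist : r * r % 5 = 4 → False := by
    intro hr2
    obtain ⟨k, hk⟩ := hsq hs hsinv D.i D.i_sq rfl D.i_comm_w (by
      refine mul_inv_eq_iff_eq_mul.1 ?_
      rw [show D.i * (D.ΦI s * D.ΦI s) * D.f * (D.i * (D.ΦI s * D.ΦI s))⁻¹ =
        D.i * (D.ΦI s * D.ΦI s * D.f * (D.ΦI s * D.ΦI s)⁻¹) * D.i⁻¹ by simp [mul_assoc], hmm,
        hf, hr2, hf4, ← conj_inv, hif, D.i_inverts_f, inv_inv])
    rw [← D.ΦI_mul hs hs, ← D.ΦI_z, ← D.ΦI_mul (by norm_num) (dC_facts.2.2.2.2.2.1 k)] at hk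
    have hk' := D.ΦI_inj (cm_lt hs hs) (cm_lt (by norm_num) (dC_facts.2.2.2.2.2.1 k)) hk
    have h := allBelow_spec inverter_all s hs
    simp only [hsinv, Nat.beq_refl, Bool.not_true, Bool.false_or, Bool.and_eq_true,
      decide_eq_true_eq] at h
    exact h.1 k hk'
  interval_cases hc : r % 5
  · exfalso
    rw [hf, hc, pow_zero, conj_eq_one_iff] at hmf
    exact D.f_ne_one hmf
  · have ht : cconj (cm 60 s) 19 = cm 19 19 := by
      refine D.ΦI_inj (cm_lt (cm_lt (cm_lt (by norm_num) hs) (by norm_num))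
        (ci_ok (cm_lt (by norm_num) hs)).1) (cm_lt (by norm_num) (by norm_num)) ?_
      have h60 : (60 : ℕ) < 1920 := by norm_num
      show D.g * _ * _ = _
      rw [cconj, D.K.Φ_mul (cm_lt (cm_lt h60 hs) (by norm_num)) (ci_ok (cm_lt h60 hs)).1,
        D.K.Φ_mul (cm_lt h60 hs) (by norm_num), D.K.Φ_ci (cm_lt h60 hs), D.K.Φ_mul h60 hs]
      have e := congrArg D.ΦI hsinv
      rw [cconj, ΦI, D.K.Φ_mul (cm_lt hs (by norm_num)) (ci_ok hs).1, D.K.Φ_mul hs (by norm_num),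
        D.K.Φ_ci hs] at e
      rw [← inverter_facts.2.2.1, cconj, ΦI, D.K.Φ_mul (cm_lt h60 (cm_lt (by norm_num) (by norm_num)))
        (ci_ok h60).1, D.K.Φ_mul h60 (cm_lt (by norm_num) (by norm_num)), D.K.Φ_ci h60]
      have e' : D.K.Φ s * D.K.Φ 19 * (D.K.Φ s)⁻¹ = D.K.Φ (cm 19 19) :=
        (MulAut.conj D.g).injective (by rw [MulAut.conj_apply, MulAut.conj_apply]; exact e)
      rw [← e']
      simp [mul_assoc]
    refine finish (cm_lt (by norm_num) hs) ht ?_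
    rw [D.ΦI_mul (by norm_num) hs, D.ΦI_z]
    rw [hf, hc, pow_one] at hmf
    rw [show D.i * D.ΦI s * D.f * (D.i * D.ΦI s)⁻¹ = D.i * (D.ΦI s * D.f * (D.ΦI s)⁻¹) * D.i⁻¹ by
      simp [mul_assoc], hmf, hif, D.i_inverts_f]
  · exact absurd (twist (by rw [Nat.mul_mod, hc])) id
  · exact absurd (twist (by rw [Nat.mul_mod, hc])) id
  · refine finish hs hsinv ?_
    rw [hmf, hf, hc, hf4]

end Ctx

end CfsgLib.J3Unique
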