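import Cfsg.Agent.Lib.J3Unique.Letters
import Cfsg.Agent.Lib.J3Unique.GoodCert
import Cfsg.Agent.Lib.J3Unique.BadACert
import Cfsg.Agent.Lib.J3Unique.BadBCert
import Cfsg.Agent.Lib.J3Unique.BadCCert
import Cfsg.Agent.Lib.J3Unique.HsCert

/-!
# The relators of the certificates, with the reasons why they hold (generated data)
-/

set_option autoImplicit false
set_option maxRecDepth 100000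

namespace CfsgLib.J3Unique

/-- relators in the case 1628 -/
def rwGood : List (List ℕ × Why) :=
  [([8, 8, 8], .n),
   ([0, 2, 0, 3, 4, 0, 4], .n),
   ([0, 2, 0, 7, 3, 0, 4], .n),
   ([0, 2, 2, 2, 2, 8, 2, 0], .n),
   ([0, 2, 2, 7, 2, 7, 4, 0], .n),
   ([0, 2, 4, 1, 4, 3, 7, 0], .n),
   ([0, 2, 4, 8, 0, 9, 4, 3], .n),
   ([0, 2, 4, 8, 4, 9, 3, 0], .n),
   ([0, 1, 0, 1], .i),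
   ([0, 7, 0, 7], .i),
   ([1, 9, 1, 8], .i),
   ([0, 8, 5, 0, 8, 7, 5, 0, 9, 7, 0, 7, 9, 0, 5, 7, 0, 5, 9, 0], .i),
   ([0, 8, 5, 0, 8, 7, 5, 0, 9, 7, 8, 7, 0, 5, 7, 9, 0, 5, 9, 0], .i),
   ([0, 8, 5, 0, 8, 7, 5, 0, 7, 1, 7, 0, 5, 7, 9, 0, 5, 9, 1, 0], .i),
   ([6, 1, 7, 4, 1, 4, 7, 1, 6, 5, 7, 8, 0, 5, 7, 0, 5, 8], (.gh [1] 373 [5, 7, 8, 0, 5, 7, 0, 5, 8])),
   ([6, 1, 7, 4, 7, 4, 7, 1, 6, 5, 7, 9, 0, 5, 7, 0, 5, 9], (.gh [7] 823 [5, 7, 9, 0, 5, 7, 0, 5, 9])),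
   ([6, 1, 7, 4, 0, 4, 7, 1, 6, 7], (.gh [0] 1800 [7])),
   ([6, 1, 7, 4, 3, 0, 2, 4, 7, 1, 6, 0], (.gh [3, 0, 2] 30 [0])),
   ([6, 1, 7, 4, 6, 4, 7, 1, 6, 0, 5, 7, 5, 1, 0], (.gx [0, 5, 7, 5, 1, 0])),
   ([1, 7, 1, 7], .n),
   ([1, 0, 1, 0], .n),
   ([7, 7], .n),
   ([8, 9], .n),
   ([2, 3], .n),
   ([0, 0], .n),
   ([1, 1], .n),
   ([4, 4], .n),
   ([5, 5], .i),
   ([6, 6], .x2),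
   ([6, 8, 6, 7, 4, 3], (.xwx [7, 4, 3])),
   ([5, 2, 9, 5, 2, 9], .sfsf)]

/-- relators in the case 8 -/
def rwBadA : List (List ℕ × Why) :=
  [([8, 8, 8], .n),
   ([0, 2, 0, 3, 4, 0, 4], .n),
   ([0, 2, 0, 7, 3, 0, 4], .n),
   ([0, 2, 2, 2, 2, 8, 2, 0], .n),
   ([0, 2, 2, 7, 2, 7, 4, 0], .n),
   ([0, 2, 4, 1, 4, 3, 7, 0], .n),
   ([0, 2, 4, 8, 0, 9, 4, 3], .n),
   ([0, 2, 4, 8, 4, 9, 3, 0], .n),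
   ([0, 1, 0, 1], .i),
   ([0, 7, 0, 7], .i),
   ([1, 9, 1, 8], .i),
   ([0, 1, 5, 0, 9, 7, 5, 0, 9, 5, 9, 0, 5, 7, 9, 0, 5, 8, 1, 0], .i),
   ([0, 1, 7, 5, 0, 8, 7, 5, 0, 8, 1, 9, 0, 5, 7, 9, 0, 5, 7, 0], .i),
   ([0, 8, 0, 7, 5, 7, 5, 0, 9, 5, 9, 0, 5, 7, 0, 5, 7, 0, 9, 0], .i),
   ([0, 8, 5, 0, 8, 7, 5, 0, 9, 7, 0, 7, 9, 0, 5, 7, 0, 5, 9, 0], .i),
   ([0, 8, 5, 0, 8, 7, 5, 0, 9, 7, 8, 7, 0, 5, 7, 9, 0, 5, 9, 0], .i),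
   ([0, 8, 5, 0, 8, 7, 5, 0, 7, 1, 7, 0, 5, 7, 9, 0, 5, 9, 1, 0], .i),
   ([6, 1, 7, 4, 1, 4, 7, 1, 6, 5, 7, 8, 0, 5, 7, 0, 5, 8], (.gh [1] 373 [5, 7, 8, 0, 5, 7, 0, 5, 8])),
   ([6, 1, 7, 4, 0, 4, 7, 1, 6, 7], (.gh [0] 1800 [7])),
   ([6, 1, 7, 4, 3, 0, 2, 4, 7, 1, 6, 0], (.gh [3, 0, 2] 30 [0])),
   ([6, 1, 7, 4, 6, 4, 7, 1, 6, 0, 5, 7, 5, 0], (.gx [0, 5, 7, 5, 0])),
   ([1, 7, 1, 7], .n),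
   ([1, 0, 1, 0], .n),
   ([7, 7], .n),
   ([8, 9], .n),
   ([2, 3], .n),
   ([0, 0], .n),
   ([1, 1], .n),
   ([4, 4], .n),
   ([5, 5], .i),
   ([6, 6], .x2),
   ([6, 8, 6, 7, 4, 3], (.xwx [7, 4, 3])),
   ([5, 2, 9, 5, 2, 9], .sfsf)]

/-- relators in the case 68 -/
def rwBadB : List (List ℕ × Why) :=
  [([8, 8, 8], .n),
   ([0, 2, 0, 3, 4, 0, 4], .n),
   ([0, 2, 0, 7, 3, 0, 4], .n),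
   ([0, 2, 2, 2, 2, 8, 2, 0], .n),
   ([0, 2, 2, 7, 2, 7, 4, 0], .n),
   ([0, 2, 4, 1, 4, 3, 7, 0], .n),
   ([0, 2, 4, 8, 0, 9, 4, 3], .n),
   ([0, 2, 4, 8, 4, 9, 3, 0], .n),
   ([0, 1, 0, 1], .i),
   ([0, 7, 0, 7], .i),
   ([8, 0, 5, 0, 9, 7, 5, 0, 5, 1, 0, 5, 7, 9, 0, 5, 8, 0, 9], .i),
   ([8, 0, 7, 5, 0, 8, 7, 5, 7, 9, 7, 5, 7, 8, 0, 5, 7, 0, 9], .i),
   ([8, 5, 0, 9, 7, 5, 0, 8, 7, 1, 7, 0, 5, 9, 0, 5, 7, 5, 9], .i),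
   ([8, 5, 0, 7, 5, 0, 8, 7, 5, 1, 5, 7, 5, 8, 0, 5, 7, 5, 9], .i),
   ([8, 5, 0, 7, 5, 0, 8, 7, 5, 9, 5, 7, 8, 0, 5, 7, 0, 5, 9], .i),
   ([6, 1, 7, 4, 0, 4, 7, 1, 6, 7], (.gh [0] 1800 [7])),
   ([6, 1, 7, 1, 2, 4, 7, 1, 6, 9], (.gh [4, 1, 2] 19 [9])),
   ([6, 1, 7, 4, 3, 0, 2, 4, 7, 1, 6, 0], (.gh [3, 0, 2] 30 [0])),
   ([6, 1, 7, 4, 6, 4, 7, 1, 6, 0, 5, 7, 5, 0], (.gx [0, 5, 7, 5, 0])),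
   ([1, 7, 1, 7], .n),
   ([1, 0, 1, 0], .n),
   ([7, 7], .n),
   ([8, 9], .n),
   ([2, 3], .n),
   ([0, 0], .n),
   ([1, 1], .n),
   ([4, 4], .n),
   ([5, 5], .i),
   ([6, 6], .x2),
   ([6, 8, 6, 7, 4, 3], (.xwx [7, 4, 3])),
   ([5, 2, 9, 5, 2, 9], .sfsf)]

/-- relators in the case 1568 -/
def rwBadC : List (List ℕ × Why) :=
  [([8, 8, 8], .n),
   ([0, 2, 0, 3, 4, 0, 4], .n),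
   ([0, 2, 0, 7, 3, 0, 4], .n),
   ([0, 2, 2, 2, 2, 8, 2, 0], .n),
   ([0, 2, 2, 7, 2, 7, 4, 0], .n),
   ([0, 2, 4, 1, 4, 3, 7, 0], .n),
   ([0, 2, 4, 8, 0, 9, 4, 3], .n),
   ([0, 2, 4, 8, 4, 9, 3, 0], .n),
   ([0, 1, 0, 1], .i),
   ([0, 7, 0, 7], .i),
   ([8, 0, 5, 0, 9, 7, 5, 0, 5, 1, 0, 5, 7, 9, 0, 5, 8, 0, 9], .i),
   ([8, 5, 0, 8, 7, 5, 0, 8, 7, 0, 7, 8, 0, 5, 7, 8, 0, 5, 9], .i),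
   ([8, 5, 0, 8, 7, 5, 0, 9, 7, 1, 7, 0, 5, 8, 0, 5, 7, 5, 9], .i),
   ([8, 5, 0, 9, 7, 5, 0, 7, 5, 1, 5, 7, 5, 0, 5, 7, 9, 0, 5], .i),
   ([8, 5, 0, 7, 5, 0, 8, 7, 5, 1, 5, 7, 5, 8, 0, 5, 7, 5, 9], .i),
   ([8, 5, 0, 7, 5, 0, 8, 7, 5, 9, 5, 7, 8, 0, 5, 7, 0, 5, 9], .i),
   ([6, 1, 7, 4, 7, 4, 7, 1, 6, 5, 7, 5, 8, 0, 5, 7, 5, 9], (.gh [7] 823 [5, 7, 5, 8, 0, 5, 7, 5, 9])),
   ([6, 1, 7, 4, 0, 4, 7, 1, 6, 7], (.gh [0] 1800 [7])),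
   ([6, 1, 7, 1, 2, 4, 7, 1, 6, 9], (.gh [4, 1, 2] 19 [9])),
   ([6, 1, 7, 4, 3, 0, 2, 4, 7, 1, 6, 0], (.gh [3, 0, 2] 30 [0])),
   ([6, 1, 7, 4, 6, 4, 7, 1, 6, 0, 5, 7, 5, 1, 0], (.gx [0, 5, 7, 5, 1, 0])),
   ([1, 7, 1, 7], .n),
   ([1, 0, 1, 0], .n),
   ([7, 7], .n),
   ([8, 9], .n),
   ([2, 3], .n),
   ([0, 0], .n),
   ([1, 1], .n),
   ([4, 4], .n),
   ([5, 5], .i),
   ([6, 6], .x2),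
   ([6, 8, 6, 7, 4, 3], (.xwx [7, 4, 3])),
   ([5, 2, 9, 5, 2, 9], .sfsf)]

/-- further relators in the case 1628 -/
def rwExtra : List (List ℕ × Why) :=
  [([0, 1, 2, 0, 3, 1, 2, 0, 3], .n),
   ([0, 1, 2, 1, 3, 3, 3, 3, 0], .n),
   ([2, 3], .n),
   ([5, 5], .i),
   ([5, 1, 5, 1], .i),
   ([5, 2, 5, 2], .sqsq),
   ([5, 0, 5, 0, 5, 0], .i),
   ([0, 0], .n),
   ([1, 1], .n),
   ([3, 2], .n),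
   ([9, 8], .n),
   ([7, 7], .n),
   ([4, 4], .n),
   ([6, 6], .x2),
   ([8, 9], .n)]

/-- all relators of the case 1628 -/
def rwAll : List (List ℕ × Why) := rwGood ++ rwExtra

theorem rw_ok : (rwAll.all fun p => okRel 1628 p.1 p.2) = true ∧
    (rwBadA.all fun p => okRel 8 p.1 p.2) = true ∧ (rwBadB.all fun p => okRel 68 p.1 p.2) = true ∧
    (rwBadC.all fun p => okRel 1568 p.1 p.2) = true := by decide +kernel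

theorem rw_rels : rwGood.map Prod.fst = Good.cert.rels ∧ rwBadA.map Prod.fst = BadA.cert.rels ∧
    rwBadB.map Prod.fst = BadB.cert.rels ∧ rwBadC.map Prod.fst = BadC.cert.rels ∧
    ∀ w ∈ Hs.cert.rels, w.map (fun x => ([0, 1, 2, 3, 5] : List ℕ).getD x 0) ∈ rwAll.map Prod.fst := by
  decide +kernel

end CfsgLib.J3Unique
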