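import Cfsg.Agent.Lib.J1Unique.Pres
import Cfsg.Agent.Lib.J3Unique.Rels
import Cfsg.Agent.Lib.J3Unique.BrCert

/-!
# The presented group and the bound for its order
-/

set_option autoImplicit false
set_option maxRecDepth 100000
set_option synthInstance.maxSize 1024
set_option synthInstance.maxHeartbeats 400000

namespace CfsgLib.J3Unique

open Subgroup CfsgLib.PresCert
open CfsgLib.J1Unique (PG pg pg_rel toG toG_pg presModel closure_pg wv)

/-- The relators of the presented group. -/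
def allRels : List (List ℕ) := rwAll.map Prod.fst

/-- The presented group. -/
abbrev P3 : Type := PG 10 allRels

/-- The generators of the presented group. -/
noncomputable abbrev pX : ℕ → P3 := pg 10 allRels

/-- The letters of the subgroup of index `6156`. -/
def hMap (x : ℕ) : ℕ := ([0, 1, 2, 3, 5] : List ℕ).getD x 0

theorem pres_facts :
    (∀ w ∈ allRels, ∀ x ∈ w, x < 10) ∧
    (∀ w ∈ Good.cert.rels, w ∈ allRels) ∧
    (∀ x < 10, Good.cert.iv x < 10 ∧
      ([x, Good.cert.iv x] ∈ allRels ∨ [Good.cert.iv x, x] ∈ allRels)) ∧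
    (∀ w ∈ Hs.cert.rels, (∀ x ∈ w, x < Hs.cert.g) ∧ w.map hMap ∈ allRels) ∧
    (∀ x < Hs.cert.g, Hs.cert.iv x < Hs.cert.g ∧
      ([x, Hs.cert.iv x] ∈ Hs.cert.rels ∨ [Hs.cert.iv x, x] ∈ Hs.cert.rels)) ∧
    (∀ w ∈ Br.cert.rels, (∀ x ∈ w, x < Br.cert.g) ∧ w ∈ Hs.cert.rels) ∧
    (∀ x < Br.cert.g, Br.cert.iv x < Br.cert.g ∧
      ([x, Br.cert.iv x] ∈ Br.cert.rels ∨ [Br.cert.iv x, x] ∈ Br.cert.rels)) ∧
    (∀ r ∈ Good.cert.subs, ∃ y < 5, r = [hMap y]) ∧
    (∀ r ∈ Hs.cert.subs, ∃ y < 4, r = [y]) ∧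
    Good.cert.g = 10 ∧ Good.cert.n = 6156 ∧ Hs.cert.n = 17 ∧ Br.cert.n = 480 ∧
    Br.cert.subs = [] ∧ Hs.cert.g = 5 ∧ Br.cert.g = 4 := by decide +kernel

/-- The model of the big certificate in the presented group. -/
noncomputable def goodModel (T : Subgroup P3) (h : ∀ r ∈ Good.cert.subs, wv pX r ∈ T) :
    Model Good.cert P3 where
  gen := pX
  gen_inv x hx := by
    obtain ⟨-, -, h3, -, -, -, -, -, -, hg, -⟩ := pres_facts
    rw [hg] at hx ⊢
    obtain ⟨h1, h2⟩ := h3 x hx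
    refine ⟨h1, ?_⟩
    rcases h2 with h | h <;>
      have h' := pg_rel (n := 10) h <;>
      simp only [wv, List.map_cons, List.map_nil, List.prod_cons, List.prod_nil, mul_one] at h'
    · exact eq_inv_of_mul_eq_one_right h'
    · exact eq_inv_of_mul_eq_one_left h'
  rels_eq r hr := by
    obtain ⟨h1, h2, -, -, -, -, -, -, -, hg, -⟩ := pres_facts
    rw [hg]
    exact ⟨h1 r (h2 r hr), pg_rel (h2 r hr)⟩
  sub := T
  subs_mem := h
  closure_gen := by
    obtain ⟨-, -, -, -, -, -, -, -, -, hg, -⟩ := pres_facts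
    rw [hg]
    exact closure_pg allRels

/-- The presented group has order at most `50232960`. -/
theorem card_P3 : Finite P3 ∧ Nat.card P3 ≤ 50232960 := by
  obtain ⟨-, -, -, hh, hhi, hb, hbi, hgs, hhs, -, hgn, hhn, hbn, hbs, hgh, hgb⟩ := pres_facts
  let ρ : PG Br.cert.g Br.cert.rels →* PG Hs.cert.g Hs.cert.rels :=
    toG Br.cert.g Br.cert.rels (pg Hs.cert.g Hs.cert.rels) (fun w hw => (hb w hw).1)
      fun w hw => pg_rel (hb w hw).2
  let σ : PG Hs.cert.g Hs.cert.rels →* P3 :=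
    toG Hs.cert.g Hs.cert.rels (fun x => pX (hMap x)) (fun w hw => (hh w hw).1) fun w hw => by
      have h := pg_rel (n := 10) (rels := allRels) (hh w hw).2
      simpa [wv, pX, List.map_map, Function.comp_def] using h
  -- the group of order `480`
  have b1 := Cert.index_le (presModel Br.cert (fun w hw => (hb w hw).1) hbi (⊥ : Subgroup _)
    (fun r hr => absurd hr (by rw [hbs]; exact List.not_mem_nil))) Br.valid
  have c1 : Nat.card (PG Br.cert.g Br.cert.rels) ≤ 480 ∧
      Nat.card (PG Br.cert.g Br.cert.rels) ≠ 0 := by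
    rw [← Subgroup.index_bot]
    exact ⟨b1.1.trans_eq hbn, b1.2.index_ne_zero⟩
  haveI : Finite (PG Br.cert.g Br.cert.rels) := Nat.finite_of_card_ne_zero c1.2
  -- the group of order `8160`
  have hsub : ∀ r ∈ Hs.cert.subs, wv (pg Hs.cert.g Hs.cert.rels) r ∈ ρ.range := by
    intro r hr
    obtain ⟨y, hy, rfl⟩ := hhs r hr
    refine ⟨pg _ _ y, ?_⟩
    rw [show wv (pg Hs.cert.g Hs.cert.rels) [y] = pg Hs.cert.g Hs.cert.rels y by simp [wv]]
    exact toG_pg _ _ _ (by rw [hgb]; exact hy)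
  obtain ⟨i2, f2⟩ := Cert.index_le
    (presModel Hs.cert (fun w hw => (hh w hw).1) hhi ρ.range hsub) Hs.valid
  change ρ.range.index ≤ Hs.cert.n at i2
  change ρ.range.FiniteIndex at f2
  have r2 : Nat.card ρ.range ≤ 480 :=
    (Nat.card_le_card_of_surjective _ ρ.rangeRestrict_surjective).trans c1.1
  haveI : Finite ρ.range := Finite.of_surjective _ ρ.rangeRestrict_surjective
  have c2 : Nat.card (PG Hs.cert.g Hs.cert.rels) ≤ 8160 ∧
      Nat.card (PG Hs.cert.g Hs.cert.rels) ≠ 0 := by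
    rw [← ρ.range.card_mul_index]
    refine ⟨?_, mul_ne_zero Nat.card_pos.ne' f2.index_ne_zero⟩
    calc _ ≤ 480 * 17 := Nat.mul_le_mul r2 (hhn ▸ i2)
      _ = 8160 := by norm_num
  haveI : Finite (PG Hs.cert.g Hs.cert.rels) := Nat.finite_of_card_ne_zero c2.2
  -- the presented group
  have gsub : ∀ r ∈ Good.cert.subs, wv pX r ∈ σ.range := by
    intro r hr
    obtain ⟨y, hy, rfl⟩ := hgs r hr
    refine ⟨pg _ _ y, ?_⟩
    rw [show wv pX [hMap y] = pX (hMap y) by simp [wv]]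
    exact toG_pg _ _ _ (by rw [hgh]; exact hy)
  obtain ⟨i3, f3⟩ := Cert.index_le (goodModel σ.range gsub) Good.valid
  change σ.range.index ≤ Good.cert.n at i3
  change σ.range.FiniteIndex at f3
  have r3 : Nat.card σ.range ≤ 8160 :=
    (Nat.card_le_card_of_surjective _ σ.rangeRestrict_surjective).trans c2.1
  haveI : Finite σ.range := Finite.of_surjective _ σ.rangeRestrict_surjective
  have hne : Nat.card P3 ≠ 0 := by
    rw [← σ.range.card_mul_index]
    exact mul_ne_zero Nat.card_pos.ne' f3.index_ne_zero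
  refine ⟨Nat.finite_of_card_ne_zero hne, ?_⟩
  rw [← σ.range.card_mul_index]
  calc _ ≤ 8160 * 6156 := Nat.mul_le_mul r3 (hgn ▸ i3)
    _ = 50232960 := by norm_num

end CfsgLib.J3Unique
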