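import Cfsg.Agent.Lib.J3Unique.Link

/-!
# The model `2⁴:GL₂(4)` of the normaliser mapped into the group

An element is coded as `16 * M + v` for a map `M` and a vector `v`.
-/

set_option autoImplicit false
set_option linter.unusedSectionVars false
set_option maxRecDepth 100000

namespace CfsgLib.J3Unique

open Subgroup
open CfsgLib.Small.JTwoType (Pre)
open CfsgLib.PresCert (allBelow allBelow_spec)

/-- the product -/
def nm (p q : ℕ) : ℕ := mm (p / 16) (q / 16) * 16 + (p % 16 ^^^ ap (p / 16) (q % 16))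

/-- the identity -/
def nI : ℕ := mI * 16

/-- the value of a word -/
def nprod : List ℕ → ℕ
  | [] => nI
  | p :: l => nm p (nprod l)

theorem nm_div_mod (p q : ℕ) :
    nm p q / 16 = mm (p / 16) (q / 16) ∧ nm p q % 16 = (p % 16 ^^^ ap (p / 16) (q % 16)) := by
  have h : (p % 16 ^^^ ap (p / 16) (q % 16)) < 16 :=
    Nat.xor_lt_two_pow (n := 4) (Nat.mod_lt _ (by norm_num)) (ap_lt _ _)
  rw [nm]
  constructor <;> omega

theorem kM_len {j : ℕ} (hj : j < 12) : kM.getD j 0 ∈ kM := by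
  rw [List.getD_eq_getElem _ _ (show j < kM.length by rw [lL_len.2.2]; exact hj)]
  exact List.getElem_mem _

variable {G : Type*} [Group G] [Finite G] {S : Pre G}

/-- The hypotheses in use. -/
structure Ctx (S : Pre G) where
  /-- coordinates of the centraliser -/
  K : Coord S
  hone : ∀ x y : G, orderOf x = 2 → orderOf y = 2 → IsConj x y
  /-- the linking element -/
  L : Link K

theorem exists_ctx (hone : ∀ x y : G, orderOf x = 2 → orderOf y = 2 → IsConj x y) :
    Nonempty (Ctx S) := by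
  obtain ⟨K⟩ := exists_coord (S := S) hone
  obtain ⟨L⟩ := exists_link K hone
  exact ⟨⟨K, hone, L⟩⟩

namespace Ctx

variable (D : Ctx S)

theorem exists_lift {M : ℕ} (hM : M ∈ lL) :
    ∃ g, D.K.Acts g M ∧ g * D.L.w = D.L.w * g := by
  obtain ⟨g, hg⟩ := D.K.exists_realise D.hone hM
  obtain ⟨e, he, hc⟩ := D.K.exists_commuting D.L.acts hg (Coord.comm_mG D.hone hM)
  exact ⟨_, hg.mul_eH he, hc⟩

/-- The element commuting with `w` that induces a map. -/
noncomputable def lift (M : ℕ) : G :=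
  open Classical in if h : M ∈ lL then (D.exists_lift h).choose else 1

theorem lift_spec {M : ℕ} (hM : M ∈ lL) :
    D.K.Acts (D.lift M) M ∧ D.lift M * D.L.w = D.L.w * D.lift M := by
  classical
  rw [lift, dif_pos hM]
  exact (D.exists_lift hM).choose_spec

theorem lift_unique {M : ℕ} {g : G} (hg : D.K.Acts g M) (hc : g * D.L.w = D.L.w * g) :
    g = D.lift M := by
  obtain ⟨ha, hac⟩ := D.lift_spec (D.K.acts_mem_lL D.hone hg)
  obtain ⟨d, hd, e⟩ := ha.eq_mul_eH hg
  have h1 : D.K.eH d = g * (D.lift M)⁻¹ := by rw [e, mul_inv_cancel_right]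
  have h2 : D.K.eH d = 1 := D.K.commute_trivial D.L.acts (D.K.acts_eH hd) (by
    rw [show D.K.eH d = g * (D.lift M)⁻¹ from h1]
    exact ((show Commute g D.L.w from hc).mul_left (show Commute _ D.L.w from hac).inv_left).eq)
  rw [e, h2, one_mul]

include D in
theorem mm_mem {M N : ℕ} (hM : M ∈ lL) (hN : N ∈ lL) : mm M N ∈ lL :=
  D.K.acts_mem_lL D.hone ((D.lift_spec hM).1.mul (D.lift_spec hN).1)

theorem lift_mul {M N : ℕ} (hM : M ∈ lL) (hN : N ∈ lL) :
    D.lift (mm M N) = D.lift M * D.lift N := by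
  obtain ⟨a, ac⟩ := D.lift_spec hM
  obtain ⟨b, bc⟩ := D.lift_spec hN
  exact (D.lift_unique (a.mul b) ((show Commute _ D.L.w from ac).mul_left bc).eq).symm

theorem lift_one : D.lift mI = 1 := (D.lift_unique D.K.acts_one (by simp)).symm

theorem lift_mG : D.lift mG = D.L.w := (D.lift_unique D.L.acts rfl).symm

theorem lift_kM {j : ℕ} (hj : j < 12) : D.lift (kM.getD j 0) = D.K.Φ (kL.getD j 0) :=
  (D.lift_unique (D.K.acts_kL hj) (D.L.comm j hj).symm).symm

/-- The map from the model. -/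
noncomputable def ψ (p : ℕ) : G := D.K.eH (p % 16) * D.lift (p / 16)

theorem ψ_nm {p q : ℕ} (hp : p / 16 ∈ lL) (hq : q / 16 ∈ lL) :
    D.ψ (nm p q) = D.ψ p * D.ψ q := by
  obtain ⟨e1, e2⟩ := nm_div_mod p q
  have hpq : p % 16 < 16 := Nat.mod_lt _ (by norm_num)
  have hqq : q % 16 < 16 := Nat.mod_lt _ (by norm_num)
  rw [ψ, e1, e2, D.lift_mul hp hq, D.K.eH_mul hpq (ap_lt _ _), ← (D.lift_spec hp).1.conj _ hqq,
    ψ, ψ]
  simp [mul_assoc]

include D in
theorem nm_mem {p q : ℕ} (hp : p / 16 ∈ lL) (hq : q / 16 ∈ lL) : nm p q / 16 ∈ lL := by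
  rw [(nm_div_mod p q).1]
  exact D.mm_mem hp hq

theorem ψ_one : D.ψ nI = 1 := by
  rw [ψ, nI, Nat.mul_mod_left, Nat.mul_div_cancel _ (by norm_num : 16 > 0), D.K.eH_zero, D.lift_one,
    one_mul]

include D in
theorem nI_mem : nI / 16 ∈ lL := by
  rw [nI, Nat.mul_div_cancel _ (by norm_num : 16 > 0)]
  exact D.K.acts_mem_lL D.hone D.K.acts_one

theorem ψ_prod : ∀ l : List ℕ, (∀ p ∈ l, p / 16 ∈ lL) →
    nprod l / 16 ∈ lL ∧ D.ψ (nprod l) = (l.map D.ψ).prod
  | [], _ => ⟨D.nI_mem, by simpa [nprod] using D.ψ_one⟩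
  | p :: l, h => by
    obtain ⟨h1, h2⟩ := ψ_prod l fun q hq => h q (List.mem_cons_of_mem _ hq)
    refine ⟨D.nm_mem (h p List.mem_cons_self) h1, ?_⟩
    rw [List.map_cons, List.prod_cons, ← h2, nprod, D.ψ_nm (h p List.mem_cons_self) h1]

theorem ψ_code {M v : ℕ} (hv : v < 16) : D.ψ (16 * M + v) = D.K.eH v * D.lift M := by
  rw [ψ, show (16 * M + v) % 16 = v by omega, show (16 * M + v) / 16 = M by omega]

theorem ψ_hel {i : ℕ} (hi : i < 192) :
    D.ψ (16 * kM.getD (i / 16) 0 + i % 16) = D.K.Φ (hel i) := by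
  rw [D.ψ_code (Nat.mod_lt _ (by norm_num)), D.lift_kM (by omega)]
  exact (D.K.hE_eq hi).symm

theorem ψ_w : D.ψ (16 * mG) = D.L.w := by
  rw [← Nat.add_zero (16 * mG), D.ψ_code (by norm_num), D.K.eH_zero, one_mul, D.lift_mG]

/-- The element `x`. -/
noncomputable def x : G := D.K.Φ 960

theorem x_sq : D.x * D.x = 1 := D.K.x_sq

theorem xwx : D.x * D.L.w * D.x = D.K.Φ 786 * (D.L.w)⁻¹ := by
  rw [← D.L.rel, x, mul_inv_cancel_right]

theorem x_conj {y : ℕ} (hy : y < 1920) : D.x * D.K.Φ y * D.x = D.K.Φ (sigC y) :=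
  (D.K.Φ_sigC hy).symm

end Ctx

end CfsgLib.J3Unique
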