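import Cfsg.Agent.Lib.J3Unique.Whole
import Cfsg.Agent.Lib.J3Unique.CentDerive
import Cfsg.Agent.Lib.J3Unique.Odd

/-!
# Uniqueness of the third Janko group
-/

set_option autoImplicit false
set_option linter.unusedSectionVars false
set_option maxRecDepth 100000
set_option synthInstance.maxSize 1024
set_option synthInstance.maxHeartbeats 400000

namespace CfsgLib.J3Unique

open Subgroup Cfsg Cfsg.Spor
open CfsgLib.Small.JTwoType (Pre)
open CfsgLib.LocalEven.J3Lines (Four)

/-- The hypotheses from a quotient isomorphism. -/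
theorem exists_pre {G : Type*} [Group G] [Finite G] (t : G) (ht : orderOf t = 2)
    (Q : Subgroup (centralizer ({t} : Set G))) [Q.Normal] (hX : Cfsg.IsExtraspecial 2 Q)
    (hcard : Nat.card Q = 32) (e : centralizer ({t} : Set G) ⧸ Q ≃* alternatingGroup (Fin 5))
    (hone : ∀ x y : G, orderOf x = 2 → orderOf y = 2 → IsConj x y) : Nonempty (Pre G) := by
  let proj : centralizer ({t} : Set G) →* alternatingGroup (Fin 5) :=
    (e : centralizer ({t} : Set G) ⧸ Q →* alternatingGroup (Fin 5)).comp (QuotientGroup.mk' Q)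
  have hs : Function.Surjective proj := e.surjective.comp (QuotientGroup.mk'_surjective Q)
  have hk : proj.ker = Q := by
    ext x
    rw [MonoidHom.mem_ker]
    show e (QuotientGroup.mk' Q x) = 1 ↔ _
    rw [e.map_eq_one_iff, QuotientGroup.mk'_apply, QuotientGroup.eq_one_iff]
  exact ⟨⟨t, ht, Q, hX, hcard, cent_of_hone t ht Q hX hcard proj hs hk hone, proj, hs, hk⟩⟩

/-- The presented group is the third Janko group. -/
theorem equiv_J3 {F : Type} [Field F] [Fintype F] {ω : F} (h : Four F ω) :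
    Nonempty (P3 ≃* J3 F ω) := by
  obtain ⟨hone, -, t, ht, Q, hQ, hX, hcard, -, -, ⟨e⟩, -⟩ := LocalEven.J3Lines.involutions_full h
  haveI := hQ
  obtain ⟨S⟩ := exists_pre t ht Q hX hcard e hone
  obtain ⟨D⟩ := exists_ctx (S := S) hone
  haveI := card_P3.1
  have htop := D.M_top_of_card (LocalEven.J3Lines.card_J3 h)
  have hsurj : Function.Surjective D.φ := MonoidHom.range_eq_top.1 htop
  refine ⟨MulEquiv.ofBijective D.φ ((Nat.bijective_iff_surjective_and_card D.φ).2 ⟨hsurj, ?_⟩)⟩
  refine le_antisymm ?_ (Nat.card_le_card_of_surjective _ hsurj)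
  rw [LocalEven.J3Lines.card_J3 h]
  exact card_P3.2

/-- A simple group with one class of involutions and the centralizer of `J3` is presented by the
relators. -/
theorem equiv_P3 {G : Type*} [Group G] [Finite G] [IsSimpleGroup G] (S : Pre G)
    (hone : ∀ x y : G, orderOf x = 2 → orderOf y = 2 → IsConj x y) : Nonempty (P3 ≃* G) := by
  classical
  obtain ⟨F, fF, tF, ω, h⟩ := LocalEven.J3Lines.exists_four
  obtain ⟨e₀⟩ := equiv_J3 h
  haveI := LocalEven.J3Lines.simple_J3 h
  haveI : Nontrivial P3 := e₀.toEquiv.nontrivial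
  haveI : IsSimpleGroup P3 :=
    IsSimpleGroup.isSimpleGroup_of_surjective e₀.symm.toMonoidHom e₀.symm.surjective
  obtain ⟨D⟩ := exists_ctx (S := S) hone
  have hinj : Function.Injective D.φ := by
    rw [← MonoidHom.ker_eq_bot_iff]
    refine (IsSimpleGroup.eq_bot_or_eq_top_of_normal _ inferInstance).resolve_right fun hk => ?_
    obtain ⟨p, hp⟩ : S.z ∈ D.φ.range := D.z_mem_M
    have h1 : p ∈ D.φ.ker := hk ▸ mem_top p
    exact S.z_ne_one (hp.symm.trans h1)
  let eM : P3 ≃* D.M := MonoidHom.ofInjective hinj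
  have hM : Nat.card D.M = 50232960 := by
    rw [← Nat.card_congr eM.toEquiv, Nat.card_congr e₀.toEquiv, LocalEven.J3Lines.card_J3 h]
  have htop : D.M = ⊤ := by
    by_contra hne
    obtain ⟨T, hd, hbig⟩ := D.exists_odd_subgroup hne hM
    obtain ⟨a, b, ha, hb, hab⟩ := exists_comm_pair T hd hbig
    let ι : T →* J3 F ω := ((e₀.toMonoidHom.comp eM.symm.toMonoidHom).comp T.subtype)
    have hι : Function.Injective ι :=
      e₀.injective.comp (eM.symm.injective.comp T.subtype_injective)
    refine LocalEven.J3Lines.not_comm_19_17 h (a := ι a) (b := ι b) ?_ ?_ ?_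
    · rw [orderOf_injective ι hι, ha]
    · rw [orderOf_injective ι hι, hb]
    · rw [← map_mul, ← map_mul, hab]
  exact ⟨MulEquiv.ofBijective D.φ ⟨hinj, MonoidHom.range_eq_top.1 htop⟩⟩

/-- A simple group with one class of involutions and the centralizer of `J3` is `J3`. -/
theorem iso_J3 {G : Type*} [Group G] [Finite G] [IsSimpleGroup G] (S : Pre G)
    (hone : ∀ x y : G, orderOf x = 2 → orderOf y = 2 → IsConj x y) : Cfsg.Spor.IsoJ3 G := by
  obtain ⟨F, fF, tF, ω, h⟩ := LocalEven.J3Lines.exists_four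
  obtain ⟨e₀⟩ := equiv_J3 h
  obtain ⟨e⟩ := equiv_P3 S hone
  exact ⟨F, fF, tF, ω, h.card, h.root, ⟨e.symm.trans e₀⟩⟩

end CfsgLib.J3Unique
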