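import Cfsg.Agent.Lib.J3Unique.L2
import Cfsg.Agent.Lib.J3Unique.Uniq

/-!
# A subgroup `SL₂(16):2` in a group of `J3` type
-/

set_option autoImplicit false
set_option maxRecDepth 100000
set_option synthInstance.maxSize 1024
set_option synthInstance.maxHeartbeats 400000

namespace CfsgLib.J3Unique

open Subgroup

theorem exists_sl216 {G : Type*} [Group G] [Finite G] [IsSimpleGroup G]
    (S : CfsgLib.Small.JTwoType.Pre G)
    (hone : ∀ x y : G, orderOf x = 2 → orderOf y = 2 → IsConj x y) :
    ∃ (H : Subgroup G) (N : Subgroup H) (K : Type) (_ : Field K) (_ : Fintype K),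
      N.Normal ∧ N.index = 2 ∧ Fintype.card K = 16 ∧
        Nonempty (N ≃* Matrix.SpecialLinearGroup (Fin 2) K) := by
  obtain ⟨F, fF, tF, ω, h⟩ := LocalEven.J3Lines.exists_four
  obtain ⟨e₀⟩ := equiv_J3 h
  obtain ⟨f⟩ := equiv_P3 S hone
  have hP : Nat.card P3 = 50232960 := by
    rw [Nat.card_congr e₀.toEquiv, LocalEven.J3Lines.card_J3 h]
  let b := MulEquiv.ofBijective hsModel hsModel_bij
  let θ : SLT →* G := (f.toMonoidHom.comp hsHom).comp b.symm.toMonoidHom
  have hθ : Function.Injective θ :=
    (f.injective.comp (hsHom_inj hP)).comp b.symm.injective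
  let e : SLT ≃* θ.range := MonoidHom.ofInjective hθ
  set N₀ := (SemidirectProduct.rightHom : SLT →* Multiplicative (ZMod 2)).ker with hN₀
  have hidx : N₀.index = 2 := by
    rw [hN₀, Subgroup.index_ker, MonoidHom.range_eq_top.2 SemidirectProduct.rightHom_surjective,
      card_top, Nat.card_eq_fintype_card]
    rfl
  refine ⟨θ.range, N₀.map e.toMonoidHom, GFS, inferInstance, inferInstance,
    (MonoidHom.normal_ker _).map _ e.surjective, ?_, card_GFS, ⟨?_⟩⟩
  · exact (Subgroup.index_map_equiv N₀ e).trans hidx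
  · refine (N₀.equivMapOfInjective e.toMonoidHom e.injective).symm.trans ?_
    refine (MulEquiv.subgroupCongr (SemidirectProduct.range_inl_eq_ker_rightHom
      (φ := frobHom)).symm).trans ?_
    exact (MonoidHom.ofInjective SemidirectProduct.inl_injective).symm

end CfsgLib.J3Unique
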