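import Cfsg.Agent.Lib.J3Unique.Uniq
import Cfsg.Agent.Lib.LocalEven.J3Out

/-!
# Sylow subgroups for seventeen and nineteen in groups of type `J3`
-/

set_option autoImplicit false
set_option linter.style.haveILetI false
set_option maxRecDepth 100000
set_option synthInstance.maxSize 1024
set_option synthInstance.maxHeartbeats 400000

namespace CfsgLib.LocalEven.J3Lines

open Cfsg Cfsg.Spor Matrix

variable {F : Type*} [Field F] [Fintype F] {ω : F}

attribute [local irreducible] xPows yWord bCols bWord wordCols w19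

/-- An element of `J3` commuting with one of order `19` has order dividing `513`. -/
theorem comm_nineteen (h : Four F ω) {a b : J3 F ω} (ha : orderOf a = 19) (hab : a * b = b * a) :
    b ^ 513 = 1 := by
  obtain ⟨x, hx19, hx⟩ := exists_nineteen h
  set π : threeJ3 F ω →* J3 F ω := QuotientGroup.mk' (Subgroup.center (threeJ3 F ω)) with hπ
  obtain ⟨A₀, hA₀⟩ := QuotientGroup.mk'_surjective (Subgroup.center (threeJ3 F ω)) a
  obtain ⟨B, hB⟩ := QuotientGroup.mk'_surjective (Subgroup.center (threeJ3 F ω)) b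
  haveI : Fact (Nat.Prime 19) := ⟨by norm_num⟩
  have hc3 : ∀ c ∈ Subgroup.center (threeJ3 F ω), c ^ 3 = 1 := fun c hc => (center_scalar h hc).1
  set A := A₀ ^ 3 with hA
  have ha19 : a ^ 19 = 1 := ha ▸ pow_orderOf_eq_one a
  have hπA : π A = a ^ 3 := by rw [hA, map_pow, show π A₀ = a from hA₀]
  have hA19 : A ^ 19 = 1 := by
    rw [hA, ← pow_mul, mul_comm, pow_mul]
    refine hc3 _ ((QuotientGroup.eq_one_iff _).1 ?_)
    show π (A₀ ^ 19) = 1
    rw [map_pow, show π A₀ = a from hA₀, ha19]
  have hAo : orderOf A = 19 := orderOf_eq_prime hA19 fun e => by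
    rw [e, map_one] at hπA
    have := orderOf_dvd_of_pow_eq_one hπA.symm
    rw [ha] at this
    norm_num at this
  set c := A * B * A⁻¹ * B⁻¹ with hc
  have hcc : c ∈ Subgroup.center (threeJ3 F ω) := by
    rw [← QuotientGroup.eq_one_iff]
    show π c = 1
    rw [hc, map_mul, map_mul, map_mul, map_inv, map_inv, hπA, show π B = b from hB,
      (show Commute a b from hab).pow_left 3 |>.eq, mul_inv_cancel_right, mul_inv_cancel]
  have hiter : ∀ n : ℕ, A ^ n * B * (A ^ n)⁻¹ = c ^ n * B := by
    intro n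
    induction n with
    | zero => simp
    | succ n ih =>
      calc A ^ (n + 1) * B * (A ^ (n + 1))⁻¹ = A * (A ^ n * B * (A ^ n)⁻¹) * A⁻¹ := by
            rw [pow_succ']; group
        _ = A * (c ^ n * B) * A⁻¹ := by rw [ih]
        _ = c ^ n * (A * B * A⁻¹) := by
            rw [← mul_assoc A, Subgroup.mem_center_iff.1 (pow_mem hcc n) A]; group
        _ = c ^ (n + 1) * B := by rw [pow_succ, hc]; group
  have hc1 : c = 1 := by
    have h19 := hiter 19
    rw [hA19, one_mul, inv_one, mul_one, eq_comm, mul_eq_right] at h19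
    exact eq_one_of_three (hc3 _ hcc) h19 (by norm_num)
  have hAB : A * B = B * A := by
    rw [hc, mul_inv_eq_one, mul_inv_eq_iff_eq_mul] at hc1
    exact hc1
  obtain ⟨g, hg, -⟩ := conj_nineteen h hx19 hAo
  have hgo : orderOf (g * A * g⁻¹) = 19 := ((MulAut.conj g).orderOf_eq A).trans hAo
  have heq : Subgroup.zpowers (g * A * g⁻¹) = Subgroup.zpowers x :=
    Subgroup.eq_of_le_of_card_ge (Subgroup.zpowers_le.2 hg)
      (by rw [Nat.card_zpowers, Nat.card_zpowers, hgo, hx19])
  obtain ⟨k, hk⟩ : x ∈ Subgroup.zpowers (g * A * g⁻¹) := heq.symm ▸ Subgroup.mem_zpowers x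
  have hcomm : g * B * g⁻¹ * x = x * (g * B * g⁻¹) := by
    rw [← hk]
    exact (((show Commute A B from hAB).map (MulAut.conj g).toMonoidHom).zpow_left k).eq.symm
  have h513 := comm_order h hx hcomm
  rw [conj_pow, conj_eq_one_iff] at h513
  rw [← hB, ← map_pow, h513, map_one]

/-- An element of order `19` of `J3` is conjugate to its fourth power. -/
theorem exists_fourth (h : Four F ω) :
    ∃ a y : J3 F ω, orderOf a = 19 ∧ y * a * y⁻¹ = a ^ 4 := by
  obtain ⟨X, B, hP⟩ := exists_pair h
  have hY := yWord_ok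
  simp only [Bool.and_eq_true, List.all_eq_true, Nat.blt_eq, eqL_iff] at hY
  obtain ⟨y, hy', hye⟩ := exists_word h yWord hY.1
  set Y : threeJ3 F ω := ⟨y, selGrp_le h hy'⟩
  have hYc : ColsG F ω Y (wordCols yWord) := by
    show Cols F ω (y : Matrix F9 F9 F) _
    rw [hye]; exact Cols.word h hY.1
  have h1 := hP.xPow 1 (by norm_num)
  rw [pow_one] at h1
  have e4 : Y * X = X ^ 4 * Y :=
    ColsG.unique h (hY.2 ▸ ColsG.mul h hYc h1) (ColsG.mul h (hP.xPow 4 (by norm_num)) hYc)
  haveI : Fact (Nat.Prime 19) := ⟨by norm_num⟩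
  refine ⟨prj F ω X, prj F ω Y, orderOf_eq_prime (prj_pow19 hP) fun e => ?_, ?_⟩
  · obtain ⟨e3, -⟩ := center_scalar h (prj_one.1 e)
    have := orderOf_dvd_of_pow_eq_one e3
    rw [hP.xOrd] at this
    norm_num at this
  · rw [← map_inv, ← map_mul, ← map_mul, ← map_pow, e4, mul_inv_cancel_right]

end CfsgLib.LocalEven.J3Lines

namespace CfsgLib.J3Unique

open Subgroup Cfsg Cfsg.Spor
open CfsgLib.Small.JTwoType (Pre)
open CfsgLib.LocalEven.J3Lines (Four)

theorem a5_sq : ∀ a : alternatingGroup (Fin 5), a ^ 16 = 1 → a ^ 2 = 1 := by decide +kernel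

theorem nineteen_index : ∀ m ∈ Nat.divisors 4374, (50232960 / (19 * m)) % 19 = 1 → m = 9 := by
  decide +kernel

theorem seventeen_index : ∀ m ∈ Nat.divisors 19440, (50232960 / (17 * m)) % 17 = 1 →
    m = 8 ∨ m = 144 ∨ m = 1215 := by
  decide +kernel

theorem split_144 : ∀ e ∈ Nat.divisors 16, e ∣ 144 → Odd (144 / e) → e = 16 := by decide +kernel

theorem split_8 : ∀ e ∈ Nat.divisors 16, e ∣ 8 → Odd (8 / e) → e = 8 := by decide +kernel

variable {G : Type*} [Group G] [Finite G]

/-- The normaliser of a subgroup of prime order. -/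
theorem normalizer_prime {p : ℕ} (hp : p.Prime) (P : Subgroup G) (hP : Nat.card P = p) :
    ∃ e, e ∣ p - 1 ∧ Nat.card (normalizer (P : Set G)) = Nat.card (centralizer (P : Set G)) * e ∧
      (∀ n : normalizer (P : Set G), P.normalizerMonoidHom n ^ e = 1) ∧
      (∃ n : normalizer (P : Set G), orderOf (P.normalizerMonoidHom n) = e) ∧
      (centralizer (P : Set G) = P → IsCyclic (normalizer (P : Set G) ⧸ P.subgroupOf (normalizer (P : Set G))) ∧
        Nat.card (normalizer (P : Set G) ⧸ P.subgroupOf (normalizer (P : Set G))) = e) := by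
  haveI : Fact p.Prime := ⟨hp⟩
  haveI : IsCyclic P := isCyclic_of_prime_card hP
  haveI : IsCyclic (MulAut P) := by
    haveI : Fact (Nat.card P).Prime := ⟨hP ▸ hp⟩
    exact (IsCyclic.mulAutMulEquiv P).isCyclic.2 inferInstance
  refine ⟨Nat.card P.normalizerMonoidHom.range, ?_, ?_, ?_, ?_, ?_⟩
  · have := Subgroup.card_subgroup_dvd_card P.normalizerMonoidHom.range
    rwa [IsCyclic.card_mulAut P, hP, Nat.totient_prime hp] at this
  · rw [← (P.normalizerMonoidHom.ker).card_mul_index, index_ker, normalizerMonoidHom_ker,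
      Nat.card_congr (subgroupOfEquivOfLe (centralizer_le_normalizer _)).toEquiv]
  · intro n
    have h := pow_card_eq_one' (x := (⟨_, n, rfl⟩ : P.normalizerMonoidHom.range))
    exact congrArg Subtype.val h
  · obtain ⟨⟨_, n, rfl⟩, hg⟩ := IsCyclic.exists_ofOrder_eq_natCard (α := P.normalizerMonoidHom.range)
    refine ⟨n, ?_⟩
    rw [← Subgroup.orderOf_coe] at hg
    exact hg
  · intro hC
    have hk : P.normalizerMonoidHom.ker = P.subgroupOf (normalizer (P : Set G)) := by
      rw [normalizerMonoidHom_ker]; exact congrArg (fun K => subgroupOf K _) hC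
    let e := (QuotientGroup.quotientMulEquivOfEq hk.symm).trans
      (QuotientGroup.quotientKerEquivRange P.normalizerMonoidHom)
    exact ⟨e.isCyclic.2 inferInstance, Nat.card_congr e.toEquiv⟩

theorem card_dvd_of_primes {H : Subgroup G} {a b : ℕ} (hab : Nat.card H ∣ a * b)
    (h : ∀ q : ℕ, q.Prime → q ∣ a → ∀ g ∈ H, orderOf g ≠ q) : Nat.card H ∣ b := by
  refine (Nat.coprime_of_dvd fun q hq hH ha => ?_).dvd_of_dvd_mul_left hab
  haveI : Fact q.Prime := ⟨hq⟩
  obtain ⟨g, hg⟩ := exists_prime_orderOf_dvd_card' (G := H) q hH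
  exact h q hq ha g g.2 (by rw [Subgroup.orderOf_coe]; exact hg)

theorem sylow_seventeen_nineteen [IsSimpleGroup G] (S : Pre G)
    (hone : ∀ x y : G, orderOf x = 2 → orderOf y = 2 → IsConj x y) :
    (∀ X : Sylow 19 G, centralizer ((X : Subgroup G) : Set G) = X ∧
      IsCyclic (normalizer ((X : Subgroup G) : Set G) ⧸ (X : Subgroup G).subgroupOf _) ∧
      Nat.card (normalizer ((X : Subgroup G) : Set G) ⧸ (X : Subgroup G).subgroupOf _) = 9) ∧
    (∀ Y : Sylow 17 G, centralizer ((Y : Subgroup G) : Set G) = Y ∧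
      IsCyclic (normalizer ((Y : Subgroup G) : Set G) ⧸ (Y : Subgroup G).subgroupOf _) ∧
      Nat.card (normalizer ((Y : Subgroup G) : Set G) ⧸ (Y : Subgroup G).subgroupOf _) = 8) := by
  classical
  obtain ⟨F, fF, tF, ω, hc, hr, ⟨f⟩⟩ := iso_J3 S hone
  have h : Four F ω := ⟨hc, hr⟩
  have hcard : Nat.card G = 50232960 :=
    (Nat.card_congr f.toEquiv).trans (LocalEven.J3Lines.card_J3 h)
  have h513 : ∀ {a b : G}, orderOf a = 19 → a * b = b * a → b ^ 513 = 1 := fun {a b} ha hab =>
    f.injective (by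
      rw [map_pow, map_one]
      exact LocalEven.J3Lines.comm_nineteen h ((f.orderOf_eq a).trans ha)
        (by rw [← map_mul, hab, map_mul]))
  obtain ⟨a₀, y₀, ha₀, hy₀⟩ := LocalEven.J3Lines.exists_fourth h
  -- centralisers of involutions
  have hinv : ∀ s : G, orderOf s = 2 → ∀ g : G, g * s = s * g →
      (orderOf g ≠ 17) ∧ (∀ k, g ^ (2 ^ k) = 1 → g ^ 8 = 1) := by
    intro s hs g hgs
    obtain ⟨c, hc⟩ := isConj_iff.1 (hone s S.z hs S.ord)
    have hmem : c * g * c⁻¹ ∈ S.C := (S.mem_C _).2 (by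
      rw [← hc]; exact congrArg (fun w => c * w * c⁻¹) hgs |> fun e => by simpa [mul_assoc] using e)
    refine ⟨fun h17 => ?_, fun k hk => ?_⟩
    · have := orderOf_dvd_natCard (⟨_, hmem⟩ : S.C)
      rw [S.card_C, Subgroup.orderOf_mk, ← MulAut.conj_apply, MulEquiv.orderOf_eq, h17] at this
      norm_num at this
    · have hz : (⟨_, hmem⟩ : S.C) ^ 2 ^ k = 1 := Subtype.ext (by
        rw [SubmonoidClass.coe_pow]; show (c * g * c⁻¹) ^ 2 ^ k = 1; rw [conj_pow, hk]; simp)
      have h16 : S.proj ⟨_, hmem⟩ ^ 16 = 1 := by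
        have h1 : orderOf (S.proj ⟨_, hmem⟩) ∣ 2 ^ k := orderOf_dvd_of_pow_eq_one (by
          rw [← map_pow, hz, map_one])
        have h2 : orderOf (S.proj ⟨_, hmem⟩) ∣ 60 := by
          have := orderOf_dvd_natCard (S.proj ⟨_, hmem⟩)
          rwa [nat_card_alternatingGroup, Nat.card_fin] at this
        refine orderOf_dvd_iff_pow_eq_one.1 ?_
        obtain ⟨i, -, hi⟩ := (Nat.dvd_prime_pow Nat.prime_two).1 h1
        rw [hi] at h2 ⊢
        refine pow_dvd_pow 2 (show i ≤ 4 from ?_)
        by_contra hi4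
        exact absurd ((pow_dvd_pow 2 (show 5 ≤ i by omega)).trans h2) (by norm_num)
      have hQ : (⟨_, hmem⟩ : S.C) ^ 2 ∈ S.Q :=
        (S.proj_eq_one _).1 (by rw [map_pow]; exact a5_sq _ h16)
      have h4 := congrArg (fun q : S.Q => ((q : S.C) : G)) (S.pow_four ⟨_, hQ⟩)
      simp only [SubmonoidClass.coe_pow, OneMemClass.coe_one, conj_pow, ← pow_mul] at h4
      exact conj_eq_one_iff.1 h4
  haveI : Fact (Nat.Prime 19) := ⟨by norm_num⟩
  haveI : Fact (Nat.Prime 17) := ⟨by norm_num⟩
  refine ⟨fun X => ?_, fun Y => ?_⟩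
  · have hX : Nat.card X = 19 := by
      rw [X.card_eq_multiplicity, hcard, show (50232960 : ℕ) = 19 ^ 1 * 2643840 by norm_num,
        Nat.factorization_mul (by norm_num) (by norm_num), Finsupp.add_apply,
        Nat.Prime.factorization_pow (by norm_num), Finsupp.single_eq_same,
        Nat.factorization_eq_zero_of_not_dvd (by norm_num)]
      norm_num
    obtain ⟨e, he, hN, hne, ⟨n, hn⟩, hfin⟩ := normalizer_prime (by norm_num) (X : Subgroup G) hX
    set C := centralizer ((X : Subgroup G) : Set G)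
    obtain ⟨a, ha⟩ := exists_prime_orderOf_dvd_card' (G := X) 19 (by rw [hX])
    rw [← Subgroup.orderOf_coe] at ha
    have hC : Nat.card C ∣ 4617 := card_dvd_of_primes (a := 10880)
      (by have := card_subgroup_dvd_card C; rwa [hcard] at this) fun q hq hq2 g hg hgo => by
      have h1 := h513 ha (mem_centralizer_iff.1 hg a a.2)
      have h2 := (orderOf_dvd_of_pow_eq_one h1)
      rw [hgo] at h2
      have h3 := Nat.dvd_gcd hq2 h2
      rw [show Nat.gcd 10880 513 = 1 by norm_num, Nat.dvd_one] at h3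
      exact hq.ne_one h3
    have hPC : (X : Subgroup G) ≤ C := by
      haveI : IsCyclic X := isCyclic_of_prime_card hX
      exact le_centralizer (X : Subgroup G)
    obtain ⟨m, hm⟩ := (card_dvd_of_le hPC).trans ⟨e, hN⟩
    rw [hX] at hm
    have hm9 : m = 9 := by
      have h2 : m ∣ 4374 := by
        have := Nat.mul_dvd_mul hC he
        rw [← hN, hm] at this
        exact Nat.dvd_of_mul_dvd_mul_left (by norm_num) (show 19 * m ∣ 19 * 4374 from this)
      refine nineteen_index m (Nat.mem_divisors.2 ⟨h2, by norm_num⟩) ?_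
      have h3 := card_sylow_modEq_one 19 G
      rw [X.card_eq_index_normalizer, Nat.ModEq] at h3
      have h4 := (normalizer ((X : Subgroup G) : Set G)).card_mul_index
      rw [hm, hcard] at h4
      rwa [← h4, Nat.mul_div_cancel_left _ (by rw [← hm]; exact Nat.card_pos)]
    -- the element inducing the fourth power
    set a' := f.symm a₀
    have ha' : orderOf a' = 19 := (f.symm.orderOf_eq a₀).trans ha₀
    have hy' : f.symm y₀ * a' * (f.symm y₀)⁻¹ = a' ^ 4 := by
      rw [← map_inv, ← map_mul, ← map_mul, hy₀, map_pow]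
    let P : Sylow 19 G := Sylow.ofCard (zpowers a') (by
      rw [Nat.card_zpowers, ha', ← X.card_eq_multiplicity, hX])
    obtain ⟨g, hg⟩ := MulAction.exists_smul_eq G P X
    set b := g * a' * g⁻¹
    set y := g * f.symm y₀ * g⁻¹
    have hb : orderOf b = 19 := ((MulAut.conj g).orderOf_eq a').trans ha'
    have hbX : zpowers b = (X : Subgroup G) := by
      refine eq_of_le_of_card_ge (zpowers_le.2 ?_) (by rw [Nat.card_zpowers, hb, hX])
      rw [← hg]
      exact smul_mem_pointwise_smul a' (MulAut.conj g) (zpowers a') (mem_zpowers a')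
    have hyb : y * b * y⁻¹ = b ^ 4 := by
      rw [show y * b * y⁻¹ = g * (f.symm y₀ * a' * (f.symm y₀)⁻¹) * g⁻¹ by
        simp only [y, b]; group, hy', conj_pow]
    have hyN : y ∈ normalizer ((X : Subgroup G) : Set G) := by
      rw [← hbX, mem_normalizer_iff'' ]
      intro w
      have hmap : (zpowers b).map (MulAut.conj y).toMonoidHom = zpowers b := by
        refine eq_of_le_of_card_ge ?_ (le_of_eq ?_)
        · rw [MonoidHom.map_zpowers, zpowers_le]
          show y * b * y⁻¹ ∈ zpowers b
          rw [hyb]; exact pow_mem (mem_zpowers b) 4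
        · rw [card_map_of_injective (MulAut.conj y).injective]
      constructor
      · intro hw
        rw [← hmap, mem_map] at hw
        obtain ⟨v, hv, rfl⟩ := hw
        simpa [mul_assoc] using hv
      · intro hw
        rw [← hmap, mem_map]
        exact ⟨_, hw, by simp [mul_assoc]⟩
    have h9 : 9 ≤ e := by
      have hpow : ∀ k : ℕ, y ^ k * b * (y ^ k)⁻¹ = b ^ 4 ^ k := by
        intro k
        induction k with
        | zero => simp
        | succ k ih =>
          calc y ^ (k + 1) * b * (y ^ (k + 1))⁻¹ = y * (y ^ k * b * (y ^ k)⁻¹) * y⁻¹ := by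
                rw [pow_succ']; group
            _ = b ^ 4 ^ (k + 1) := by rw [ih, ← conj_pow, hyb, ← pow_mul, pow_succ']
      by_contra hlt
      have hker : (⟨y, hyN⟩ : normalizer ((X : Subgroup G) : Set G)) ^ e ∈
          (X : Subgroup G).normalizerMonoidHom.ker := by
        rw [MonoidHom.mem_ker, map_pow]; exact hne _
      rw [normalizerMonoidHom_ker, mem_subgroupOf, mem_centralizer_iff] at hker
      have hcy := hker b (hbX ▸ mem_zpowers b)
      rw [SubmonoidClass.coe_pow] at hcy
      have h1 := hpow e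
      rw [← hcy, mul_inv_cancel_right] at h1
      have h2 : 4 ^ e % 19 = 1 := by
        have := pow_eq_pow_iff_modEq.1 (show b ^ 4 ^ e = b ^ 1 by rw [pow_one, ← h1])
        rwa [hb] at this
      have he0 : e ≠ 0 := by rintro rfl; norm_num at he
      interval_cases e <;> omega
    obtain ⟨c, hcc⟩ := card_dvd_of_le hPC
    rw [hX] at hcc
    have hce : c * e = 9 := by
      rw [hN, hm9, hcc] at hm
      rw [mul_assoc] at hm
      exact Nat.eq_of_mul_eq_mul_left (show 0 < 19 by norm_num) hm
    have hc1 : c = 1 := by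
      rcases Nat.lt_or_ge c 2 with h | h
      · interval_cases c <;> omega
      · nlinarith
    have hCX : C = X := (eq_of_le_of_card_ge hPC (by rw [hcc, hc1, hX])).symm
    obtain ⟨h1, h2⟩ := hfin hCX
    refine ⟨hCX, h1, h2.trans ?_⟩
    rwa [hc1, one_mul] at hce
  · have hY : Nat.card Y = 17 := by
      rw [Y.card_eq_multiplicity, hcard, show (50232960 : ℕ) = 17 ^ 1 * 2954880 by norm_num,
        Nat.factorization_mul (by norm_num) (by norm_num), Finsupp.add_apply,
        Nat.Prime.factorization_pow (by norm_num), Finsupp.single_eq_same,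
        Nat.factorization_eq_zero_of_not_dvd (by norm_num)]
      norm_num
    obtain ⟨e, he, hN, hne, ⟨n, hn⟩, hfin⟩ := normalizer_prime (by norm_num) (Y : Subgroup G) hY
    set C := centralizer ((Y : Subgroup G) : Set G)
    obtain ⟨a, ha⟩ := exists_prime_orderOf_dvd_card' (G := Y) 17 (by rw [hY])
    rw [← Subgroup.orderOf_coe] at ha
    have hC : Nat.card C ∣ 20655 := card_dvd_of_primes (a := 2432)
      (by have := card_subgroup_dvd_card C; rwa [hcard] at this) fun q hq hq2 g hg hgo => by
      have hga := mem_centralizer_iff.1 hg a a.2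
      rcases (Nat.Prime.dvd_mul hq).1 (show q ∣ 2 ^ 7 * 19 from hq2) with h | h
      · rw [(Nat.prime_dvd_prime_iff_eq hq Nat.prime_two).1 (hq.dvd_of_dvd_pow h)] at hgo
        exact (hinv g hgo a hga).1 ha
      · rw [(Nat.prime_dvd_prime_iff_eq hq (by norm_num)).1 h] at hgo
        have := orderOf_dvd_of_pow_eq_one (h513 hgo hga.symm)
        rw [ha] at this
        norm_num at this
    have hPC : (Y : Subgroup G) ≤ C := by
      haveI : IsCyclic Y := isCyclic_of_prime_card hY
      exact le_centralizer (Y : Subgroup G)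
    obtain ⟨c, hcc⟩ := card_dvd_of_le hPC
    rw [hY] at hcc
    have hcodd : Odd c := by
      rw [hcc] at hC
      exact (Odd.of_dvd_nat (by norm_num : Odd 20655) (dvd_of_mul_left_dvd hC))
    rw [hcc, mul_assoc] at hN
    have hm := seventeen_index (c * e) (Nat.mem_divisors.2 ⟨?_, by norm_num⟩) ?_
    rotate_left
    · rw [hcc] at hC
      exact Nat.mul_dvd_mul (Nat.dvd_of_mul_dvd_mul_left (by norm_num)
        (show 17 * c ∣ 17 * 1215 from hC)) he
    · have h3 := card_sylow_modEq_one 17 G
      rw [Y.card_eq_index_normalizer, Nat.ModEq] at h3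
      have h4 := (normalizer ((Y : Subgroup G) : Set G)).card_mul_index
      rw [hN, hcard] at h4
      rwa [← h4, Nat.mul_div_cancel_left _ (by rw [← hN]; exact Nat.card_pos)]
    have hepos : 0 < e := Nat.pos_of_dvd_of_pos he (by norm_num)
    have hdiv : ∀ k, c * e = k → e ∣ k ∧ Odd (k / e) := fun k hk =>
      ⟨Dvd.intro_left c hk, by rwa [← hk, Nat.mul_div_cancel _ hepos]⟩
    have hemem : e ∈ Nat.divisors 16 := Nat.mem_divisors.2 ⟨he, by norm_num⟩
    rcases hm with hm | hm | hm
    · have he8 := split_8 e hemem (hdiv 8 hm).1 (hdiv 8 hm).2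
      have hc1 : c = 1 := by rw [he8] at hm; omega
      have hCY : C = Y := (eq_of_le_of_card_ge hPC (by rw [hcc, hc1, hY])).symm
      obtain ⟨h1, h2⟩ := hfin hCY
      exact ⟨hCY, h1, h2.trans he8⟩
    · exfalso
      rw [split_144 e hemem (hdiv 144 hm).1 (hdiv 144 hm).2] at hn
      have h16 : 16 ∣ orderOf (n : G) := by
        rw [Subgroup.orderOf_coe, ← hn]; exact orderOf_map_dvd _ _
      have hz : orderOf ((n : G) ^ (orderOf (n : G) / 16)) = 16 :=
        orderOf_pow_orderOf_div (orderOf_pos _).ne' h16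
      set z := (n : G) ^ (orderOf (n : G) / 16)
      have hs : orderOf (z ^ 8) = 2 := by
        rw [orderOf_pow' _ (by norm_num), hz]; norm_num
      have := (hinv (z ^ 8) hs z (Commute.self_pow z 8).eq).2 4 (by
        rw [show (2 : ℕ) ^ 4 = 16 by norm_num, ← hz, pow_orderOf_eq_one])
      rw [this, orderOf_one] at hs
      norm_num at hs
    · exfalso
      have he1 : e = 1 := Nat.eq_one_of_dvd_coprimes (show Nat.Coprime 1215 16 by norm_num)
        (hdiv 1215 hm).1 he
      have hNC : normalizer ((Y : Subgroup G) : Set G) ≤ C := by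
        intro g hg
        have := hne ⟨g, hg⟩
        rw [he1, pow_one, ← MonoidHom.mem_ker, normalizerMonoidHom_ker, mem_subgroupOf] at this
        exact this
      haveI : IsCyclic Y := isCyclic_of_prime_card hY
      have hKP := MonoidHom.ker_transferSylow_isComplement' Y hNC
      have hK := hKP.card_mul_card
      rw [hY, hcard] at hK
      rcases IsSimpleGroup.eq_bot_or_eq_top_of_normal _
          (MonoidHom.normal_ker (MonoidHom.transferSylow Y hNC)) with hb | hb
      · rw [hb, card_bot] at hK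
        norm_num at hK
      · rw [hb, card_top, hcard] at hK
        norm_num at hK

end CfsgLib.J3Unique
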