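import Cfsg.Agent.Lib.Base.Cores
import Cfsg.Agent.Lib.Small.DihedralRecog
import Cfsg.Agent.Lib.J3Unique.Geo

/-!
# The centraliser of the element of order three is `3.A₆`
-/

set_option autoImplicit false
set_option linter.unusedSectionVars false
set_option maxRecDepth 100000
set_option maxHeartbeats 1000000

namespace CfsgLib.J3Unique

open Subgroup
open CfsgLib.Small.JTwoType (Pre)
open CfsgLib.PresCert (allBelow allBelow_spec)

/-- representatives of the centraliser of `19` modulo `19` -/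
def dC : DihedralGroup 4 → ℕ
  | .r i => ([0, 1560, 60, 1620] : List ℕ).getD i.val 0
  | .sr i => ([240, 1800, 300, 1860] : List ℕ).getD i.val 0

/-- powers of `19` -/
noncomputable def w19 (k : Fin 3) : ℕ := if k.val = 0 then 0 else if k.val = 1 then 19 else cm 19 19

theorem dC_facts : (∀ a, dC a < 1920 ∧ cm (dC a) 19 = cm 19 (dC a)) ∧ dC 1 = 0 ∧ dC (.r 2) = 60 ∧
    (∀ a b, ∃ k : Fin 3, cm (dC a) (dC b) = cm (dC (a * b)) (w19 k)) ∧
    (∀ a, (∃ k : Fin 3, dC a = w19 k) → a = 1) ∧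
    (∀ k : Fin 3, w19 k < 1920) ∧
    cm (cm (cm 19 373) (ci 19)) (ci 373) = 823 ∧ cm 823 823 = 0 := by decide +kernel

theorem dC_surj_all : allBelow 1920 (fun x => !(Nat.beq (cm x 19) (cm 19 x)) ||
    decide (∃ a : DihedralGroup 4, ∃ k : Fin 3, x = cm (dC a) (w19 k))) = true := by decide +kernel

variable {G : Type*} [Group G] [Finite G] {S : Pre G}

namespace Ctx

variable (D : Ctx S)

/-- The centraliser of `w`. -/
abbrev Cw : Subgroup G := centralizer ({D.L.w} : Set G)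

/-- The subgroup generated by `w`. -/
abbrev Zw : Subgroup D.Cw := (zpowers D.L.w).subgroupOf D.Cw

theorem mem_Cw {y : G} : y ∈ D.Cw ↔ y * D.L.w = D.L.w * y := mem_centralizer_singleton_iff

instance Zw_normal : D.Zw.Normal := ⟨fun a ha b => by
  rw [mem_subgroupOf] at ha ⊢
  obtain ⟨n, hn⟩ := mem_zpowers_iff.1 ha
  have hb : Commute (b : G) D.L.w := D.mem_Cw.1 b.2
  rw [Subgroup.coe_mul, Subgroup.coe_mul, Subgroup.coe_inv, ← hn, (hb.zpow_right n).eq,
    mul_inv_cancel_right]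
  exact zpow_mem (mem_zpowers _) n⟩

/-- The quotient map. -/
abbrev proj : D.Cw →* D.Cw ⧸ D.Zw := QuotientGroup.mk' D.Zw

theorem proj_eq_one {y : D.Cw} : D.proj y = 1 ↔ (y : G) ∈ zpowers D.L.w := by
  rw [QuotientGroup.mk'_apply, QuotientGroup.eq_one_iff, mem_subgroupOf]

theorem zp_cube {y : G} (hy : y ∈ zpowers D.L.w) : y ^ 3 = 1 := by
  obtain ⟨n, rfl⟩ := mem_zpowers_iff.1 hy
  rw [← zpow_natCast, ← zpow_mul, mul_comm, zpow_mul, zpow_natCast, D.w_cube, one_zpow]

theorem zp_eq_one {y : G} (hy : y ∈ zpowers D.L.w) (h2 : y * y = 1) : y = 1 := by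
  have h3 := D.zp_cube hy
  rw [pow_succ, pow_two, h2, one_mul] at h3
  exact h3

theorem comm_zp {y a : G} (ha : a * D.L.w = D.L.w * a) (hy : y ∈ zpowers D.L.w) : a * y = y * a := by
  obtain ⟨n, rfl⟩ := mem_zpowers_iff.1 hy
  exact ((show Commute a D.L.w from ha).zpow_right n).eq

theorem card_Zw : Nat.card D.Zw = 3 := by
  rw [Nat.card_congr (subgroupOfEquivOfLe (fun y hy => D.mem_Cw.2 (D.comm_zp rfl hy).symm)).toEquiv,
    Nat.card_zpowers]
  haveI : Fact (Nat.Prime 3) := ⟨Nat.prime_three⟩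
  exact orderOf_eq_prime D.w_cube D.w_ne_one

/-- Commuting modulo `⟨w⟩` with an involution is commuting. -/
theorem comm_of_proj {v y : D.Cw} (hv : v * v = 1) (h : D.proj y * D.proj v = D.proj v * D.proj y) :
    y * v = v * y := by
  have h1 : D.proj (y * v * y⁻¹ * v⁻¹) = 1 := by
    rw [map_mul, map_mul, map_mul, h, map_inv, map_inv, mul_inv_cancel_right, mul_inv_cancel]
  have hq := D.proj_eq_one.1 h1
  set q := y * v * y⁻¹ * v⁻¹ with hqdef
  have hqv : q * v = v * q :=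
    Subtype.ext (D.comm_zp (D.mem_Cw.1 v.2) hq).symm
  have h2 : q * v * (q * v) = 1 := by
    rw [hqdef, inv_mul_cancel_right, conj_mul, hv, mul_one, mul_inv_cancel]
  rw [mul_assoc, ← mul_assoc v q v, ← hqv, mul_assoc q v v, hv, mul_one] at h2
  have hq1 : q = 1 := Subtype.ext (D.zp_eq_one hq (congrArg Subtype.val h2))
  rw [hqdef, mul_inv_eq_one, mul_inv_eq_iff_eq_mul] at hq1
  exact hq1

theorem ΦI_mem {c : ℕ} (hc : c < 1920) (h : cm c 19 = cm 19 c) : D.ΦI c ∈ D.Cw := by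
  rw [mem_Cw, ← D.ΦI_w]
  exact (D.ΦI_comm_iff hc (by norm_num)).2 h

/-- `i` in the centraliser. -/
noncomputable def iC : D.Cw := ⟨D.i, D.mem_Cw.2 D.i_comm_w⟩

/-- `f` in the centraliser. -/
noncomputable def fC : D.Cw := ⟨D.f, D.mem_Cw.2 D.f_comm_w⟩

theorem iC_sq : D.iC * D.iC = 1 := Subtype.ext D.i_sq

theorem w19_zp (k : Fin 3) : D.ΦI (w19 k) ∈ zpowers D.L.w := by
  fin_cases k
  · show D.ΦI 0 ∈ _; rw [D.ΦI_zero]; exact one_mem _
  · show D.ΦI 19 ∈ _; rw [D.ΦI_w]; exact mem_zpowers _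
  · show D.ΦI (cm 19 19) ∈ _
    rw [D.ΦI_mul (by norm_num) (by norm_num), D.ΦI_w]
    exact mul_mem (mem_zpowers _) (mem_zpowers _)

theorem proj_i_order : orderOf (D.proj D.iC) = 2 := by
  refine orderOf_eq_prime (by rw [sq, ← map_mul, D.iC_sq, map_one]) fun h => ?_
  have h1 := D.zp_eq_one (D.proj_eq_one.1 h) D.i_sq
  have := D.K.Φ_inj (x := 373) (y := 0) (by norm_num) (by norm_num) (h1.trans D.K.Φ_zero.symm)
  omega

theorem centralizer_i_equiv :
    Nonempty (centralizer ({D.proj D.iC} : Set (D.Cw ⧸ D.Zw)) ≃* DihedralGroup 4) := by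
  obtain ⟨d1, d0, d60, dm, di, dw, -⟩ := dC_facts
  let F : DihedralGroup 4 → D.Cw := fun a => ⟨D.ΦI (dC a), D.ΦI_mem (d1 a).1 (d1 a).2⟩
  have hF : ∀ a, D.proj (F a) ∈ centralizer ({D.proj D.iC} : Set (D.Cw ⧸ D.Zw)) := fun a => by
    rw [mem_centralizer_singleton_iff, ← map_mul, ← map_mul]
    exact congrArg _ (Subtype.ext (D.ΦI_comm_i (d1 a).1))
  have hmul : ∀ a b, D.proj (F (a * b)) = D.proj (F a) * D.proj (F b) := fun a b => by
    obtain ⟨k, hk⟩ := dm a b
    rw [← map_mul, QuotientGroup.mk'_apply, QuotientGroup.mk'_apply, QuotientGroup.eq,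
      mem_subgroupOf]
    have e : D.ΦI (dC a) * D.ΦI (dC b) = D.ΦI (dC (a * b)) * D.ΦI (w19 k) := by
      rw [← D.ΦI_mul (d1 a).1 (d1 b).1, hk, D.ΦI_mul (d1 _).1 (dw k)]
    show (D.ΦI (dC (a * b)))⁻¹ * (D.ΦI (dC a) * D.ΦI (dC b)) ∈ _
    rw [e, inv_mul_cancel_left]
    exact D.w19_zp k
  let φ : DihedralGroup 4 →* centralizer ({D.proj D.iC} : Set (D.Cw ⧸ D.Zw)) :=
    MonoidHom.mk' (fun a => ⟨D.proj (F a), hF a⟩) fun a b => Subtype.ext (hmul a b)
  have hzw : ∀ {y : G}, y ∈ zpowers D.L.w → ∃ k : Fin 3, y = D.ΦI (w19 k) := by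
    intro y hy
    obtain ⟨n, rfl⟩ := mem_zpowers_iff.1 hy
    have h3 : D.L.w ^ n = D.L.w ^ (n % 3).toNat := by
      have hord : D.L.w ^ (3 : ℤ) = 1 := by
        rw [show (3 : ℤ) = ((3 : ℕ) : ℤ) from rfl, zpow_natCast, D.w_cube]
      rw [← zpow_natCast, Int.toNat_of_nonneg (Int.emod_nonneg n (by norm_num))]
      conv_lhs => rw [← Int.emod_add_mul_ediv n 3, zpow_add, zpow_mul, hord, one_zpow, mul_one]
    have hlt : (n % 3).toNat < 3 := by omega
    refine ⟨⟨(n % 3).toNat, hlt⟩, ?_⟩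
    rw [h3]
    generalize (n % 3).toNat = m at hlt ⊢
    interval_cases m
    · show _ = D.ΦI 0; rw [D.ΦI_zero, pow_zero]
    · show _ = D.ΦI 19; rw [D.ΦI_w, pow_one]
    · show _ = D.ΦI (cm 19 19)
      rw [D.ΦI_mul (by norm_num) (by norm_num), D.ΦI_w, sq]
  refine ⟨(MulEquiv.ofBijective φ ⟨(injective_iff_map_eq_one φ).2 fun a ha => ?_, ?_⟩).symm⟩
  · have h1 : D.proj (F a) = 1 := congrArg Subtype.val ha
    obtain ⟨k, hk⟩ := hzw (D.proj_eq_one.1 h1)
    exact di a ⟨k, D.ΦI_inj (d1 a).1 (dw k) hk⟩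
  · rintro ⟨y, hy⟩
    obtain ⟨y, rfl⟩ := QuotientGroup.mk'_surjective D.Zw y
    have hc := D.comm_of_proj D.iC_sq (mem_centralizer_singleton_iff.1 hy)
    obtain ⟨c, hc', e⟩ := D.exists_ΦI (y := (y : G)) (congrArg Subtype.val hc :)
    have hcomm : cm c 19 = cm 19 c := (D.ΦI_comm_iff hc' (by norm_num)).1 (by
      rw [e, D.ΦI_w]; exact D.mem_Cw.1 y.2)
    have h := allBelow_spec dC_surj_all c hc'
    simp only [hcomm, Nat.beq_refl, Bool.not_true, Bool.false_or, decide_eq_true_eq] at h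
    obtain ⟨a, k, hak⟩ := h
    refine ⟨a, Subtype.ext ?_⟩
    show D.proj (F a) = D.proj y
    rw [QuotientGroup.mk'_apply, QuotientGroup.mk'_apply, QuotientGroup.eq, mem_subgroupOf]
    show (D.ΦI (dC a))⁻¹ * (y : G) ∈ _
    rw [← e, hak, D.ΦI_mul (d1 a).1 (dw k), inv_mul_cancel_left]
    exact D.w19_zp k

theorem five_dvd : 5 ∣ Nat.card (D.Cw ⧸ D.Zw) := by
  haveI : Fact (Nat.Prime 5) := ⟨by norm_num⟩
  have h : orderOf (D.proj D.fC) = 5 := by
    refine orderOf_eq_prime ?_ fun h => D.f_ne_one ?_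
    · rw [← map_pow, show D.fC ^ 5 = 1 from Subtype.ext D.f_pow, map_one]
    · have h3 : D.f ^ 3 = 1 := D.zp_cube (D.proj_eq_one.1 h)
      have h6 : D.f ^ 6 = 1 := by rw [show 6 = 3 * 2 from rfl, pow_mul, h3, one_pow]
      rwa [show 6 = 5 + 1 from rfl, pow_succ, D.f_pow, one_mul] at h6
  exact h ▸ orderOf_dvd_natCard _

include D in
theorem card_conj_z {v : G} (hv : orderOf v = 2) :
    Nat.card (centralizer ({v} : Set G)) = 1920 := by
  obtain ⟨c, hc⟩ := isConj_iff.1 (D.hone S.z v S.ord hv)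
  rw [← S.card_C]
  refine (Nat.card_congr (Equiv.subtypeEquiv (MulAut.conj c).toEquiv fun y => ?_)).symm
  show y ∈ S.C ↔ c * y * c⁻¹ ∈ centralizer ({v} : Set G)
  rw [S.mem_C, mem_centralizer_singleton_iff, ← hc, conj_mul, conj_mul]
  exact (MulAut.conj c).injective.eq_iff.symm

theorem not_perm_five : ¬ Nonempty ((D.Cw ⧸ D.Zw) ≃* Equiv.Perm (Fin 5)) := by
  rintro ⟨e⟩
  obtain ⟨v₀, hv₀⟩ := QuotientGroup.mk'_surjective D.Zw (e.symm (Equiv.swap (0 : Fin 5) 1))
  obtain ⟨y, hy⟩ := QuotientGroup.mk'_surjective D.Zw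
    (e.symm (Equiv.swap (2 : Fin 5) 3 * Equiv.swap 3 4))
  change D.proj v₀ = _ at hv₀
  change D.proj y = _ at hy
  have hev : ∀ {a : D.Cw} {σ : Equiv.Perm (Fin 5)}, D.proj a = e.symm σ → ∀ n : ℕ,
      σ ^ n = 1 → (a : G) ^ n ∈ zpowers D.L.w := fun {a σ} ha n hn => by
    rw [← SubgroupClass.coe_pow, ← D.proj_eq_one, map_pow, ha, ← map_pow, hn, map_one]
  set v := v₀ ^ 3 with hvdef
  have hv : D.proj v = e.symm (Equiv.swap (0 : Fin 5) 1) := by
    rw [hvdef, map_pow, hv₀, ← map_pow]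
    exact congrArg e.symm (by decide +kernel)
  have hv2 : v * v = 1 := by
    have h := D.zp_cube (hev hv₀ 2 (by decide +kernel))
    rw [← pow_mul] at h
    exact Subtype.ext (by
      show ((v₀ : G) ^ 3) * ((v₀ : G) ^ 3) = 1
      rw [← pow_add]; exact h)
  have hvo : orderOf (v : G) = 2 := by
    refine orderOf_eq_prime (by rw [sq]; exact congrArg Subtype.val hv2) fun h => ?_
    have h1 : D.proj v = 1 := by rw [show v = 1 from Subtype.ext h, map_one]
    rw [hv] at h1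
    have h2 : Equiv.swap (0 : Fin 5) 1 = 1 :=
      e.symm.injective (h1.trans (map_one e.symm).symm)
    exact absurd h2 (by decide +kernel)
  set B := centralizer ({v} : Set D.Cw) with hB
  have hyB : y ∈ B := mem_centralizer_singleton_iff.2 (D.comm_of_proj hv2 (by
    rw [hv, hy, ← map_mul, ← map_mul]
    exact congrArg e.symm (by decide +kernel)))
  let πB : B →* D.Cw ⧸ D.Zw := D.proj.comp B.subtype
  haveI : Fact (Nat.Prime 3) := ⟨Nat.prime_three⟩
  have hw : (⟨D.L.w, D.mem_Cw.2 rfl⟩ : D.Cw) ∈ B :=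
    mem_centralizer_singleton_iff.2 (Subtype.ext (D.mem_Cw.1 v.2).symm)
  have hk : 3 ∣ Nat.card πB.ker := by
    have ho : orderOf (⟨⟨_, hw⟩, MonoidHom.mem_ker.2 (D.proj_eq_one.2 (mem_zpowers D.L.w))⟩ :
        πB.ker) = 3 := by
      rw [← Subgroup.orderOf_coe, ← Subgroup.orderOf_coe, ← Subgroup.orderOf_coe]
      exact orderOf_eq_prime D.w_cube D.w_ne_one
    exact ho ▸ orderOf_dvd_natCard _
  have hr : 3 ∣ Nat.card πB.range := by
    have ho : orderOf (D.proj y) = 3 := by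
      rw [hy, e.symm.orderOf_eq]
      exact orderOf_eq_prime (by decide +kernel) (by decide +kernel)
    exact ho ▸ Subgroup.orderOf_dvd_natCard _ ⟨⟨y, hyB⟩, rfl⟩
  have h9 : 9 ∣ Nat.card B := by
    rw [← Subgroup.card_mul_index πB.ker, Subgroup.index_ker]
    exact Nat.mul_dvd_mul hk hr
  have hle : Nat.card B ∣ 1920 := by
    rw [← D.card_conj_z hvo, ← Nat.card_congr
      (B.equivMapOfInjective _ D.Cw.subtype_injective).toEquiv.symm]
    refine card_dvd_of_le ?_
    rintro _ ⟨b, hb, rfl⟩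
    exact mem_centralizer_singleton_iff.2
      (congrArg Subtype.val (mem_centralizer_singleton_iff.1 hb) :)
  exact absurd (h9.trans hle) (by decide)

theorem exists_alt_six : Nonempty ((D.Cw ⧸ D.Zw) ≃* alternatingGroup (Fin 6)) := by
  classical
  obtain ⟨eD⟩ := D.centralizer_i_equiv
  have h5 := D.five_dvd
  by_cases hno : ∀ H : Subgroup (D.Cw ⧸ D.Zw), H.index ≠ 2
  · rcases Small.recognition_of_no_index_two _ D.proj_i_order eD hno with h | ⟨⟨h⟩⟩
    · exact h
    · exfalso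
      haveI : Fact (Nat.Prime 7) := ⟨by norm_num⟩
      rw [Nat.card_congr h.toEquiv] at h5
      have hc := Small.card_PSL_two_prime (F := ZMod 7) (ZMod.card 7) (by decide)
      rw [show 7 * (7 ^ 2 - 1) = 336 from rfl] at hc
      omega
  · push Not at hno
    obtain ⟨M, hM⟩ := hno
    exfalso
    rcases Small.recognition_of_index_two _ D.proj_i_order eD hM with h | ⟨⟨h⟩⟩ | h
    · -- a normal 2-complement is impossible
      set C := centralizer ({D.proj D.iC} : Set (D.Cw ⧸ D.Zw))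
      set O := Cfsg.oddCore (D.Cw ⧸ D.Zw)
      haveI hOn : O.Normal := inferInstance
      let k : D.Cw := ⟨D.K.Φ 19, D.mem_Cw.2 (by
        have := D.L.comm 1 (by norm_num)
        rw [gen_facts.2.2.1] at this
        exact this.symm)⟩
      have hk3 : D.proj k ^ 3 = 1 := by
        rw [← map_pow, show k ^ 3 = 1 from Subtype.ext (show D.K.Φ 19 ^ 3 = 1 by
          rw [pow_succ, pow_two, ← D.K.Φ_mul (by norm_num) (by norm_num),
            ← D.K.Φ_mul (cm_lt (by norm_num) (by norm_num)) (by norm_num),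
            show cm (cm 19 19) 19 = 0 by decide +kernel, D.K.Φ_zero]), map_one]
      let q : (D.Cw ⧸ D.Zw) →* (D.Cw ⧸ D.Zw) ⧸ O := QuotientGroup.mk' O
      have hsurj : Function.Surjective (q.comp C.subtype) := by
        intro a
        obtain ⟨b, rfl⟩ := QuotientGroup.mk'_surjective O a
        have hb : b ∈ C ⊔ O := h ▸ mem_top b
        obtain ⟨c, hc, o, ho, rfl⟩ := Subgroup.mem_sup_of_normal_right.1 hb
        exact ⟨⟨c, hc⟩, by
          show q c = q (c * o)
          rw [map_mul, show q o = 1 from (QuotientGroup.eq_one_iff o).2 ho, mul_one]⟩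
      have hdvd := Subgroup.card_dvd_of_surjective _ hsurj
      rw [Nat.card_congr eD.toEquiv, DihedralGroup.nat_card] at hdvd
      have hkO : D.proj k ∈ O := by
        rw [← QuotientGroup.eq_one_iff]
        refine orderOf_eq_one_iff.1 (Nat.eq_one_of_dvd_one ?_)
        have h8 := (orderOf_dvd_natCard (q (D.proj k))).trans hdvd
        have h3 : orderOf (q (D.proj k)) ∣ 3 :=
          orderOf_dvd_of_pow_eq_one (by rw [← map_pow, hk3, map_one])
        exact Nat.dvd_gcd h3 h8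
      set c := k * D.iC * k⁻¹ * D.iC⁻¹ with hcdef
      have hcO : D.proj c ∈ O := by
        rw [hcdef, map_mul, map_mul, map_mul, map_inv, map_inv, mul_assoc, mul_assoc]
        exact mul_mem hkO (by rw [← mul_assoc]; exact hOn.conj_mem _ (inv_mem hkO) _)
      have hcv : (c : G) = D.K.Φ 823 := by
        obtain ⟨-, -, -, -, -, -, e1, -⟩ := dC_facts
        rw [← e1, D.K.Φ_mul (cm_lt (cm_lt (by norm_num) (by norm_num)) (ci_ok (by norm_num)).1)
          (ci_ok (by norm_num)).1, D.K.Φ_conj (by norm_num) (by norm_num), D.K.Φ_ci (by norm_num)]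
        rfl
      have hc2 : c * c = 1 := Subtype.ext (by
        show (c : G) * (c : G) = 1
        rw [hcv, ← D.K.Φ_mul (by norm_num) (by norm_num), dC_facts.2.2.2.2.2.2.2, D.K.Φ_zero])
      have hco : orderOf (D.proj c) = 2 := by
        refine orderOf_eq_prime (by rw [sq, ← map_mul, hc2, map_one]) fun h1 => ?_
        have e := D.zp_eq_one (D.proj_eq_one.1 h1) (congrArg Subtype.val hc2)
        rw [hcv] at e
        have := D.K.Φ_inj (x := 823) (y := 0) (by norm_num) (by norm_num) (e.trans D.K.Φ_zero.symm)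
        omega
      exact (Nat.not_even_iff_odd.2 (CfsgLib.Base.odd_card_oddCore _))
        (even_iff_two_dvd.2 (hco ▸ Subgroup.orderOf_dvd_natCard _ hcO))
    · rw [Nat.card_congr h.toEquiv, Nat.card_perm, Nat.card_fin] at h5
      exact absurd h5 (by decide)
    · exact D.not_perm_five h

theorem card_quot : Nat.card (D.Cw ⧸ D.Zw) = 360 := by
  obtain ⟨e⟩ := D.exists_alt_six
  rw [Nat.card_congr e.toEquiv, nat_card_alternatingGroup, Nat.card_fin]
  rfl

theorem card_Cw : Nat.card D.Cw = 1080 := by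
  rw [card_eq_card_quotient_mul_card_subgroup D.Zw, D.card_quot, D.card_Zw]

/-- The elements commuting with `w` and `f`. -/
theorem cent_w_f {y : G} (hw : y * D.L.w = D.L.w * y) (hf : y * D.f = D.f * y) :
    ∃ b : ℕ, y * (D.f ^ b)⁻¹ ∈ zpowers D.L.w := by
  classical
  obtain ⟨e⟩ := D.exists_alt_six
  haveI : Fact (Nat.Prime 5) := ⟨by norm_num⟩
  set a : Equiv.Perm (Fin 6) := (e (D.proj D.fC)).1 with hadef
  have ha5 : a ^ 5 = 1 := by
    rw [hadef, ← SubgroupClass.coe_pow, ← map_pow, ← map_pow,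
      show D.fC ^ 5 = 1 from Subtype.ext D.f_pow, map_one, map_one]
    rfl
  have ha1 : a ≠ 1 := fun h => D.f_ne_one (by
    have h1 : D.proj D.fC = 1 := e.injective ((Subtype.ext h).trans (map_one e).symm)
    have h3 : D.f ^ 3 = 1 := D.zp_cube (D.proj_eq_one.1 h1)
    have h6 : D.f ^ 6 = 1 := by rw [show 6 = 3 * 2 from rfl, pow_mul, h3, one_pow]
    rwa [show 6 = 5 + 1 from rfl, pow_succ, D.f_pow, one_mul] at h6)
  have hao : orderOf a = 5 := orderOf_eq_prime ha5 ha1
  obtain ⟨k, hk⟩ := Equiv.Perm.cycleType_prime_order (σ := a) (by rw [hao]; norm_num)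
  rw [hao] at hk
  have hsum := a.sum_cycleType_le
  rw [hk, Multiset.sum_replicate, smul_eq_mul, Fintype.card_fin] at hsum
  obtain rfl : k = 0 := by omega
  have hcard : Nat.card (centralizer ({a} : Set (Equiv.Perm (Fin 6)))) = 5 := by
    rw [Equiv.Perm.nat_card_centralizer, hk]
    decide +kernel
  have heq : zpowers a = centralizer ({a} : Set (Equiv.Perm (Fin 6))) := by
    refine Subgroup.eq_of_le_of_card_ge ?_ (by rw [hcard, Nat.card_zpowers, hao])
    rw [zpowers_le, mem_centralizer_singleton_iff]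
  set yC : D.Cw := ⟨y, D.mem_Cw.2 hw⟩
  have hy : (e (D.proj yC)).1 ∈ zpowers a := by
    rw [heq, mem_centralizer_singleton_iff, hadef, ← Subgroup.coe_mul, ← Subgroup.coe_mul,
      ← map_mul, ← map_mul, ← map_mul, ← map_mul,
      show yC * D.fC = D.fC * yC from Subtype.ext hf]
  obtain ⟨b, hb⟩ := (isOfFinOrder_of_finite a).mem_zpowers_iff_mem_range_orderOf.1 hy |>
    Finset.mem_image.1
  refine ⟨b, ?_⟩
  have h1 : D.proj (yC * (D.fC ^ b)⁻¹) = 1 := by
    rw [map_mul, map_inv, map_pow, mul_inv_eq_one]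
    refine e.injective (Subtype.ext ?_)
    rw [map_pow, SubgroupClass.coe_pow]
    exact hb.2.symm
  exact D.proj_eq_one.1 h1

end Ctx

end CfsgLib.J3Unique
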