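import Cfsg.Agent.Lib.J3Unique.Classes

/-!
# The image is everything
-/

set_option autoImplicit false
set_option linter.unusedSectionVars false
set_option maxRecDepth 100000
set_option synthInstance.maxSize 1024
set_option synthInstance.maxHeartbeats 400000

namespace CfsgLib.J3Unique

open Subgroup
open CfsgLib.Small.JTwoType (Pre)
open CfsgLib.Involutions

theorem index_facts : ∀ k ∈ Nat.divisors 2907, k % 128 = 1 → k = 1 := by decide +kernel

variable {G : Type*} [Group G] [Finite G] {S : Pre G}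

namespace Ctx

variable (D : Ctx S)

theorem smul_base_iff {g : G} : g • ((1 : G) : G ⧸ D.M) = ((1 : G) : G ⧸ D.M) ↔ g ∈ D.M := by
  rw [SE.smul_mk_eq_iff]
  simp

theorem index_mod (h : D.M ≠ ⊤) : D.M.index % 128 = 1 := by
  classical
  haveI : Fact (Nat.Prime 2) := ⟨Nat.prime_two⟩
  have hse := D.se_of_ne_top h
  obtain ⟨T, hT⟩ : ∃ T : Subgroup G, T ≤ D.M ∧ Nat.card T = 128 := by
    let R : Sylow 2 S.C := default
    refine ⟨(R : Subgroup S.C).map S.C.subtype, (map_subtype_le _).trans D.C_le_M, ?_⟩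
    rw [Subgroup.card_map_of_injective S.C.subtype_injective, R.card_eq_multiplicity, S.card_C,
      show (1920 : ℕ) = 2 ^ 7 * 15 by norm_num, Nat.factorization_mul (by norm_num) (by norm_num),
      Finsupp.add_apply, Nat.factorization_pow_self Nat.prime_two,
      Nat.factorization_eq_zero_of_not_dvd (by norm_num)]
    norm_num
  set x₀ : G ⧸ D.M := ((1 : G) : G ⧸ D.M) with hx₀
  let Y : SubMulAction T (G ⧸ D.M) :=
    { carrier := {y | y ≠ x₀}
      smul_mem' := fun t y hy e => hy (by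
        have e' : (t : G) • y = x₀ := e
        have ht : (t : G) • x₀ = x₀ := D.smul_base_iff.2 (hT.1 t.2)
        exact MulAction.injective (t : G) (e'.trans ht.symm)) }
  have hfree : ∀ y : Y, MulAction.stabilizer T y = ⊥ := by
    intro y
    rw [eq_bot_iff]
    intro t ht
    have e : (t : G) • (y : G ⧸ D.M) = y := congrArg Subtype.val (MulAction.mem_stabilizer_iff.1 ht)
    have hodd := SE.odd_of_two_fixed hse (show x₀ ≠ y from fun e' => y.2 e'.symm)
      (D.smul_base_iff.2 (hT.1 t.2)) e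
    obtain ⟨k, -, hk⟩ := (Nat.dvd_prime_pow Nat.prime_two).1
      (show orderOf (t : G) ∣ 2 ^ 7 by
        rw [Subgroup.orderOf_coe]; exact (orderOf_dvd_natCard t).trans (dvd_of_eq hT.2))
    rw [hk] at hodd
    rcases Nat.eq_zero_or_pos k with hk0 | hk0
    · rw [hk0, pow_zero, orderOf_eq_one_iff] at hk
      exact mem_bot.2 (Subtype.ext hk)
    · exact absurd hodd (by
        rw [Nat.not_odd_iff_even]; exact (Nat.even_pow).2 ⟨even_two, hk0.ne'⟩)
  have hY : 128 ∣ Nat.card Y := by
    rw [Nat.card_congr (MulAction.selfEquivOrbitsQuotientProd hfree), Nat.card_prod, hT.2]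
    exact dvd_mul_left _ _
  have hc : D.M.index = Nat.card Y + 1 := by
    rw [Subgroup.index_eq_card, ← Finite.card_option]
    exact Nat.card_congr (Equiv.optionSubtypeNe x₀).symm
  obtain ⟨j, hj⟩ := hY
  rw [hc, hj]
  omega

theorem M_top_of_card (hG : Nat.card G = 50232960) : D.M = ⊤ := by
  by_contra h
  have h1 := D.index_mod h
  have h2 : D.M.index ∣ 2907 := by
    obtain ⟨j, hj⟩ := D.dvd_card_M
    have e := D.M.card_mul_index
    rw [hj, hG, show (50232960 : ℕ) = 17280 * 2907 by norm_num, mul_assoc] at e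
    exact ⟨j, by have := Nat.eq_of_mul_eq_mul_left (by norm_num : (0:ℕ) < 17280) e; linarith⟩
  exact h (index_eq_one.1 (index_facts _ (Nat.mem_divisors.2 ⟨h2, by norm_num⟩) h1))

theorem exists_odd_subgroup (h : D.M ≠ ⊤) (hM : Nat.card D.M = 50232960) :
    ∃ T : Subgroup D.M, Nat.card T ∣ 392445 ∧ 26163 ≤ Nat.card T := by
  classical
  have hse := D.se_of_ne_top h
  obtain ⟨g, -, hg⟩ := SetLike.exists_of_lt h.lt_top
  set x₀ : G ⧸ D.M := ((1 : G) : G ⧸ D.M) with hx₀
  set y : G ⧸ D.M := (g : G ⧸ D.M) with hy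
  have hxy : x₀ ≠ y := fun e => hg (by
    rw [hx₀, hy, QuotientGroup.eq] at e
    simpa using e)
  let T : Subgroup D.M := (MulAction.stabilizer G y).subgroupOf D.M
  have hodd : Odd (Nat.card T) := (odd_card_iff T).2 fun t ht h2 => by
    have h3 := SE.odd_of_two_fixed hse hxy (D.smul_base_iff.2 t.2)
      (MulAction.mem_stabilizer_iff.1 (mem_subgroupOf.1 ht))
    rw [Subgroup.orderOf_coe, h2] at h3
    exact absurd h3 (by decide)
  have hn : Nat.card {t : G // orderOf t = 2 ∧ t ∈ D.M} = 26163 := by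
    have := D.card_invol_M
    rw [hM] at this
    omega
  have hz : S.z • x₀ = x₀ := D.smul_base_iff.2 D.z_mem_M
  have hcarry : Nat.card {i : G // orderOf i = 2 ∧ i • x₀ = y} = 26163 := by
    rw [SE.card_carry hse S.ord hxy hz, SE.card_fixing, hn]
  have hne : Nonempty {i : G // orderOf i = 2 ∧ i • x₀ = y} :=
    (Nat.card_pos_iff.1 (by omega)).1
  obtain ⟨⟨i₀, hi₀, hm₀⟩⟩ := hne
  have hswap : ∀ i : G, orderOf i = 2 → i • x₀ = y → i • y = x₀ := fun i hi e => by
    rw [← e, ← mul_smul, invol_mul_self hi, one_smul]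
  have hmem : ∀ i : {i : G // orderOf i = 2 ∧ i • x₀ = y}, i₀ * i.1 ∈ D.M := fun i =>
    D.smul_base_iff.1 (by rw [mul_smul, ← hx₀, i.2.2, hswap i₀ hi₀ hm₀])
  have hle : 26163 ≤ Nat.card T := by
    rw [← hcarry]
    refine Nat.card_le_card_of_injective
      (fun i => (⟨⟨i₀ * i.1, hmem i⟩, mem_subgroupOf.2 (MulAction.mem_stabilizer_iff.2 (by
        show (i₀ * i.1) • y = y
        rw [mul_smul, hswap _ i.2.1 i.2.2, hm₀]))⟩ : T)) fun a b e => ?_
    exact Subtype.ext (mul_left_cancel (congrArg (fun t : T => ((t : D.M) : G)) e))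
  refine ⟨T, ?_, hle⟩
  have hd := card_subgroup_dvd_card T
  rw [hM, show (50232960 : ℕ) = 2 ^ 7 * 392445 by norm_num] at hd
  exact (hodd.coprime_two_right.pow_right 7).dvd_of_dvd_mul_left hd

end Ctx

end CfsgLib.J3Unique
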